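import Cfsg.Agent.Mrg.Omega.NOne.SU.Grp3
import Cfsg.Agent.Mrg.Omega.NOne.SU.Defs
import Cfsg.Agent.Mrg.Omega.NOne.SU.Grp1
import Cfsg.Agent.Mrg.Omega.NOne.SU.Basic
import Cfsg.Agent.Mrg.Omega.NOne.SU.HermCo
import Mathlib
import Cfsg.Agent.Mrg.ParSys.Polar.Flags
import Cfsg.Agent.Mrg.ParSys.Main
import Cfsg.Agent.Mrg.Omega.NO1U.PlaneInv

-- merged: Cfsg.Agent.Mrg.Omega.NOne.SU.Grp6
section

section


/-!
# THEOREM UNI, group part 6: the C-step

An element `c ∈ C(V)` with `[c, C_Q(V)] ≤ V` acts on `W = Q/R` as an element of `C_{Q'}(V) V`.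
-/

set_option autoImplicit false
set_option linter.unusedSectionVars false

open Subgroup

namespace Cfsg.Agent.Omega.NOne.SU

variable {G : Type*} [Group G] {k F : Type*} [Field k] [Field F] [Algebra k F]

namespace GIn

variable {T : Quad k F} {S : Sylow 2 G} {V R Q Q' : Subgroup G} {v : k → F → k → G} {p p' : G → F}
variable (h : GIn T S V R Q Q' v p p') (sc : Scal h.sp.form)

variable {Φ : Type*} [AddCommGroup Φ] [Module F Φ] {φ χ : G → Φ} (f : Fld T V R Q Q' v p φ χ)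

theorem comm_mul_V {c c' x : G} (hc : c ∈ centralizer (V : Set G)) (hV : c' * x * c'⁻¹ * x⁻¹ ∈ V) :
    c * c' * x * (c * c')⁻¹ * x⁻¹ = (c' * x * c'⁻¹ * x⁻¹) * (c * x * c⁻¹ * x⁻¹) := by
  have h1 := (mem_centralizer_iff.1 hc) _ hV
  calc c * c' * x * (c * c')⁻¹ * x⁻¹ = (c * (c' * x * c'⁻¹ * x⁻¹)) * (x * c⁻¹ * x⁻¹) := by group
    _ = ((c' * x * c'⁻¹ * x⁻¹) * c) * (x * c⁻¹ * x⁻¹) := by rw [h1]
    _ = _ := by group

/-- the elements of `C(V)` which act on `C_Q(V)` through the hermitian form -/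
def L1 : Subgroup G where
  carrier := {c | c ∈ centralizer (V : Set G) ∧ ∃ χ0 : Φ, ∀ x ∈ Q, x ∈ centralizer (V : Set G) →
    ∃ a, c * x * c⁻¹ * x⁻¹ = v a (h.hmΦ sc f (φ x) χ0) 0}
  one_mem' := ⟨one_mem _, 0, fun x _ _ => ⟨0, by
    rw [h.hmΦ_zero_right, h.v_zero]; group⟩⟩
  mul_mem' := by
    rintro c c' ⟨hc, χ0, h0⟩ ⟨hc', χ1, h1⟩
    refine ⟨mul_mem hc hc', χ1 + χ0, fun x hx hxV => ?_⟩
    obtain ⟨a, ha⟩ := h0 x hx hxV
    obtain ⟨a', ha'⟩ := h1 x hx hxV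
    refine ⟨a' + a, ?_⟩
    rw [comm_mul_V hc (by rw [ha']; exact h.v_mem _ _ _), ha, ha', ← h.v_add, h.hmΦ_add_right, add_zero]
  inv_mem' := by
    rintro c ⟨hc, χ0, h0⟩
    refine ⟨inv_mem hc, χ0, fun x hx hxV => ?_⟩
    obtain ⟨a, ha⟩ := h0 x hx hxV
    refine ⟨a, ?_⟩
    have h1 := (mem_centralizer_iff.1 hc) _ (inv_mem (h.v_mem a (h.hmΦ sc f (φ x) χ0) 0))
    calc c⁻¹ * x * c⁻¹⁻¹ * x⁻¹ = c⁻¹ * (c * x * c⁻¹ * x⁻¹)⁻¹ * c := by group
      _ = c⁻¹ * ((v a (h.hmΦ sc f (φ x) χ0) 0)⁻¹ * c) := by rw [ha]; group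
      _ = c⁻¹ * (c * (v a (h.hmΦ sc f (φ x) χ0) 0)⁻¹) := by rw [h1]
      _ = (v a (h.hmΦ sc f (φ x) χ0) 0)⁻¹ := by group
      _ = _ := h.v_inv _ _ _

theorem L1_Q {x : G} (hx : x ∈ Q) (hxV : x ∈ centralizer (V : Set G)) : x ∈ h.L1 sc f := by
  refine ⟨hxV, 0, fun y hy hyV => ?_⟩
  obtain ⟨a, ha⟩ := h.mem_R.1 (h.sp.comm x hx y hy)
  exact ⟨a, by rw [ha, h.hmΦ_zero_right]⟩

theorem L1_Q' {n : G} (hn : n ∈ Q') (hnV : n ∈ centralizer (V : Set G)) : n ∈ h.L1 sc f :=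
  ⟨hnV, χ n, fun _ hy hyV => ⟨0, h.JP_n sc f hn hnV hy hyV⟩⟩

/-- the elements `t ∈ N(V)` with `[t, C(V)] ≤ L1` -/
def L2 : Subgroup G where
  carrier := {t | t ∈ normalizer (V : Set G) ∧ ∀ c ∈ centralizer (V : Set G), t * c * t⁻¹ * c⁻¹ ∈ h.L1 sc f}
  one_mem' := ⟨one_mem _, fun c _ => by
    have e : 1 * c * 1⁻¹ * c⁻¹ = 1 := by group
    rw [e]; exact one_mem _⟩
  mul_mem' := by
    rintro t t' ⟨ht, h1⟩ ⟨ht', h2⟩
    refine ⟨mul_mem ht ht', fun c hc => ?_⟩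
    have h3 := h2 c hc
    have h4 := h1 _ h3.1
    have h5 := mul_mem (mul_mem h4 h3) (h1 c hc)
    have e : t * (t' * c * t'⁻¹ * c⁻¹) * t⁻¹ * (t' * c * t'⁻¹ * c⁻¹)⁻¹ * (t' * c * t'⁻¹ * c⁻¹) *
        (t * c * t⁻¹ * c⁻¹) = t * t' * c * (t * t')⁻¹ * c⁻¹ := by group
    rwa [e] at h5
  inv_mem' := by
    rintro t ⟨ht, h1⟩
    refine ⟨inv_mem ht, fun c hc => ?_⟩
    have h3 : t⁻¹ * c * t⁻¹⁻¹ ∈ centralizer (V : Set G) := h.CV_conj (inv_mem ht) hc
    have h4 := inv_mem (h1 _ h3)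
    have e : (t * (t⁻¹ * c * t⁻¹⁻¹) * t⁻¹ * (t⁻¹ * c * t⁻¹⁻¹)⁻¹)⁻¹ = t⁻¹ * c * t⁻¹⁻¹ * c⁻¹ := by group
    rwa [e] at h4

theorem QQ'_le : Q ⊔ Q' ≤ h.L2 sc f := by
  apply sup_le
  · intro t ht
    refine ⟨h.Q_le_N ht, fun c hc => ?_⟩
    have h1 := h.comm_CV hc ht
    have h2 := inv_mem (h.L1_Q sc f h1.1 h1.2)
    have e : (c * t * c⁻¹ * t⁻¹)⁻¹ = t * c * t⁻¹ * c⁻¹ := by group
    rwa [e] at h2
  · intro t ht
    refine ⟨h.Q'_le_N t ht, fun c hc => ?_⟩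
    have h1 : t * c * t⁻¹ * c⁻¹ ∈ Q' := by
      have := h.nor' c hc t⁻¹ (inv_mem ht)
      have e : t * c * t⁻¹ * c⁻¹ = t * (c * t⁻¹ * c⁻¹) := by group
      rw [e]
      exact mul_mem ht this
    exact h.L1_Q' sc f h1 (mul_mem (h.CV_conj (h.Q'_le_N t ht) hc) (inv_mem hc))

/-- there is a scalar `s ≠ 0, 1` -/
theorem exists_s (T : Quad k F) : ∃ s : k, s ≠ 0 ∧ s ≠ 1 := by
  have := T.fink
  by_contra hcon
  push Not at hcon
  have h1 : Nat.card k ≤ Nat.card Bool := by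
    classical
    apply Nat.card_le_card_of_injective (fun s : k => decide (s = 0))
    intro a b hab
    simp only [decide_eq_decide] at hab
    by_cases ha : a = 0
    · rw [ha, hab.1 ha]
    · rw [hcon a ha, hcon b (fun hb => ha (hab.2 hb))]
  have h2 := T.four
  have h3 : Nat.card Bool = 2 := by simp
  omega

/-- **the C-step, first half**: `c ∈ C(V)`, `[c, C_Q(V)] ≤ V` ⇒ `c` acts through the hermitian form -/
theorem L1_of [Finite G] {c : G} (hc : c ∈ centralizer (V : Set G))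
    (hB : ∀ x ∈ Q, x ∈ centralizer (V : Set G) → ∃ a b, c * x * c⁻¹ * x⁻¹ = v a b 0) : c ∈ h.L1 sc f := by
  classical
  have hcR := h.CV_le_CR hc
  -- `θ`
  have hwell : ∀ x ∈ Q, x ∈ centralizer (V : Set G) → ∀ x' ∈ Q, x' ∈ centralizer (V : Set G) → φ x = φ x' →
      ∀ a b a' b', c * x * c⁻¹ * x⁻¹ = v a b 0 → c * x' * c⁻¹ * x'⁻¹ = v a' b' 0 → b = b' := by
    intro x hx hxV x' hx' hxV' e a b a' b' h1 h2
    obtain ⟨a₀, b₀, h0⟩ := h.φ_eq f hx hxV hx' hxV' e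
    have h3 : c * v a₀ b₀ 0 = v a₀ b₀ 0 * c := ((mem_centralizer_iff.1 hc) _ (h.v_mem _ _ _)).symm
    have h4 : c * x * c⁻¹ * x⁻¹ = v a₀ b₀ 0 * (c * x' * c⁻¹ * x'⁻¹) * (v a₀ b₀ 0)⁻¹ := by
      rw [h0]
      calc c * (v a₀ b₀ 0 * x') * c⁻¹ * (v a₀ b₀ 0 * x')⁻¹ = (c * v a₀ b₀ 0) * x' * c⁻¹ * x'⁻¹ * (v a₀ b₀ 0)⁻¹ := by
            group
        _ = _ := by rw [h3]; group
    rw [h1, h2, h.v_comm, mul_inv_cancel_right] at h4
    exact (h.v_eq h4).2.1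
  let xx : Φ → G := fun u => (f.φ_surj u).choose
  have hxQ : ∀ u, xx u ∈ Q := fun u => (f.φ_surj u).choose_spec.1
  have hxV : ∀ u, xx u ∈ centralizer (V : Set G) := fun u => (f.φ_surj u).choose_spec.2.1
  have hxφ : ∀ u, φ (xx u) = u := fun u => (f.φ_surj u).choose_spec.2.2
  let θ : Φ → F := fun u => (hB (xx u) (hxQ u) (hxV u)).choose_spec.choose
  have hθ0 : ∀ u, ∃ a, c * xx u * c⁻¹ * (xx u)⁻¹ = v a (θ u) 0 := fun u =>
    ⟨(hB (xx u) (hxQ u) (hxV u)).choose, (hB (xx u) (hxQ u) (hxV u)).choose_spec.choose_spec⟩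
  have hθ : ∀ x ∈ Q, x ∈ centralizer (V : Set G) → ∃ a, c * x * c⁻¹ * x⁻¹ = v a (θ (φ x)) 0 := by
    intro x hx hxV'
    obtain ⟨a, b, hab⟩ := hB x hx hxV'
    obtain ⟨a', ha'⟩ := hθ0 (φ x)
    have := hwell x hx hxV' _ (hxQ _) (hxV _) (hxφ _).symm a b a' _ hab ha'
    exact ⟨a, by rw [hab, this]⟩
  -- `θ` is `k`-linear
  let _ : Module k Φ := Module.compHom Φ (algebraMap k F)
  have _ : IsScalarTower k F Φ := IsScalarTower.of_algebraMap_smul fun _ _ => rfl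
  have hlin : ∀ (s : k) (u : Φ), θ (algebraMap k F s • u) = algebraMap k F s * θ u := by
    intro s u
    obtain ⟨x, hx, hxV', rfl⟩ := f.φ_surj u
    obtain ⟨x2, hx2, he⟩ := h.prM_surj sc (s • h.prM sc x)
    have hxV2 : x2 ∈ centralizer (V : Set G) := by
      rw [← h.BM_eq_zero sc hx2, he, map_smul, (h.BM_eq_zero sc hx).2 hxV', smul_zero]
    have h1 := h.φ_smul sc f s hx hxV' hx2 hxV2 he
    have h3 : algebraMap k F s • φ x = φ x2 := by rw [h1, algebraMap_smul]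
    obtain ⟨a, ha⟩ := hθ x hx hxV'
    obtain ⟨a2, ha2⟩ := hθ x2 hx2 hxV2
    have h4 := h.prM_comm sc hcR hx
    have h5 := h.prM_comm sc hcR hx2
    rw [ha, h.prM_E] at h4
    rw [ha2, h.prM_E, he, map_smul, h4, smul_add] at h5
    have h6 := add_left_cancel h5
    rw [← map_smul] at h6
    rw [h3, ← h.epM_inj sc h6, Algebra.smul_def]
  obtain ⟨s, hs0, hs1⟩ := exists_s T
  have hz : algebraMap k F s ≠ 0 := by
    rw [Ne, map_eq_zero]; exact hs0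
  obtain ⟨t, htQ, ht1, -, ht3, -⟩ := f.tor _ hz
  have htR := h.tor_NR hz ht1
  have htV := h.tor_NV hz ht1
  have h1 := ((h.QQ'_le sc f) htQ).2 c hc
  obtain ⟨-, χ0, hχ0⟩ := h1
  -- `[t c t⁻¹, x]`
  have h2 : ∀ x ∈ Q, x ∈ centralizer (V : Set G) →
      ∃ a, (t * c * t⁻¹) * x * (t * c * t⁻¹)⁻¹ * x⁻¹ = v a (algebraMap k F s⁻¹ * θ (φ x)) 0 := by
    intro x hx hxV'
    have hx1 : t⁻¹ * x * t ∈ Q := h.nor_inv htR hx
    have hx2 : t⁻¹ * x * t ∈ centralizer (V : Set G) := by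
      have := h.CV_conj (inv_mem htV) hxV'
      rwa [inv_inv] at this
    have h3 : φ (t⁻¹ * x * t) = algebraMap k F s⁻¹ • φ x := by
      have h4 := ht3 _ hx1 hx2
      have e : t * (t⁻¹ * x * t) * t⁻¹ = x := by group
      rw [e] at h4
      rw [h4, smul_smul, ← map_mul, inv_mul_cancel₀ hs0, map_one, one_smul]
    obtain ⟨a, ha⟩ := hθ _ hx1 hx2
    rw [h3, hlin] at ha
    have h5 := ht1 a (algebraMap k F s⁻¹ * θ (φ x)) 0
    rw [T.sg_alg, mul_inv_cancel₀ hz, one_mul, mul_zero] at h5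
    refine ⟨_, Eq.trans ?_ h5⟩
    rw [← ha]
    group
  -- so `θ = (s⁻¹ + 1)⁻¹ hm (·, χ0)`
  have hs : s⁻¹ + 1 ≠ 0 := by
    intro h3
    apply hs1
    have h4 : s * (s⁻¹ + 1) = 0 := by rw [h3, mul_zero]
    rw [mul_add, mul_inv_cancel₀ hs0, mul_one] at h4
    calc s = (1 + s) + 1 + (-(1 + 1)) := by ring
      _ = 1 := by
        rw [h4]
        have := h.h2
        have e : (1 : k) + 1 = 2 := by norm_num
        rw [e, this]; ring
  have h3 : ∀ u, h.hmΦ sc f u χ0 = algebraMap k F (s⁻¹ + 1) * θ u := by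
    intro u
    obtain ⟨x, hx, hxV', rfl⟩ := f.φ_surj u
    obtain ⟨a, ha⟩ := hχ0 x hx hxV'
    obtain ⟨a1, ha1⟩ := h2 x hx hxV'
    obtain ⟨a2, ha2⟩ := hθ x hx hxV'
    have h4 : c⁻¹ * x * c⁻¹⁻¹ * x⁻¹ = v a2 (θ (φ x)) 0 := by
      have h5 := (mem_centralizer_iff.1 hc) _ (inv_mem (h.v_mem a2 (θ (φ x)) 0))
      calc c⁻¹ * x * c⁻¹⁻¹ * x⁻¹ = c⁻¹ * (c * x * c⁻¹ * x⁻¹)⁻¹ * c := by group
        _ = c⁻¹ * ((v a2 (θ (φ x)) 0)⁻¹ * c) := by rw [ha2]; group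
        _ = c⁻¹ * (c * (v a2 (θ (φ x)) 0)⁻¹) := by rw [h5]
        _ = (v a2 (θ (φ x)) 0)⁻¹ := by group
        _ = _ := h.v_inv _ _ _
    have h6 := comm_mul_V (V := V) (c := t * c * t⁻¹) (c' := c⁻¹) (x := x) (h.CV_conj htV hc)
      (by rw [h4]; exact h.v_mem _ _ _)
    rw [h4, ha1, ← h.v_add, ha, add_zero] at h6
    rw [(h.v_eq h6).2.1, map_add, map_one]
    ring
  refine ⟨hc, (algebraMap k F (s⁻¹ + 1))⁻¹ • χ0, fun x hx hxV' => ?_⟩
  obtain ⟨a, ha⟩ := hθ x hx hxV'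
  refine ⟨a, ?_⟩
  have h5 : algebraMap k F (s⁻¹ + 1) ≠ 0 := by
    rw [Ne, map_eq_zero]; exact hs
  rw [ha, h.hmΦ_smul_right, h3, map_inv₀, T.sg_alg, inv_mul_cancel_left₀ h5]

include h sc f in
/-- **the C-step** -/
theorem cstep [Finite G] {c : G} (hc : c ∈ centralizer (V : Set G))
    (hB : ∀ x ∈ Q, x ∈ centralizer (V : Set G) → ∃ a b, c * x * c⁻¹ * x⁻¹ = v a b 0) :
    ∃ n ∈ Q', n ∈ centralizer (V : Set G) ∧ ∃ d, c * n⁻¹ * v 0 0 d ∈ Q := by
  obtain ⟨-, χ1, hχ1⟩ := h.L1_of sc f hc hB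
  obtain ⟨n, hn, hnV, rfl⟩ := f.χ_surj χ1
  refine ⟨n, hn, hnV, ?_⟩
  have hc1 : c * n⁻¹ ∈ centralizer (V : Set G) := mul_mem hc (inv_mem hnV)
  have hc1R := h.CV_le_CR hc1
  have h1 : ∀ x ∈ Q, x ∈ centralizer (V : Set G) → c * n⁻¹ * x * (c * n⁻¹)⁻¹ * x⁻¹ ∈ R := by
    intro x hx hxV
    obtain ⟨a, ha⟩ := hχ1 x hx hxV
    have h2 := h.JP_n sc f hn hnV hx hxV
    have h4 : n⁻¹ * x * n⁻¹⁻¹ * x⁻¹ = v 0 (h.hmΦ sc f (φ x) (χ n)) 0 := by
      have h5 := (mem_centralizer_iff.1 hnV) _ (inv_mem (h.v_mem 0 (h.hmΦ sc f (φ x) (χ n)) 0))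
      calc n⁻¹ * x * n⁻¹⁻¹ * x⁻¹ = n⁻¹ * (n * x * n⁻¹ * x⁻¹)⁻¹ * n := by group
        _ = n⁻¹ * ((v 0 (h.hmΦ sc f (φ x) (χ n)) 0)⁻¹ * n) := by rw [h2]; group
        _ = n⁻¹ * (n * (v 0 (h.hmΦ sc f (φ x) (χ n)) 0)⁻¹) := by rw [h5]
        _ = (v 0 (h.hmΦ sc f (φ x) (χ n)) 0)⁻¹ := by group
        _ = _ := h.v_inv _ _ _
    rw [comm_mul_V hc (by rw [h4]; exact h.v_mem _ _ _), h4, ha, ← h.v_add, T.add_self (h2 := h.h2), add_zero]
    exact h.mem_R.2 ⟨_, rfl⟩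
  apply h.act_as_V sc hc1R _ h1
  intro y hy
  have h2 := h.comm_CV hc1 hy
  apply h.mem_E_of_comm (sc := sc) h2.1
  intro x hx hxV
  have h3 := isom (ind_linC (sc := sc) _ hc1R).mem (h.prM sc x) (h.prM sc y)
  rw [h.prM_comm sc hc1R hx, h.prM_comm sc hc1R hy, (h.prM_eq_zero sc (h.comm_CV hc1 hx).1).2 (h1 x hx hxV),
    add_zero, map_add, h.fM_pr sc hx h2.1] at h3
  have h4 := (h.sp.co_eq_zero (h.sp.comm x hx _ h2.1)).1 (add_eq_left.1 h3)
  set u := c * n⁻¹ * y * (c * n⁻¹)⁻¹ * y⁻¹ with hu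
  calc u * x = (x * u * x⁻¹ * u⁻¹)⁻¹ * (x * u) := by group
    _ = x * u := by rw [h4, inv_one, one_mul]

end GIn

end Cfsg.Agent.Omega.NOne.SU

end

section


/-!
# THEOREM UNI, group part: the torus of `Uni`

`exists_tM` : the homomorphism `t : Fˣ → GL(W)` with the fields `tH, te, tB, ty, tf` of `Uni` (`TorusHom.Wt`).
-/

set_option autoImplicit false

open Subgroup

namespace Cfsg.Agent.Omega.NOne.SU

variable {G : Type*} [Group G] {k F : Type*} [Field k] [Field F] [Algebra k F]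

namespace GIn

variable {T : Quad k F} {S : Sylow 2 G} {V R Q Q' : Subgroup G} {v : k → F → k → G} {p p' : G → F}
  {Φ : Type*} [AddCommGroup Φ] [Module F Φ] {φ χ : G → Φ}

/-- an element of the torus normalises `R` -/
theorem tor_mem_NR [Finite G] (h : GIn T S V R Q Q' v p p') {t : G} {z : F}
    (ht : ∀ a b d, t * v a b d * t⁻¹ = v (T.nm z * a) (z * (T.sg z)⁻¹ * b) ((T.nm z)⁻¹ * d)) :
    t ∈ normalizer (R : Set G) := by
  have hR : ∀ x ∈ R, t * x * t⁻¹ ∈ R := by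
    intro x hx
    obtain ⟨a, rfl⟩ := h.mem_R.1 hx
    rw [ht, mul_zero, mul_zero]
    exact h.mem_R.2 ⟨_, rfl⟩
  have hinj : Function.Injective (fun y : R => (⟨t * y * t⁻¹, hR y y.2⟩ : R)) := by
    intro y z hyz
    have h1 := congrArg Subtype.val hyz
    exact Subtype.ext (mul_left_cancel (mul_right_cancel h1))
  have hsurj := Finite.surjective_of_injective hinj
  rw [mem_normalizer_iff]
  intro y
  refine ⟨hR y, fun hy => ?_⟩
  obtain ⟨z, hz⟩ := hsurj ⟨_, hy⟩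
  have h1 : t * (z : G) * t⁻¹ = t * y * t⁻¹ := congrArg Subtype.val hz
  have h3 : (z : G) = y := mul_left_cancel (mul_right_cancel h1)
  rw [← h3]; exact z.2

/-- **the torus element of weight `z`** -/
theorem wt_lin [Finite G] (h : GIn T S V R Q Q' v p p') (sc : Scal h.sp.form) [Module k Φ]
    (y : h.M sc →ₗ[k] Φ) (hy : ∀ x ∈ Q, x ∈ centralizer (V : Set G) → y (h.prM sc x) = φ x) {t : G} {z : F}
    (h1 : ∀ a b d, t * v a b d * t⁻¹ = v (T.nm z * a) (z * (T.sg z)⁻¹ * b) ((T.nm z)⁻¹ * d))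
    (h2 : ∀ y ∈ Q, t * y * t⁻¹ ∈ Q ∧ p (t * y * t⁻¹) = z ^ 2 * p y)
    (h3 : ∀ x ∈ Q, x ∈ centralizer (V : Set G) → φ (t * x * t⁻¹) = z • φ x)
    (hs : ∀ a, t * v a 0 0 * t⁻¹ = v (T.nm z * a) 0 0) :
    TorusHom.Wt T (h.fM sc) (h.H sc) (h.epM sc) (h.BM sc) y (h.lin sc t (h.tor_mem_NR h1) (T.nm z) hs) z := by
  have htR := h.tor_mem_NR h1
  set τ := h.lin sc t htR (T.nm z) hs with hτ
  have hpr : ∀ x ∈ Q, τ (h.prM sc x) = h.prM sc (t * x * t⁻¹) := fun x hx => h.lin_pr sc t htR _ hs hx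
  have hpi : ∀ x ∈ Q, τ⁻¹ (h.prM sc x) = h.prM sc (t⁻¹ * x * t) := by
    intro x hx
    have hx' : t⁻¹ * x * t ∈ Q := h.nor_inv htR hx
    have e : τ (h.prM sc (t⁻¹ * x * t)) = h.prM sc x := by
      rw [hpr _ hx']; congr 1; group
    rw [← e]
    exact τ.symm_apply_apply _
  refine ⟨?_, ?_, ?_, ?_, ?_⟩
  · rintro g ⟨c, hc⟩
    have hcR : t * c * t⁻¹ ∈ centralizer (R : Set G) := by
      rw [mem_centralizer_iff]
      intro r hr
      have h4 : t⁻¹ * r * t ∈ R := by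
        have := (mem_normalizer_iff.1 (inv_mem htR) r).1 hr
        rwa [inv_inv] at this
      have h5 := (mem_centralizer_iff.1 hc.1) _ h4
      calc r * (t * c * t⁻¹) = t * ((t⁻¹ * r * t) * c) * t⁻¹ := by group
        _ = t * (c * (t⁻¹ * r * t)) * t⁻¹ := by rw [h5]
        _ = _ := by group
    refine ⟨t * c * t⁻¹, hcR, fun x hx => ?_⟩
    have hx' : t⁻¹ * x * t ∈ Q := h.nor_inv htR hx
    have e : (τ * g * τ⁻¹) (h.prM sc x) = τ (g (τ⁻¹ (h.prM sc x))) := rfl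
    rw [e, hpi x hx, hc.2 _ hx', hpr _ (h.nor c (h.CR_le_NR hc.1) _ hx')]
    congr 1
    group
  · intro c
    rw [← h.prM_E sc 0 c, hpr _ (h.E_le 0 c), h1, mul_zero, mul_zero, h.prM_E]
  · intro m
    obtain ⟨x, hx, rfl⟩ := h.prM_surj sc m
    rw [hpr x hx, h.BM_pr sc (h2 x hx).1, h.BM_pr sc hx, (h2 x hx).2]
  · intro m hm
    obtain ⟨x, hx, rfl⟩ := h.prM_surj sc m
    rw [h.BM_pr sc hx] at hm
    have hxV := (h.p_eq_zero hx).1 hm
    have hx' := h2 x hx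
    have hx'V : t * x * t⁻¹ ∈ centralizer (V : Set G) := by
      rw [← h.p_eq_zero hx'.1, hx'.2, hm, mul_zero]
    rw [hpr x hx, hy _ hx'.1 hx'V, hy x hx hxV, h3 x hx hxV]
  · intro m m'
    exact h.lin_f sc t htR _ hs m m'

/-- **the torus** -/
theorem exists_tM [Finite G] (h : GIn T S V R Q Q' v p p') (sc : Scal h.sp.form) (f : Fld T V R Q Q' v p φ χ)
    [Module k Φ] (y : h.M sc →ₗ[k] Φ)
    (hy : ∀ x ∈ Q, x ∈ centralizer (V : Set G) → y (h.prM sc x) = φ x)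
    (y_ker : ∀ m, h.BM sc m = 0 → y m = 0 → ∃ c, m = h.epM sc c) :
    ∃ t : Fˣ →* (h.M sc ≃ₗ[k] h.M sc),
      ∀ z : Fˣ, TorusHom.Wt T (h.fM sc) (h.H sc) (h.epM sc) (h.BM sc) y (t z) (z : F) := by
  have hfin : Finite F := by
    apply Nat.finite_of_card_ne_zero
    rw [T.card]
    have := T.four
    positivity
  have : Finite (h.M sc) := h.finiteM sc
  have : CharP k 2 := CharTwo.of_one_ne_zero_of_two_eq_zero one_ne_zero h.h2
  obtain ⟨z0, hz0⟩ := IsCyclic.exists_generator (α := Fˣ)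
  obtain ⟨t, -, h1, h2, h3, -⟩ := f.tor (z0 : F) z0.ne_zero
  have hs : ∀ a, t * v a 0 0 * t⁻¹ = v (T.nm (z0 : F) * a) 0 0 := fun a => by
    rw [h1, mul_zero, mul_zero]
  obtain ⟨tt, htt, -⟩ := TorusHom.exists_t y_ker hz0 (h.wt_lin sc y hy h1 h2 h3 hs)
  exact ⟨tt, htt⟩

/-- **the field `Om` of `Uni`** -/
theorem OmH [Finite G] (h : GIn T S V R Q Q' v p p') (sc : Scal h.sp.form) (f : Fld T V R Q Q' v p φ χ) :
    ∀ N : Submodule k (h.M sc), (∀ g ∈ h.H sc, ∀ c, g (h.epM sc c) ∈ N) → N = ⊤ := by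
  intro N hN
  have h1 : (N.toAddSubgroup : AddSubgroup h.sp.W) = ⊤ := by
    refine h.span f _ ?_
    intro c hc b
    exact hN _ (ind_linC c hc).mem b
  rw [eq_top_iff]
  intro x _
  have h2 : (x : h.sp.W) ∈ (N.toAddSubgroup : AddSubgroup h.sp.W) := by rw [h1]; trivial
  exact h2

end GIn

end Cfsg.Agent.Omega.NOne.SU

end

section


/-!
# THEOREM UNI, group part: an elementary abelian 2-subgroup of the stabiliser of `e`
acts on `e` as a group of order `≤ 2`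

`Se_grp`: the group form (from `S_2` by Sylow's theorem in `N(R) ∩ N(E)`), `Se_cj`: on `W = Q/R`.
-/

set_option autoImplicit false

open Subgroup

namespace Cfsg.Agent.Omega.NOne.SU

variable {G : Type*} [Group G] {k F : Type*} [Field k] [Field F] [Algebra k F]

namespace GIn

variable {T : Quad k F} {S : Sylow 2 G} {V R Q Q' : Subgroup G} {v : k → F → k → G} {p p' : G → F}
  (h : GIn T S V R Q Q' v p p')
include h

theorem mem_E {x : G} : x ∈ V ⊓ Q ↔ ∃ a b, x = v a b 0 := by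
  constructor
  · rintro ⟨hx, hq⟩
    obtain ⟨a, b, d, rfl⟩ := h.v_surj x hx
    have := h.V_Q a b d hq
    subst this
    exact ⟨a, b, rfl⟩
  · rintro ⟨a, b, rfl⟩
    exact ⟨h.v_mem _ _ _, h.E_le _ _⟩

/-- `N(R)` normalises `Q` -/
theorem NR_le_NQ : normalizer (R : Set G) ≤ normalizer (Q : Set G) := by
  intro c hc
  rw [mem_normalizer_iff]
  intro y
  constructor
  · exact fun hy => h.nor c hc y hy
  · intro hy
    have := h.nor_inv hc hy
    have e : c⁻¹ * (c * y * c⁻¹) * c = y := by group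
    rwa [e] at this

/-- an element of `C(R)` which is trivial on `Q/R` is in `Q`. -/
theorem mem_Q_of_triv {c : G} (hc : c ∈ centralizer (R : Set G))
    (ht : ∀ y ∈ Q, c * y * c⁻¹ * y⁻¹ ∈ R) : c ∈ Q := by
  have hR : ∀ c ∈ centralizer (R : Set G), ∀ r ∈ R, c * r * c⁻¹ = r := by
    intro c hc r hr
    rw [mem_centralizer_iff] at hc
    rw [← hc r hr]; group
  let N : Subgroup G :=
    { carrier := {x | x ∈ centralizer (R : Set G) ∧ ∀ y ∈ Q, x * y * x⁻¹ * y⁻¹ ∈ R}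
      one_mem' := ⟨one_mem _, fun y _ => by
        have e : 1 * y * 1⁻¹ * y⁻¹ = 1 := by group
        rw [e]; exact one_mem _⟩
      mul_mem' := fun {a b} ha hb => ⟨mul_mem ha.1 hb.1, fun y hy => by
        have h1 := hR a ha.1 _ (hb.2 y hy)
        have h3 := mul_mem (hb.2 y hy) (ha.2 y hy)
        have e : a * b * y * (a * b)⁻¹ * y⁻¹ =
          (a * (b * y * b⁻¹ * y⁻¹) * a⁻¹) * (a * y * a⁻¹ * y⁻¹) := by group
        rw [e, h1]; exact h3⟩
      inv_mem' := fun {a} ha => ⟨inv_mem ha.1, fun y hy => by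
        have h1 := hR a⁻¹ (inv_mem ha.1) _ (inv_mem (ha.2 y hy))
        have e : a⁻¹ * y * a⁻¹⁻¹ * y⁻¹ = a⁻¹ * (a * y * a⁻¹ * y⁻¹)⁻¹ * a⁻¹⁻¹ := by group
        rw [e, h1]; exact inv_mem (ha.2 y hy)⟩ }
  have hN2 : ∀ x ∈ N, x * x ∈ Q := by
    intro x hx
    apply h.char2
    rw [mem_centralizer_iff]
    intro y hy
    set r := x * y * x⁻¹ * y⁻¹ with hr
    have hrR : r ∈ R := hx.2 y hy
    have h1 : x * y * x⁻¹ = r * y := by rw [hr]; group
    have h3 := hR x hx.1 r hrR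
    have h5 : x * x * y * (x * x)⁻¹ = y := by
      calc x * x * y * (x * x)⁻¹ = x * (x * y * x⁻¹) * x⁻¹ := by group
        _ = x * (r * y) * x⁻¹ := by rw [h1]
        _ = (x * r * x⁻¹) * (x * y * x⁻¹) := by group
        _ = r * r * y := by rw [h3, h1]; group
        _ = y := by rw [h.sp.r_sq hrR, one_mul]
    calc y * (x * x) = (x * x * y * (x * x)⁻¹) * (x * x) := by rw [h5]
      _ = x * x * y := by group
  refine h.max N ?_ (fun x hx => hx.1) ?_ ⟨hc, ht⟩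
  · intro x
    obtain ⟨m, hm⟩ := h.Q_two ⟨(x : G) * x, hN2 x x.2⟩
    refine ⟨m + 1, Subtype.ext ?_⟩
    have h1 := congrArg Subtype.val hm
    simp only [SubmonoidClass.coe_pow, OneMemClass.coe_one] at h1 ⊢
    rw [← h1, ← pow_two, ← pow_mul, pow_succ, mul_comm]
  · intro d hd x hx
    refine ⟨mul_mem (mul_mem hd hx.1) (inv_mem hd), fun y hy => ?_⟩
    have h1 := hx.2 _ (h.nor_inv (h.CR_le_NR hd) hy)
    have e : d * x * d⁻¹ * y * (d * x * d⁻¹)⁻¹ * y⁻¹ =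
      d * (x * (d⁻¹ * y * d) * x⁻¹ * (d⁻¹ * y * d)⁻¹) * d⁻¹ := by group
    rw [e, hR d hd _ h1]
    exact h1

/-- trivial on `E/R` -/
theorem triv_iff {s : G} (hs : s ∈ centralizer (R : Set G)) :
    (∀ b, ∃ a, s * v 0 b 0 * s⁻¹ = v a b 0) ↔ ∀ e ∈ V ⊓ Q, s * e * s⁻¹ * e⁻¹ ∈ R := by
  constructor
  · intro ht e he
    obtain ⟨a, b, rfl⟩ := h.mem_E.1 he
    obtain ⟨a', ha'⟩ := ht b
    have e1 : v a b 0 = v a 0 0 * v 0 b 0 := by rw [← h.v_add, add_zero, zero_add, add_zero]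
    have e2 : s * v a b 0 * s⁻¹ * (v a b 0)⁻¹ =
        (s * v a 0 0 * s⁻¹) * (s * v 0 b 0 * s⁻¹) * (v a b 0)⁻¹ := by rw [e1]; group
    rw [e2, h.CR_v hs, ha', h.v_inv, ← h.v_add, ← h.v_add]
    refine h.mem_R.2 ⟨a + a' + a, ?_⟩
    rw [zero_add, T.add_self (h2 := h.h2), add_zero, add_zero]
  · intro ht b
    have h1 := ht _ (h.mem_E.2 ⟨0, b, rfl⟩)
    obtain ⟨a, ha⟩ := h.mem_R.1 h1
    refine ⟨a, ?_⟩
    have h3 : s * v 0 b 0 * s⁻¹ = v a 0 0 * v 0 b 0 := by rw [← ha]; group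
    rw [h3, ← h.v_add, add_zero, zero_add, add_zero]

/-- **`Se`, the group form** -/
theorem Se_grp [Finite G] {c c' : G} (hc : c ∈ centralizer (R : Set G))
    (hc' : c' ∈ centralizer (R : Set G)) (hE : ∀ e ∈ V ⊓ Q, c * e * c⁻¹ ∈ V ⊓ Q)
    (hE' : ∀ e ∈ V ⊓ Q, c' * e * c'⁻¹ ∈ V ⊓ Q) (h2c : c * c ∈ Q) (h2c' : c' * c' ∈ Q)
    (hcc : c * c' * c⁻¹ * c'⁻¹ ∈ Q) :
    (∀ e ∈ V ⊓ Q, c * e * c⁻¹ * e⁻¹ ∈ R) ∨ (∀ e ∈ V ⊓ Q, c' * e * c'⁻¹ * e⁻¹ ∈ R) ∨
      (∀ e ∈ V ⊓ Q, (c * c') * e * (c * c')⁻¹ * e⁻¹ ∈ R) := by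
  classical
  -- normalisers, in a finite group
  have hnorm : ∀ (A : Subgroup G) (x : G), (∀ y ∈ A, x * y * x⁻¹ ∈ A) → x ∈ normalizer (A : Set G) := by
    intro A x hx
    have hinj : Function.Injective (fun y : A => (⟨x * y * x⁻¹, hx y y.2⟩ : A)) := by
      intro y z hyz
      have h1 := congrArg Subtype.val hyz
      exact Subtype.ext (mul_left_cancel (mul_right_cancel h1))
    have hsurj := Finite.surjective_of_injective hinj
    rw [mem_normalizer_iff]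
    intro y
    refine ⟨hx y, fun hy => ?_⟩
    obtain ⟨z, hz⟩ := hsurj ⟨_, hy⟩
    have h1 : x * (z : G) * x⁻¹ = x * y * x⁻¹ := congrArg Subtype.val hz
    have h3 : (z : G) = y := mul_left_cancel (mul_right_cancel h1)
    rw [← h3]; exact z.2
  have hcN := h.CR_le_NR hc
  have hcN' := h.CR_le_NR hc'
  set E : Subgroup G := V ⊓ Q with hEdef
  let X : Subgroup G := normalizer (R : Set G) ⊓ normalizer (E : Set G)
  have hcX : c ∈ X := ⟨hcN, hnorm E c hE⟩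
  have hcX' : c' ∈ X := ⟨hcN', hnorm E c' hE'⟩
  have hQX : Q ≤ X := by
    intro y hy
    refine ⟨h.CR_le_NR (h.Q_le_CR hy), hnorm E y ?_⟩
    intro e he
    obtain ⟨a, b, rfl⟩ := h.mem_E.1 he
    rw [h.act y hy, map_zero, mul_zero, mul_zero, add_zero, add_zero]
    exact h.mem_E.2 ⟨_, _, rfl⟩
  have hSX : (S : Subgroup G) ≤ X := by
    intro s hs
    refine ⟨h.S_R hs, hnorm E s ?_⟩
    intro e he
    exact ⟨(mem_normalizer_iff.1 (h.S_V hs) e).1 he.1, h.nor s (h.S_R hs) e he.2⟩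
  -- the 2-group
  have hz : ∀ x : G, x * x ∈ Q → IsPGroup 2 (zpowers x) := by
    intro x hx
    obtain ⟨m, hm⟩ := h.Q_two ⟨x * x, hx⟩
    have h1 : x ^ (2 ^ (m + 1)) = 1 := by
      have h1 := congrArg Subtype.val hm
      simp only [SubmonoidClass.coe_pow, OneMemClass.coe_one] at h1
      rw [← h1, ← pow_two, ← pow_mul, pow_succ, mul_comm]
    rintro ⟨y, hy⟩
    obtain ⟨i, rfl⟩ := hy
    refine ⟨m + 1, Subtype.ext ?_⟩
    simp only [SubmonoidClass.coe_pow, OneMemClass.coe_one]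
    rw [← zpow_natCast, zpow_comm, zpow_natCast, h1, one_zpow]
  let D1 : Subgroup G := zpowers c ⊔ Q
  have hD1 : IsPGroup 2 D1 := (hz c h2c).to_sup_of_normal_right' h.Q_two
    (by rw [zpowers_le]; exact h.NR_le_NQ hcN)
  have hcD1 : c ∈ D1 := le_sup_left (a := zpowers c) (mem_zpowers c)
  have hc'D1 : c' ∈ normalizer (D1 : Set G) := by
    apply hnorm
    intro y hy
    have h1 : D1 ≤ D1.comap (MulAut.conj c').toMonoidHom := by
      refine sup_le ?_ ?_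
      · rw [zpowers_le, mem_comap]
        have h3 : (MulAut.conj c').toMonoidHom c = (c * c' * c⁻¹ * c'⁻¹)⁻¹ * c := by
          simp only [MulEquiv.coe_toMonoidHom, MulAut.conj_apply]; group
        rw [h3]
        exact mul_mem (inv_mem (le_sup_right (a := zpowers c) hcc)) hcD1
      · intro q hq
        rw [mem_comap]
        simp only [MulEquiv.coe_toMonoidHom, MulAut.conj_apply]
        exact le_sup_right (a := zpowers c) (h.nor c' hcN' q hq)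
    have h3 := h1 hy
    rw [mem_comap] at h3
    simpa using h3
  let D : Subgroup G := zpowers c' ⊔ D1
  have hD : IsPGroup 2 D := (hz c' h2c').to_sup_of_normal_right' hD1
    (by rw [zpowers_le]; exact hc'D1)
  have hcD : c ∈ D := le_sup_right (a := zpowers c') hcD1
  have hc'D : c' ∈ D := le_sup_left (a := zpowers c') (mem_zpowers c')
  have hDX : D ≤ X := by
    refine sup_le ?_ (sup_le ?_ hQX)
    · rw [zpowers_le]; exact hcX'
    · rw [zpowers_le]; exact hcX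
  -- Sylow in `X`
  obtain ⟨P, hP⟩ := (hD.comap_subtype (K := X)).exists_le_sylow
  obtain ⟨x, hx⟩ := MulAction.exists_smul_eq X P (S.subtype hSX)
  have hconj : ∀ d ∈ D, (x : G) * d * (x : G)⁻¹ ∈ S := by
    intro d hd
    have h1 : (⟨d, hDX hd⟩ : X) ∈ P := hP (mem_subgroupOf.2 hd)
    have h3 : x * ⟨d, hDX hd⟩ * x⁻¹ ∈ (S.subtype hSX : Subgroup X) := by
      rw [← hx, Sylow.coe_subgroup_smul]
      refine mem_map.2 ⟨_, h1, ?_⟩
      rfl
    exact h3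
  have hxR : (x : G) ∈ normalizer (R : Set G) := x.2.1
  have hxE : (x : G) ∈ normalizer (E : Set G) := x.2.2
  have hconjC : ∀ d ∈ centralizer (R : Set G), (x : G) * d * (x : G)⁻¹ ∈ centralizer (R : Set G) := by
    intro d hd
    rw [mem_centralizer_iff] at hd ⊢
    intro r hr
    have h1 : (x : G)⁻¹ * r * x ∈ R := by
      have := (mem_normalizer_iff.1 (inv_mem hxR) r).1 hr
      rwa [inv_inv] at this
    have h3 := hd _ h1
    calc r * (x * d * (x : G)⁻¹) = x * (((x : G)⁻¹ * r * x) * d) * (x : G)⁻¹ := by group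
      _ = x * (d * ((x : G)⁻¹ * r * x)) * (x : G)⁻¹ := by rw [h3]
      _ = _ := by group
  have hback : ∀ d : G, (∀ e ∈ E, (x * d * (x : G)⁻¹) * e * (x * d * (x : G)⁻¹)⁻¹ * e⁻¹ ∈ R) →
      ∀ e ∈ E, d * e * d⁻¹ * e⁻¹ ∈ R := by
    intro d hd e he
    have h1 := hd _ ((mem_normalizer_iff.1 hxE e).1 he)
    have h3 : (x * d * (x : G)⁻¹) * (x * e * (x : G)⁻¹) * (x * d * (x : G)⁻¹)⁻¹ *
        (x * e * (x : G)⁻¹)⁻¹ = x * (d * e * d⁻¹ * e⁻¹) * (x : G)⁻¹ := by group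
    rw [h3] at h1
    exact (mem_normalizer_iff.1 hxR _).2 h1
  have hs := hconj c hcD
  have hs' := hconj c' hc'D
  have hsC := hconjC c hc
  have hsC' := hconjC c' hc'
  rcases h.S_2 _ hs hsC _ hs' hsC' with h1 | h1 | h1
  · exact Or.inl (hback c ((h.triv_iff hsC).1 h1))
  · exact Or.inr (Or.inl (hback c' ((h.triv_iff hsC').1 h1)))
  · refine Or.inr (Or.inr (hback (c * c') ?_))
    have h3 := (h.triv_iff (mul_mem hsC hsC')).1 h1
    have e : (x : G) * (c * c') * (x : G)⁻¹ = x * c * (x : G)⁻¹ * (x * c' * (x : G)⁻¹) := by group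
    rw [e]; exact h3

/-- an element of `C(R)` which is trivial on `W = Q/R` is in `Q` -/
theorem mem_Q_of_cj' {c : G} (hc : c ∈ centralizer (R : Set G)) (ht : ∀ w, h.cj c w = w) : c ∈ Q := by
  refine h.mem_Q_of_triv hc (fun y hy => ?_)
  have h1 := ht (h.sp.pr y)
  rw [h.cj_pr (h.CR_le_NR hc) hy, h.sp.pr_eq (h.nor c (h.CR_le_NR hc) y hy) hy] at h1
  exact h1

/-- **`Se`, on `W = Q/R`** -/
theorem Se_cj [Finite G] {c c' : G} (hc : c ∈ centralizer (R : Set G))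
    (hc' : c' ∈ centralizer (R : Set G)) (hcom : ∀ w, h.cj c (h.cj c' w) = h.cj c' (h.cj c w))
    (h2c : ∀ w, h.cj c (h.cj c w) = w) (h2c' : ∀ w, h.cj c' (h.cj c' w) = w)
    (hE : ∀ b, ∃ b', h.cj c (h.ep b) = h.ep b') (hE' : ∀ b, ∃ b', h.cj c' (h.ep b) = h.ep b') :
    (∀ b, h.cj c (h.ep b) = h.ep b) ∨ (∀ b, h.cj c' (h.ep b) = h.ep b) ∨
      (∀ b, h.cj c (h.cj c' (h.ep b)) = h.ep b) := by
  have hcN := h.CR_le_NR hc
  have hcN' := h.CR_le_NR hc'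
  -- the stabiliser of `e`
  have key : ∀ d ∈ centralizer (R : Set G), (∀ b, ∃ b', h.cj d (h.ep b) = h.ep b') →
      ∀ e ∈ V ⊓ Q, d * e * d⁻¹ ∈ V ⊓ Q := by
    intro d hd hdE e he
    obtain ⟨a, b, rfl⟩ := h.mem_E.1 he
    obtain ⟨b', hb'⟩ := hdE b
    rw [← h.pr_E a b, ← h.pr_E 0 b', h.cj_pr (h.CR_le_NR hd) (h.E_le a b),
      h.sp.pr_eq (h.nor d (h.CR_le_NR hd) _ (h.E_le a b)) (h.E_le 0 b')] at hb'
    obtain ⟨a', ha'⟩ := h.mem_R.1 hb'
    refine h.mem_E.2 ⟨a', b', ?_⟩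
    have h3 : d * v a b 0 * d⁻¹ = v a' 0 0 * v 0 b' 0 := by rw [← ha']; group
    rw [h3, ← h.v_add, add_zero, zero_add, add_zero]
  have key2 : ∀ d ∈ centralizer (R : Set G), (∀ e ∈ V ⊓ Q, d * e * d⁻¹ * e⁻¹ ∈ R) →
      ∀ b, h.cj d (h.ep b) = h.ep b := by
    intro d hd ht b
    obtain ⟨a, ha⟩ := (h.triv_iff hd).2 ht b
    unfold ep
    rw [h.cj_pr (h.CR_le_NR hd) (h.E_le 0 b), ha, h.pr_E]
    rfl
  have h1 := h.Se_grp hc hc' (key c hc hE) (key c' hc' hE')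
    (h.mem_Q_of_cj' (mul_mem hc hc) (fun w => by rw [h.cj_mul hcN hcN, h2c]))
    (h.mem_Q_of_cj' (mul_mem hc' hc') (fun w => by rw [h.cj_mul hcN' hcN', h2c']))
    (h.mem_Q_of_cj' (mul_mem (mul_mem (mul_mem hc hc') (inv_mem hc)) (inv_mem hc')) (fun w => by
      rw [h.cj_mul (mul_mem (mul_mem hcN hcN') (inv_mem hcN)) (inv_mem hcN'),
        h.cj_mul (mul_mem hcN hcN') (inv_mem hcN), h.cj_mul hcN hcN', hcom,
        h.cj_cj_inv hcN, h.cj_cj_inv hcN']))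
  rcases h1 with h1 | h1 | h1
  · exact Or.inl (key2 c hc h1)
  · exact Or.inr (Or.inl (key2 c' hc' h1))
  · refine Or.inr (Or.inr (fun b => ?_))
    have := key2 (c * c') (mul_mem hc hc') h1 b
    rwa [h.cj_mul hcN hcN'] at this

end GIn

end Cfsg.Agent.Omega.NOne.SU

end

section


/-!
# THEOREM UNI, group part: the field `Uni.Se`
-/

set_option autoImplicit false

open Subgroup

namespace Cfsg.Agent.Omega.NOne.SU

variable {G : Type*} [Group G] {k F : Type*} [Field k] [Field F] [Algebra k F]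

namespace GIn

variable {T : Quad k F} {S : Sylow 2 G} {V R Q Q' : Subgroup G} {v : k → F → k → G} {p p' : G → F}

/-- **the field `Se` of `Uni`** -/
theorem SeH [Finite G] (h : GIn T S V R Q Q' v p p') (sc : Scal h.sp.form) :
    ∀ g ∈ h.H sc, ∀ g' ∈ h.H sc, g * g' = g' * g → g * g = 1 → g' * g' = 1 →
      (∀ c, ∃ c', g (h.epM sc c) = h.epM sc c') → (∀ c, ∃ c', g' (h.epM sc c) = h.epM sc c') →
      (∀ c, g (h.epM sc c) = h.epM sc c) ∨ (∀ c, g' (h.epM sc c) = h.epM sc c) ∨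
        (∀ c, g (g' (h.epM sc c)) = h.epM sc c) := by
  rintro g ⟨c, hc⟩ g' ⟨c', hc'⟩ hgg h1 h2 he he'
  have e := hc.ext (ind_linC c hc.1)
  have e' := hc'.ext (ind_linC c' hc'.1)
  have f : ∀ w, g w = h.cj c w := fun w => by rw [e]; rfl
  have f' : ∀ w, g' w = h.cj c' w := fun w => by rw [e']; rfl
  have key := h.Se_cj hc.1 hc'.1
    (fun w => by
      have := congrArg (fun l : h.M sc ≃ₗ[k] h.M sc => l w) hgg
      have e3 : g (g' w) = g' (g w) := this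
      rw [f (g' w), f' w, f' (g w), f w] at e3
      exact e3)
    (fun w => by
      have := congrArg (fun l : h.M sc ≃ₗ[k] h.M sc => l w) h1
      have e3 : g (g w) = w := this
      rw [f (g w), f w] at e3
      exact e3)
    (fun w => by
      have := congrArg (fun l : h.M sc ≃ₗ[k] h.M sc => l w) h2
      have e3 : g' (g' w) = w := this
      rw [f' (g' w), f' w] at e3
      exact e3)
    (fun b => by
      obtain ⟨b', hb⟩ := he b
      rw [f] at hb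
      exact ⟨b', hb⟩)
    (fun b => by
      obtain ⟨b', hb⟩ := he' b
      rw [f'] at hb
      exact ⟨b', hb⟩)
  rcases key with key | key | key
  · refine Or.inl (fun b => ?_)
    rw [f]; exact key b
  · refine Or.inr (Or.inl (fun b => ?_))
    rw [f']; exact key b
  · refine Or.inr (Or.inr (fun b => ?_))
    rw [f, f']; exact key b

end GIn

end Cfsg.Agent.Omega.NOne.SU

end

section


/-!
# THEOREM UNI, group part: `GIn → Fld → Uni`

`GIn.uni` : the structure `Uni k F (h.M sc) Φ` of the group data.  All its fields are the explicit maps of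
the group part (`fM`, `H`, `hmΦ`, `epM`, `BM`, `yM`, `JJ`, `χM`, `tM`).
-/

set_option autoImplicit false
set_option linter.unusedSectionVars false

open Subgroup

namespace Cfsg.Agent.Omega.NOne.SU

variable {G : Type*} [Group G] {k F : Type*} [Field k] [Field F] [Algebra k F]

namespace GIn

variable {T : Quad k F} {S : Sylow 2 G} {V R Q Q' : Subgroup G} {v : k → F → k → G} {p p' : G → F}
variable (h : GIn T S V R Q Q' v p p') (sc : Scal h.sp.form)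

variable {Φ : Type*} [AddCommGroup Φ] [Module F Φ] {φ χ : G → Φ} (f : Fld T V R Q Q' v p φ χ)
  [Module k Φ] [IsScalarTower k F Φ]

/-- the map `y` -/
noncomputable def yM : h.M sc →ₗ[k] Φ := (h.exists_y sc f).choose

theorem yM_φ : ∀ x ∈ Q, x ∈ centralizer (V : Set G) → h.yM sc f (h.prM sc x) = φ x :=
  (h.exists_y sc f).choose_spec

theorem yM_ep (c : F) : h.yM sc f (h.epM sc c) = 0 := by
  rw [← h.prM_E sc 0 c, h.yM_φ sc f _ (h.E_le _ _) (h.E_CV _ _), h.φ_E f]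

theorem yM_ker (m : h.M sc) (hm : h.BM sc m = 0) : h.yM sc f m = 0 ↔ ∃ c, m = h.epM sc c :=
  h.y_ker_of sc f (h.yM_φ sc f) m hm

/-- the torus -/
noncomputable def tM [Finite G] : Fˣ →* (h.M sc ≃ₗ[k] h.M sc) :=
  (h.exists_tM sc f (h.yM sc f) (h.yM_φ sc f) fun m hm => (h.yM_ker sc f m hm).1).choose

theorem tM_wt [Finite G] : ∀ z : Fˣ, TorusHom.Wt T (h.fM sc) (h.H sc) (h.epM sc) (h.BM sc) (h.yM sc f)
    (h.tM sc f z) (z : F) :=
  (h.exists_tM sc f (h.yM sc f) (h.yM_φ sc f) fun m hm => (h.yM_ker sc f m hm).1).choose_spec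

/-- a vector with `B m₀ = 1` -/
noncomputable def m0 : h.M sc := (h.BM_surj sc 1).choose

theorem BM_m0 : h.BM sc (h.m0 sc) = 1 := (h.BM_surj sc 1).choose_spec

/-- the map `χ` -/
noncomputable def χM (g : h.M sc ≃ₗ[k] h.M sc) : Φ := h.yM sc f (g (h.m0 sc) - h.m0 sc)

/-! ### the action of `n ∈ C_{Q'}(V)` and of `V` -/

theorem lin_of (c : G) (hc : c ∈ centralizer (R : Set G)) {x : G} (hx : x ∈ Q) :
    h.linC sc c hc (h.prM sc x) - h.prM sc x = h.prM sc (c * x * c⁻¹ * x⁻¹) := by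
  rw [h.prM_comm sc hc hx, add_sub_cancel_left]

theorem linV (a : k) (b : F) (d : k) (m : h.M sc) :
    h.linC sc (v a b d) (h.CV_le_CR (h.V_le_CV (h.v_mem a b d))) m = m + h.epM sc (d • h.BM sc m) := by
  rw [Algebra.smul_def, mul_comm]
  exact h.cj_V a b d m

theorem linN_ep {n : G} (hnV : n ∈ centralizer (V : Set G)) (c : F) :
    h.linC sc n (h.CV_le_CR hnV) (h.epM sc c) = h.epM sc c := by
  rw [← h.prM_E sc 0 c, (ind_linC (sc := sc) n _).2 _ (h.E_le _ _)]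
  congr 1
  rw [← (mem_centralizer_iff.1 hnV) _ (h.v_mem _ _ _), mul_inv_cancel_right]

theorem linN_B {n : G} (hnV : n ∈ centralizer (V : Set G)) (m : h.M sc) :
    h.BM sc (h.linC sc n (h.CV_le_CR hnV) m - m) = 0 := by
  obtain ⟨x, hx, rfl⟩ := h.prM_surj sc m
  have h1 := h.comm_CV hnV hx
  rw [h.lin_of sc n _ hx, h.BM_eq_zero sc h1.1]
  exact h1.2

theorem linN_P {n : G} (hn : n ∈ Q') (hnV : n ∈ centralizer (V : Set G)) (m : h.M sc) (hm : h.BM sc m = 0) :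
    h.linC sc n (h.CV_le_CR hnV) m = m + h.epM sc (h.hmΦ sc f (h.yM sc f m) (χ n)) := by
  obtain ⟨x, hx, rfl⟩ := h.prM_surj sc m
  have hxV := (h.BM_eq_zero sc hx).1 hm
  rw [h.prM_comm sc _ hx, h.JP_n sc f hn hnV hx hxV, h.prM_E, h.yM_φ sc f x hx hxV]

theorem linN_y {n : G} (hn : n ∈ Q') (hnV : n ∈ centralizer (V : Set G)) (m : h.M sc) :
    h.yM sc f (h.linC sc n (h.CV_le_CR hnV) m - m) = h.BM sc m • χ n := by
  obtain ⟨x, hx, rfl⟩ := h.prM_surj sc m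
  have h1 := h.comm_CV hnV hx
  rw [h.lin_of sc n _ hx, h.yM_φ sc f _ h1.1 h1.2, f.bil x hx n hn hnV, h.BM_pr sc hx]

include f in
/-- **the elements of `J`** are the products `v n` -/
theorem JJ_form [Finite G] {g : h.M sc ≃ₗ[k] h.M sc} (hg : g ∈ h.JJ sc) :
    ∃ n, n ∈ Q' ∧ ∃ hnV : n ∈ centralizer (V : Set G), ∃ d : k,
      ∀ m, g m = h.linC sc n (h.CV_le_CR hnV) m + h.epM sc (d • h.BM sc m) := by
  obtain ⟨c, hc, hind⟩ := JJ_CV hg
  have hcR := h.CV_le_CR hc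
  have hge : g = h.linC sc c hcR := hind.ext (ind_linC c hcR)
  have hB : ∀ x ∈ Q, x ∈ centralizer (V : Set G) → ∃ a b, c * x * c⁻¹ * x⁻¹ = v a b 0 := by
    intro x hx hxV
    have h1 := h.comm_CV hc hx
    have h2 := hg.2.2.1 (h.prM sc x) ((h.BM_eq_zero sc hx).2 hxV)
    rw [hge, h.lin_of sc c _ hx, ← h.y_ker_of sc f (h.yM_φ sc f) _ ((h.BM_eq_zero sc h1.1).2 h1.2),
      h.yM_φ sc f _ h1.1 h1.2, f.φ_ker _ h1.1 h1.2] at h2
    exact h2
  obtain ⟨n, hn, hnV, d, hq⟩ := h.cstep sc f hc hB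
  refine ⟨n, hn, hnV, d, fun m => ?_⟩
  have hnR := h.CV_le_CR hnV
  have hvR : v 0 0 d ∈ centralizer (R : Set G) := h.CV_le_CR (h.V_le_CV (h.v_mem 0 0 d))
  -- `c = q v n`
  have e : c = (c * n⁻¹ * v 0 0 d) * (v 0 0 d * n) := by
    have h1 := h.v_sq 0 0 d
    calc c = c * n⁻¹ * (v 0 0 d * v 0 0 d) * n := by rw [h1]; group
      _ = _ := by group
  have h1 : g m = h.cj c m := by rw [hge]; rfl
  have h2 : ∀ w : h.sp.W, h.cj c w = h.cj (v 0 0 d) (h.cj n w) := by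
    intro w
    conv_lhs => rw [e]
    rw [h.cj_mul (h.CR_le_NR (h.Q_le_CR hq)) (h.CR_le_NR (mul_mem hvR hnR)), h.cj_of_mem_Q hq,
      h.cj_mul (h.CR_le_NR hvR) (h.CR_le_NR hnR)]
  have h3 := h.linV sc 0 0 d (h.linC sc n hnR m)
  have h4 : h.BM sc (h.linC sc n hnR m) = h.BM sc m := by
    have h5 := h.linN_B sc hnV m
    rw [map_sub, sub_eq_zero] at h5
    exact h5
  rw [h4] at h3
  rw [h1]
  exact (h2 m).trans h3

theorem χM_of [Finite G] {g : h.M sc ≃ₗ[k] h.M sc} {n : G} (hn : n ∈ Q') (hnV : n ∈ centralizer (V : Set G))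
    {d : k} (hg : ∀ m, g m = h.linC sc n (h.CV_le_CR hnV) m + h.epM sc (d • h.BM sc m)) :
    h.χM sc f g = χ n := by
  unfold χM
  rw [hg, add_sub_right_comm, map_add, h.linN_y sc f hn hnV, h.yM_ep, add_zero, h.BM_m0, one_smul]

include f in
/-- `n ∈ C_{Q'}(V)` acts as an element of `J` -/
theorem linN_J [Finite G] {n : G} (hn : n ∈ Q') (hnV : n ∈ centralizer (V : Set G)) :
    h.linC sc n (h.CV_le_CR hnV) ∈ h.JJ sc :=
  ⟨(ind_linC _ _).mem, h.linN_ep sc hnV, fun m hm => ⟨h.hmΦ sc f (h.yM sc f m) (χ n), by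
    rw [h.linN_P sc f hn hnV m hm, add_sub_cancel_left]⟩, h.linN_B sc hnV⟩

/-- `V` acts as a subgroup of `J` -/
theorem linV_J [Finite G] (a : k) (b : F) (d : k) :
    h.linC sc (v a b d) (h.CV_le_CR (h.V_le_CV (h.v_mem a b d))) ∈ h.JJ sc := by
  refine ⟨(ind_linC _ _).mem, fun c => ?_, fun m hm => ⟨0, ?_⟩, fun m => ?_⟩
  · rw [h.linV, ← h.prM_E sc 0 c, h.BM_pr sc (h.E_le _ _), h.p_E, smul_zero, map_zero, add_zero]
  · rw [h.linV, hm, smul_zero, map_zero, add_zero, sub_self]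
  · rw [h.linV, add_sub_cancel_left, ← h.prM_E sc 0, h.BM_pr sc (h.E_le _ _), h.p_E]

/-- **THEOREM UNI, group part**: the structure `Uni` of the group data -/
noncomputable def uni [Finite G] : Uni k F (h.M sc) Φ where
  toQuad := T
  f := h.fM sc
  alt := h.fM_alt sc
  nondeg := h.fM_nondeg sc
  H := h.H sc
  isom := fun _ hg => isom hg
  hm := h.hmΦ sc f
  hm_add := h.hmΦ_add sc f
  hm_smul := h.hmΦ_smul sc f
  hm_sym := h.hmΦ_sym sc f
  hm_nondeg := h.hmΦ_nondeg sc f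
  ε := h.epM sc
  ε_inj := h.epM_inj sc
  B := h.BM sc
  fe := h.fM_ep sc
  y := h.yM sc f
  y_surj := h.y_surj_of sc f (h.yM_φ sc f)
  y_ker := h.yM_ker sc f
  fy := h.fy_of sc f (h.yM_φ sc f)
  J := h.JJ sc
  J_le := fun _ hg => hg.1
  χ := h.χM sc f
  Je := fun _ hg => hg.2.1
  JP := by
    intro j hj m hm
    obtain ⟨n, hn, hnV, d, hg⟩ := h.JJ_form sc f hj
    rw [h.χM_of sc f hn hnV hg, hg, hm, smul_zero, map_zero, add_zero, h.linN_P sc f hn hnV m hm]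
  JM := by
    intro j hj m
    obtain ⟨n, hn, hnV, d, hg⟩ := h.JJ_form sc f hj
    refine ⟨hj.2.2.2 m, ?_⟩
    rw [h.χM_of sc f hn hnV hg, hg, add_sub_right_comm, map_add, h.linN_y sc f hn hnV, h.yM_ep, add_zero]
  JA := by
    intro j hj hχ
    obtain ⟨n, hn, hnV, d, hg⟩ := h.JJ_form sc f hj
    rw [h.χM_of sc f hn hnV hg] at hχ
    obtain ⟨b, d', rfl⟩ := f.χ_ker n hn hnV hχ
    refine ⟨d' + d, fun m => ?_⟩
    have h1 := h.linV sc 0 b d' m
    rw [hg, h1, add_assoc, ← map_add, ← add_smul]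
  Jall := by
    intro x
    obtain ⟨n, hn, hnV, rfl⟩ := f.χ_surj x
    refine ⟨_, h.linN_J sc f hn hnV, ?_⟩
    apply h.χM_of sc f hn hnV (d := 0)
    intro m
    rw [zero_smul, map_zero, add_zero]
  Jn := fun a => ⟨_, h.linV_J sc 0 0 a, h.linV sc 0 0 a⟩
  Jmax := fun g hg h1 h2 h3 => ⟨hg, h1, h2, h3⟩
  Se := h.SeH sc
  t := h.tM sc f
  tH := fun z => (h.tM_wt sc f z).wH
  te := fun z => (h.tM_wt sc f z).we
  tB := fun z => (h.tM_wt sc f z).wB
  ty := fun z => (h.tM_wt sc f z).wy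
  tf := fun z => (h.tM_wt sc f z).wf
  Om := h.OmH sc f

end GIn

end Cfsg.Agent.Omega.NOne.SU

end

section


/-!
# THEOREM UNI, group part 7: facts for the group-level output `Out`

* `normalizes_V'` : `N_G(R) ∩ N_G(E) ≤ N_G(V)`;
* `ker_NR` : the kernel of `N_G(R)` on `W = Q/R` is `Q`;
* `rad_prM` : the elements of `C_G(R)` which are trivial on `e`, `e^⊥/e`, `W/e^⊥` are the products `n v y`.
-/

set_option autoImplicit false
set_option linter.unusedSectionVars false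

open Subgroup

namespace Cfsg.Agent.Omega.NOne.SU

variable {G : Type*} [Group G] {k F : Type*} [Field k] [Field F] [Algebra k F]

namespace GIn

variable {T : Quad k F} {S : Sylow 2 G} {V R Q Q' : Subgroup G} {v : k → F → k → G} {p p' : G → F}
variable (h : GIn T S V R Q Q' v p p') (sc : Scal h.sp.form)

theorem CR_conj {c x : G} (hc : c ∈ normalizer (R : Set G)) (hx : x ∈ centralizer (R : Set G)) :
    c * x * c⁻¹ ∈ centralizer (R : Set G) := by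
  rw [mem_centralizer_iff] at hx ⊢
  intro r hr
  have h1 : c⁻¹ * r * c ∈ R := by
    have := (mem_normalizer_iff.1 (inv_mem hc) r).1 hr
    rwa [inv_inv] at this
  have h3 := hx _ h1
  calc r * (c * x * c⁻¹) = c * ((c⁻¹ * r * c) * x) * c⁻¹ := by group
    _ = c * (x * (c⁻¹ * r * c)) * c⁻¹ := by rw [h3]
    _ = _ := by group

include h

/-- `N_G(R) ∩ N_G(E) ≤ N_G(V)` -/
theorem normalizes_V' [Finite G] (sc : Scal h.sp.form) {c : G} (hN : c ∈ normalizer (R : Set G))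
    (hcE : ∀ a b, ∃ a' b', c * v a b 0 * c⁻¹ = v a' b' 0) : c ∈ normalizer (V : Set G) := by
  -- the same for `c⁻¹`
  have hcE' : ∀ a b, ∃ a' b', c⁻¹ * v a b 0 * c = v a' b' 0 := by
    have := T.finF
    have := T.fink
    let f1 : k × F → k × F := fun x => ((hcE x.1 x.2).choose, (hcE x.1 x.2).choose_spec.choose)
    have hf1 : ∀ x : k × F, c * v x.1 x.2 0 * c⁻¹ = v (f1 x).1 (f1 x).2 0 := fun x =>
      (hcE x.1 x.2).choose_spec.choose_spec
    have hinj : Function.Injective f1 := by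
      intro x y hxy
      have h1 := hf1 x
      rw [hxy, ← hf1 y] at h1
      have h3 := h.v_eq (mul_left_cancel (mul_right_cancel h1))
      exact Prod.ext h3.1 h3.2.1
    have hsurj := Finite.surjective_of_injective hinj
    intro a b
    obtain ⟨x, hx⟩ := hsurj (a, b)
    refine ⟨x.1, x.2, ?_⟩
    have h1 := hf1 x
    rw [hx] at h1
    rw [← h1]; group
  -- `c` normalises `B = C_Q(E)`
  have hBc : ∀ x ∈ Q, x ∈ centralizer (V : Set G) → c⁻¹ * x * c ∈ centralizer (V : Set G) := by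
    intro x hx hxV
    apply h.mem_CV_of_comm_E (h.nor_inv hN hx)
    intro b
    obtain ⟨a', b', hab⟩ := hcE 0 b
    have h1 := (mem_centralizer_iff.1 hxV) _ (h.v_mem a' b' 0)
    have h3 : v 0 b 0 = c⁻¹ * v a' b' 0 * c := by rw [← hab]; group
    rw [h3]
    calc c⁻¹ * v a' b' 0 * c * (c⁻¹ * x * c) = c⁻¹ * (v a' b' 0 * x) * c := by group
      _ = c⁻¹ * (x * v a' b' 0) * c := by rw [h1]
      _ = _ := by group
  have key : ∀ d, c * v 0 0 d * c⁻¹ ∈ V := by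
    intro d
    have hvR : v 0 0 d ∈ centralizer (R : Set G) := h.CV_le_CR (h.V_le_CV (h.v_mem 0 0 d))
    have hxR : c * v 0 0 d * c⁻¹ ∈ centralizer (R : Set G) := CR_conj hN hvR
    have hcomm : ∀ x ∈ Q, x ∈ centralizer (V : Set G) →
        c * v 0 0 d * c⁻¹ * x = x * (c * v 0 0 d * c⁻¹) := by
      intro x hx hxV
      have h1 := (mem_centralizer_iff.1 (hBc x hx hxV)) _ (h.v_mem 0 0 d)
      calc c * v 0 0 d * c⁻¹ * x = c * (v 0 0 d * (c⁻¹ * x * c)) * c⁻¹ := by group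
        _ = c * ((c⁻¹ * x * c) * v 0 0 d) * c⁻¹ := by rw [h1]
        _ = _ := by group
    obtain ⟨d', hd'⟩ := h.act_as_V sc hxR (fun y hy => by
      obtain ⟨a', ha'⟩ := h.comm_V 0 0 d (h.nor_inv hN hy)
      obtain ⟨a2, b2, hab⟩ := hcE a' (p (c⁻¹ * y * c) * algebraMap k F d)
      refine ⟨a2, b2, ?_⟩
      rw [← hab, ← ha']; group) (fun x hx hxV => by
      rw [hcomm x hx hxV]
      have e : x * (c * v 0 0 d * c⁻¹) * (c * v 0 0 d * c⁻¹)⁻¹ * x⁻¹ = 1 := by group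
      rw [e]; exact one_mem _)
    have hq0V : c * v 0 0 d * c⁻¹ * v 0 0 d' ∈ centralizer (V : Set G) := by
      apply h.mem_CV_of_comm_E hd'
      intro b
      have h1 := hcomm (v 0 b 0) (h.E_le 0 b) (h.V_le_CV (h.v_mem _ _ _))
      have h3 := h.v_comm 0 b 0 0 0 d'
      calc v 0 b 0 * (c * v 0 0 d * c⁻¹ * v 0 0 d') = (v 0 b 0 * (c * v 0 0 d * c⁻¹)) * v 0 0 d' := by group
        _ = (c * v 0 0 d * c⁻¹ * v 0 b 0) * v 0 0 d' := by rw [h1]
        _ = c * v 0 0 d * c⁻¹ * (v 0 b 0 * v 0 0 d') := by group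
        _ = c * v 0 0 d * c⁻¹ * (v 0 0 d' * v 0 b 0) := by rw [h3]
        _ = _ := by group
    obtain ⟨a, b, hab⟩ := h.mem_E_of_comm (sc := sc) hd' (fun x hx hxV => by
      have h1 := hcomm x hx hxV
      have h3 := (mem_centralizer_iff.1 hxV) _ (h.v_mem 0 0 d')
      calc c * v 0 0 d * c⁻¹ * v 0 0 d' * x = c * v 0 0 d * c⁻¹ * (v 0 0 d' * x) := by group
        _ = c * v 0 0 d * c⁻¹ * (x * v 0 0 d') := by rw [h3]
        _ = (c * v 0 0 d * c⁻¹ * x) * v 0 0 d' := by group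
        _ = (x * (c * v 0 0 d * c⁻¹)) * v 0 0 d' := by rw [h1]
        _ = _ := by group)
    have h5 : c * v 0 0 d * c⁻¹ = v a b 0 * (v 0 0 d')⁻¹ := by rw [← hab]; group
    rw [h5]
    exact mul_mem (h.v_mem _ _ _) (inv_mem (h.v_mem _ _ _))
  have key2 : ∀ x ∈ V, c * x * c⁻¹ ∈ V := by
    intro x hx
    obtain ⟨a, b, d, rfl⟩ := h.v_surj x hx
    obtain ⟨a', b', hab⟩ := hcE a b
    have e : v a b d = v a b 0 * v 0 0 d := by rw [← h.v_add, add_zero, add_zero, zero_add]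
    have e2 : c * (v a b 0 * v 0 0 d) * c⁻¹ = (c * v a b 0 * c⁻¹) * (c * v 0 0 d * c⁻¹) := by group
    rw [e, e2, hab]
    exact mul_mem (h.v_mem _ _ _) (key d)
  rw [mem_normalizer_iff]
  intro x
  constructor
  · exact key2 x
  · intro hx
    let g1 : V → V := fun y => ⟨c * y * c⁻¹, key2 y y.2⟩
    have hg1 : Function.Injective g1 := by
      intro y y' hyy
      have := congrArg Subtype.val hyy
      exact Subtype.ext (mul_left_cancel (mul_right_cancel this))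
    obtain ⟨y, hy⟩ := Finite.surjective_of_injective hg1 ⟨_, hx⟩
    have h1 : c * (y : G) * c⁻¹ = c * x * c⁻¹ := congrArg Subtype.val hy
    have h3 : (y : G) = x := mul_left_cancel (mul_right_cancel h1)
    rw [← h3]; exact y.2

theorem tr_surj (a : k) : ∃ x : F, T.tr x = a := by
  obtain ⟨x, hx⟩ := T.exists_tr_ne h.h2
  refine ⟨x * algebraMap k F ((T.tr x)⁻¹ * a), ?_⟩
  rw [T.tr_mul_alg, mul_inv_cancel_left₀ hx]

/-- every element of `R` is a commutator -/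
theorem R_comm (a : k) : ∃ x ∈ Q, ∃ y ∈ Q, x * y * x⁻¹ * y⁻¹ = v a 0 0 := by
  obtain ⟨b, hb⟩ := h.tr_surj a
  obtain ⟨y, hy, hp⟩ := h.p_surj 1
  refine ⟨_, h.E_le 0 b, y, hy, ?_⟩
  rw [h.comm_E 0 b hy, hp, map_one, mul_one, hb]

/-- the kernel of `N_G(R)` on `W` is `Q` -/
theorem ker_NR [Finite G] {c : G} (hc : c ∈ normalizer (R : Set G))
    (hk : ∀ x ∈ Q, h.sp.pr (c * x * c⁻¹) = h.sp.pr x) : c ∈ Q := by
  have hcR : c ∈ centralizer (R : Set G) := by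
    rw [mem_centralizer_iff]
    intro r hr
    obtain ⟨a, rfl⟩ := h.mem_R.1 hr
    obtain ⟨x, hx, y, hy, hxy⟩ := h.R_comm a
    have h1 := h.sp.comm_eq_of_pr (h.nor c hc x hx) hx (h.nor c hc y hy) hy (hk x hx) (hk y hy)
    have e : c * x * c⁻¹ * (c * y * c⁻¹) * (c * x * c⁻¹)⁻¹ * (c * y * c⁻¹)⁻¹ =
        c * (x * y * x⁻¹ * y⁻¹) * c⁻¹ := by group
    rw [e, hxy] at h1
    calc v a 0 0 * c = (c * v a 0 0 * c⁻¹) * c := by rw [h1]
      _ = c * v a 0 0 := by group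
  apply h.mem_Q_of_cj hcR
  intro w
  obtain ⟨x, hx, rfl⟩ := h.sp.pr_surj w
  rw [h.cj_pr hc hx, hk x hx]

variable {Φ : Type*} [AddCommGroup Φ] [Module F Φ] {φ χ : G → Φ} (f : Fld T V R Q Q' v p φ χ)

/-- an element of `Q` may be moved to the right -/
theorem move_Q {y c : G} (hy : y ∈ Q) (hc : c ∈ normalizer (R : Set G)) : ∃ y' ∈ Q, y * c = c * y' :=
  ⟨c⁻¹ * y * c, h.nor_inv hc hy, by group⟩

include f in
/-- **the elements of `C_G(R)` in the unipotent radical of `e`** -/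
theorem rad_prM [Finite G] {c : G} (hc : c ∈ centralizer (R : Set G))
    (h1 : ∀ b, h.prM sc (c * v 0 b 0 * c⁻¹) = h.prM sc (v 0 b 0))
    (h2 : ∀ x ∈ Q, p x = 0 → ∃ b, h.prM sc (c * x * c⁻¹) = h.prM sc x + h.prM sc (v 0 b 0))
    (h3 : ∀ x ∈ Q, p (c * x * c⁻¹) = p x) :
    ∃ n ∈ Q', n ∈ centralizer (V : Set G) ∧ ∃ d, ∃ y ∈ Q, c = n * v 0 0 d * y := by
  have hJ : h.linC sc c hc ∈ h.JJ sc := by
    refine ⟨(ind_linC _ _).mem, fun b => ?_, fun m hm => ?_, fun m => ?_⟩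
    · rw [← h.prM_E sc 0 b, (ind_linC (sc := sc) c hc).2 _ (h.E_le _ _), h1]
    · obtain ⟨x, hx, rfl⟩ := h.prM_surj sc m
      rw [h.BM_pr sc hx] at hm
      obtain ⟨b, hb⟩ := h2 x hx hm
      refine ⟨b, ?_⟩
      rw [(ind_linC (sc := sc) c hc).2 x hx, hb, add_sub_cancel_left, h.prM_E]
    · obtain ⟨x, hx, rfl⟩ := h.prM_surj sc m
      rw [(ind_linC (sc := sc) c hc).2 x hx, map_sub, h.BM_pr sc (h.nor c (h.CR_le_NR hc) x hx),
        h.BM_pr sc hx, h3 x hx, sub_self]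
  obtain ⟨c', hc', hind⟩ := JJ_CV hJ
  have hB : ∀ x ∈ Q, x ∈ centralizer (V : Set G) → ∃ a b, c' * x * c'⁻¹ * x⁻¹ = v a b 0 := by
    intro x hx hxV
    have h4 := h.comm_CV hc' hx
    obtain ⟨b, hb⟩ := h2 x hx ((h.p_eq_zero hx).2 hxV)
    have h5 := hind.2 x hx
    rw [(ind_linC (sc := sc) c hc).2 x hx, hb, h.prM_E] at h5
    have h6 : h.prM sc (c' * x * c'⁻¹ * x⁻¹) = h.epM sc b := by
      rw [h.prM_mul sc (h.nor c' (h.CR_le_NR hind.1) x hx) (inv_mem hx), h.prM_inv sc hx, ← h5,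
        add_comm (h.prM sc x), add_assoc, h.M_add_self, add_zero]
    rw [← h.prM_E sc 0 b, h.prM_eq sc h4.1 (h.E_le _ _)] at h6
    obtain ⟨a, ha⟩ := h.mem_R.1 h6
    refine ⟨a, b, ?_⟩
    have e : c' * x * c'⁻¹ * x⁻¹ = c' * x * c'⁻¹ * x⁻¹ * (v 0 b 0)⁻¹ * v 0 b 0 := by group
    rw [e, ha, ← h.v_add, add_zero, zero_add, add_zero]
  obtain ⟨n, hn, hnV, d, hq⟩ := h.cstep sc f hc' hB
  have hnR := h.CV_le_CR hnV
  have hvR : v 0 0 d ∈ centralizer (R : Set G) := h.CV_le_CR (h.V_le_CV (h.v_mem 0 0 d))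
  -- `c c'⁻¹ ∈ Q`
  have hq2 : c * c'⁻¹ ∈ Q := by
    apply h.mem_Q_of_cj (mul_mem hc (inv_mem hind.1))
    intro w
    rw [h.cj_mul (h.CR_le_NR hc) (inv_mem (h.CR_le_NR hind.1))]
    have h4 : ∀ w : h.sp.W, h.cj c w = h.cj c' w := by
      intro w
      obtain ⟨x, hx, rfl⟩ := h.sp.pr_surj w
      rw [h.cj_pr (h.CR_le_NR hc) hx, h.cj_pr (h.CR_le_NR hind.1) hx]
      have h5 := hind.2 x hx
      rw [(ind_linC (sc := sc) c hc).2 x hx] at h5
      exact h5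
    rw [h4, h.cj_cj_inv (h.CR_le_NR hind.1)]
  have e : c = (c * c'⁻¹) * (c' * n⁻¹ * v 0 0 d) * (v 0 0 d * n) := by
    have h4 := h.v_sq 0 0 d
    calc c = (c * c'⁻¹) * (c' * n⁻¹ * (v 0 0 d * v 0 0 d) * n) := by rw [h4]; group
      _ = _ := by group
  obtain ⟨y', hy', he⟩ := h.move_Q (mul_mem hq2 hq) (h.CR_le_NR (mul_mem hvR hnR))
  refine ⟨n, hn, hnV, d, y', hy', ?_⟩
  rw [e, he, (mem_centralizer_iff.1 hnV) _ (h.v_mem 0 0 d)]

end GIn

end Cfsg.Agent.Omega.NOne.SU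

end

section


/-!
# THEOREM UNI, section 1: positions

`Uni.pos`: for `g ∈ H` the plane `g e` is contained in `e^⊥` or meets it trivially.
-/

set_option autoImplicit false

namespace Cfsg.Agent.Omega.NOne.SU

namespace Uni

variable {k F M Φ : Type*} [Field k] [Field F] [Algebra k F] [AddCommGroup M] [Module k M]
    [AddCommGroup Φ] [Module k Φ] [Module F Φ] (U : Uni k F M Φ)
include U

theorem y_ε (c : F) : U.y (U.ε c) = 0 := (U.y_ker _ (U.B_ε c)).2 ⟨c, rfl⟩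

section
variable [CharP k 2]

/-- the commutator of `u 1` and `cu g 1`. -/
theorem comm_apply (g : M ≃ₗ[k] M)
    (h1 : ∀ m, U.n (U.cn g (U.n m)) = 0) (h2 : ∀ m, U.cn g (U.n (U.cn g m)) = 0) (m : M) :
    (U.u 1 * U.cu g 1 * U.u 1 * U.cu g 1) m = m + (U.n (U.cn g m) + U.cn g (U.n m)) := by
  have e1 : (U.u 1 * U.cu g 1 * U.u 1 * U.cu g 1) m =
    U.u 1 (U.cu g 1 (U.u 1 (U.cu g 1 m))) := rfl
  rw [e1]
  simp only [u_apply, cu_apply, one_smul, map_add, h1, h2, n_n, cn_cn, add_zero]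
  have t1 := U.two_M (U.n m)
  have t2 := U.two_M (U.cn g m)
  have t3 := U.two_M (U.n (U.cn g m))
  calc _ = m + (U.n (U.cn g m) + U.cn g (U.n m)) + ((U.n m + U.n m) +
        (U.cn g m + U.cn g m) + (U.n (U.cn g m) + U.n (U.cn g m))) := by abel
    _ = _ := by rw [t1, t2, t3]; simp

omit [CharP k 2] in
theorem cu_mul (g : M ≃ₗ[k] M) (a b : k) : U.cu g a * U.cu g b = U.cu g (a + b) := by
  ext m
  have e1 : (U.cu g a * U.cu g b) m = U.cu g a (U.cu g b m) := rfl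
  rw [e1, cu_apply, cu_apply, cu_apply, map_add, map_smul, cn_cn]
  module

omit [CharP k 2] in
theorem cu_zero (g : M ≃ₗ[k] M) : U.cu g 0 = 1 := by
  ext m
  rw [cu_apply, zero_smul, add_zero]; rfl

theorem cu_sq (g : M ≃ₗ[k] M) (a : k) : U.cu g a * U.cu g a = 1 := by
  rw [cu_mul, CharTwo.add_self_eq_zero, cu_zero]

variable [IsScalarTower k F Φ]

/-- **Section 1.** -/
theorem pos {g : M ≃ₗ[k] M} (hg : g ∈ U.H) :
    (∀ c, U.L g c = 0) ∨ (∀ c, U.L g c = 0 → c = 0) := by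
  by_contra hcon
  push Not at hcon
  obtain ⟨⟨c0, hc0⟩, c1, hc1, hc1n⟩ := hcon
  obtain ⟨θ, hθ⟩ := U.toQuad.exists_theta
  set L' := U.L g.symm with hL'
  -- `L' c ∈ k c1`
  have hLc1 : ∀ c, ∃ a : k, L' c = a • c1 := by
    intro c
    refine U.toQuad.mem_of_tr hc1n ?_
    rw [U.toQuad.tr_comm, ← U.L_adj hg, hc1, map_zero, mul_zero, map_zero]
  -- `r ≠ 0` with `L' r = 0`
  obtain ⟨r, hr0, hr⟩ : ∃ r, r ≠ 0 ∧ L' r = 0 := by
    obtain ⟨a, ha⟩ := hLc1 1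
    obtain ⟨b, hb⟩ := hLc1 θ
    by_cases h0 : a = 0
    · exact ⟨1, one_ne_zero, by rw [ha, h0, zero_smul]⟩
    · refine ⟨(b / a) • (1 : F) - θ, ?_, ?_⟩
      · intro h
        refine hθ (b / a) ?_
        rw [sub_eq_zero, Algebra.smul_def, mul_one] at h
        exact h
      · rw [map_sub, map_smul, ha, hb, smul_smul, div_mul_cancel₀ _ h0, sub_self]
  -- `L c ∈ k r`
  have hLr : ∀ c, ∃ a : k, U.L g c = a • r := by
    intro c
    refine U.toQuad.mem_of_tr hr0 ?_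
    rw [U.toQuad.tr_comm, U.L_adj hg, hr, map_zero, mul_zero, map_zero]
  have hLL' : ∀ c, U.L g (L' c) = 0 := by
    intro c
    obtain ⟨a, ha⟩ := hLc1 c
    rw [ha, map_smul, hc1, smul_zero]
  have hL'L : ∀ c, L' (U.L g c) = 0 := by
    intro c
    obtain ⟨a, ha⟩ := hLr c
    rw [ha, map_smul, hr, smul_zero]
  -- `L' ≠ 0`
  obtain ⟨b0, hb0⟩ : ∃ b, L' b ≠ 0 := by
    by_contra h
    push Not at h
    have h1 : U.sg (U.L g c0) = 0 := U.toQuad.tr_nondeg fun c => by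
      rw [U.L_adj hg]
      change U.tr (c0 * U.sg (L' c)) = 0
      rw [h c, map_zero, mul_zero, map_zero]
    exact U.toQuad.sg_ne _ hc0 h1
  -- the commutator
  have h1 : ∀ m, U.n (U.cn g (U.n m)) = 0 := by
    intro m
    rw [n_apply U m, cn_ε, n_gε]
    change U.ε (U.L g (L' (U.B m))) = 0
    rw [hLL', map_zero]
  have h2 : ∀ m, U.cn g (U.n (U.cn g m)) = 0 := by
    intro m
    rw [cn_apply U g m, n_gε, cn_ε]
    change g (U.ε (L' (U.L g (U.B (g.symm m))))) = 0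
    rw [hL'L, map_zero, map_zero]
  set c := U.u 1 * U.cu g 1 * U.u 1 * U.cu g 1 with hc
  have hcm : ∀ m, c m = m + (U.n (U.cn g m) + U.cn g (U.n m)) := U.comm_apply g h1 h2
  have hu : U.u 1 ∈ U.H := U.J_le (U.u_mem 1)
  have hcH : c ∈ U.H := mul_mem (mul_mem (mul_mem hu (U.cu_mem hg 1)) hu) (U.cu_mem hg 1)
  have hcJ : c ∈ U.J := by
    refine U.Jmax c hcH ?_ ?_ ?_
    · intro b
      rw [hcm, n_apply U (U.ε b), B_ε, map_zero, map_zero, add_zero, cn_ε, n_gε]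
      change U.ε b + U.ε (U.L g (L' b)) = U.ε b
      rw [hLL', map_zero, add_zero]
    · intro m hm
      refine ⟨U.B (U.cn g m), ?_⟩
      rw [hcm, n_apply U m, hm, map_zero, map_zero, add_zero, n_apply]
      abel
    · intro m
      rw [hcm, add_sub_cancel_left, map_add, n_apply, B_ε, zero_add, n_apply, cn_ε]
      change U.L g (L' (U.B m)) = 0
      exact hLL' _
  have hχ : U.χ c = 0 := by
    by_contra hne
    have key : ∀ b : F, ∃ a : k, b • U.χ c = a • U.y (g (U.ε c1)) := by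
      intro b
      obtain ⟨m, hm⟩ := U.B_surj b
      obtain ⟨a, ha⟩ := hLc1 b
      refine ⟨a, ?_⟩
      have h3 := (U.JM c hcJ m).2
      rw [hm, hcm, add_sub_cancel_left, map_add, n_apply, y_ε, zero_add, n_apply, hm, cn_ε] at h3
      change U.y (g (U.ε (L' b))) = _ at h3
      rw [ha, map_smul, map_smul, map_smul] at h3
      exact h3.symm
    obtain ⟨a1, ha1⟩ := key 1
    obtain ⟨a2, ha2⟩ := key θ
    rw [one_smul] at ha1
    have ha10 : a1 ≠ 0 := by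
      rintro rfl
      rw [zero_smul] at ha1
      exact hne ha1
    have h3 : U.y (g (U.ε c1)) = a1⁻¹ • U.χ c := by
      rw [ha1, smul_smul, inv_mul_cancel₀ ha10, one_smul]
    rw [h3, smul_smul, ← algebraMap_smul F (a2 * a1⁻¹) (U.χ c)] at ha2
    have h4 : (θ - algebraMap k F (a2 * a1⁻¹)) • U.χ c = 0 := by
      rw [sub_smul, ha2, sub_self]
    rcases smul_eq_zero.1 h4 with h5 | h5
    · exact hθ _ (sub_eq_zero.1 h5).symm
    · exact hne h5
  obtain ⟨s, hs⟩ := U.JA c hcJ hχ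
  have heq : ∀ m, U.ε (U.L g (U.B (g.symm m))) + g (U.ε (L' (U.B m))) = U.ε (s • U.B m) := by
    intro m
    have h3 := hs m
    rw [hcm] at h3
    exact add_left_cancel h3
  have hs0 : s = 0 := by
    by_contra hs0
    obtain ⟨m, hm⟩ := U.B_surj b0
    have h3 := heq m
    rw [hm] at h3
    have h4 : g (U.ε (L' b0)) = U.ε (s • b0 + U.L g (U.B (g.symm m))) := by
      rw [map_add, ← h3, add_comm, ← add_assoc, U.two_M, zero_add]
    have h5 := congrArg (U.cn g) h4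
    rw [cn_gε, cn_ε] at h5
    change 0 = g (U.ε (L' _)) at h5
    rw [map_add, hL'L, add_zero] at h5
    have h6 : L' (s • b0) = 0 := by
      apply U.ε_inj
      apply g.injective
      rw [← h5, map_zero, map_zero]
    rw [map_smul] at h6
    rcases smul_eq_zero.1 h6 with h7 | h7
    · exact hs0 h7
    · exact hb0 h7
  have heq' : ∀ m, U.ε (U.L g (U.B (g.symm m))) = g (U.ε (L' (U.B m))) := by
    intro m
    have h3 := heq m
    rw [hs0, zero_smul, map_zero] at h3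
    have h4 := U.two_M (g (U.ε (L' (U.B m))))
    exact add_right_cancel (h3.trans h4.symm)
  -- `g (ε c1) ∈ e`
  obtain ⟨w, hw⟩ : ∃ w, g (U.ε c1) = U.ε w := by
    obtain ⟨m', hm'⟩ := U.B_surj c0
    have h3 := heq' (g m')
    rw [LinearEquiv.symm_apply_apply, hm'] at h3
    obtain ⟨a, ha⟩ := hLc1 (U.B (g m'))
    rw [ha, map_smul, map_smul] at h3
    have ha0 : a ≠ 0 := by
      rintro rfl
      rw [zero_smul] at h3
      exact hc0 (U.ε_inj (by rw [h3, map_zero]))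
    refine ⟨a⁻¹ • U.L g c0, ?_⟩
    rw [map_smul, h3, smul_smul, inv_mul_cancel₀ ha0, one_smul]
  have hst : ∀ b : k, ∀ c, ∃ c', U.cu g b (U.ε c) = U.ε c' := by
    intro b c
    obtain ⟨a, ha⟩ := hLc1 c
    refine ⟨c + (b * a) • w, ?_⟩
    rw [cu_apply, cn_ε]
    change U.ε c + b • g (U.ε (L' c)) = _
    rw [ha, map_smul, map_smul, hw, smul_smul, map_add, map_smul]
  have hnt : ∀ b : k, (∀ c, U.cu g b (U.ε c) = U.ε c) → b = 0 := by
    intro b hb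
    have h3 := hb b0
    rw [cu_apply, cn_ε] at h3
    change U.ε b0 + b • g (U.ε (L' b0)) = _ at h3
    have h4 : b • g (U.ε (L' b0)) = 0 := by
      have : U.ε b0 + b • g (U.ε (L' b0)) = U.ε b0 + 0 := by rw [h3, add_zero]
      exact add_left_cancel this
    rcases smul_eq_zero.1 h4 with h5 | h5
    · exact h5
    · exact absurd (U.ε_inj (by
        rw [map_zero]; exact g.injective (by rw [h5, map_zero]))) hb0
  obtain ⟨b, hb1, hb2⟩ := U.toQuad.exists_b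
  have hcomm : U.cu g 1 * U.cu g b = U.cu g b * U.cu g 1 := by
    rw [cu_mul, cu_mul, add_comm]
  rcases U.Se (U.cu g 1) (U.cu_mem hg 1) (U.cu g b) (U.cu_mem hg b) hcomm (U.cu_sq g 1)
    (U.cu_sq g b) (hst 1) (hst b) with h | h | h
  · exact one_ne_zero (hnt 1 h)
  · exact hb1 (hnt b h)
  · refine hb2 ?_
    have h3 : (1 : k) + b = 0 := by
      apply hnt
      intro c
      rw [← cu_mul]
      exact h c
    have h4 : (1 : k) + 1 = 0 := CharTwo.add_self_eq_zero 1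
    exact add_left_cancel (h3.trans h4.symm)

end

end Uni

end Cfsg.Agent.Omega.NOne.SU

end

section


/-!
# THEOREM UNI, section 2: opposite pairs

`Opp U g δ`: `g e` is opposite to `e`; then `n' n = δ` on `g e`, `n n' = δ` on `e`.
`hel g δ z ∈ H`: `z` on `e`, `z⁻¹` on `g e`, `1` on `e^⊥ ∩ (g e)^⊥`.
-/

set_option autoImplicit false

namespace Cfsg.Agent.Omega.NOne.SU

/-- a `k`-linear map of `F` for which every vector is an eigenvector is a scalar. -/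
theorem Quad.scalar {k F : Type*} [Field k] [Field F] [Algebra k F] (P : F →ₗ[k] F)
    (h : ∀ c, ∃ a : k, P c = a • c) : ∃ δ : k, ∀ c, P c = δ • c := by
  obtain ⟨δ, hδ⟩ := h 1
  refine ⟨δ, fun c => ?_⟩
  by_cases hc : ∃ a : k, algebraMap k F a = c
  · obtain ⟨a, rfl⟩ := hc
    have h1 : algebraMap k F a = a • (1 : F) := by rw [Algebra.smul_def, mul_one]
    rw [h1, map_smul, hδ, smul_comm]
  · push Not at hc
    obtain ⟨a2, h2⟩ := h c
    obtain ⟨a3, h3⟩ := h (1 + c)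
    rw [map_add, hδ, h2] at h3
    by_cases h23 : a2 = a3
    · subst h23
      have h4 : δ • (1 : F) = a2 • (1 : F) := by
        rw [smul_add] at h3
        exact add_right_cancel h3
      rw [Algebra.smul_def, Algebra.smul_def, mul_one, mul_one] at h4
      rw [h2, (algebraMap k F).injective h4]
    · exfalso
      have h4 : (a2 - a3) • c = (a3 - δ) • (1 : F) := by
        rw [sub_smul, sub_smul]
        rw [smul_add] at h3
        linear_combination (exp := 1) h3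
      have h5 : a2 - a3 ≠ 0 := sub_ne_zero.2 h23
      refine hc ((a2 - a3)⁻¹ * (a3 - δ)) ?_
      rw [← mul_one (algebraMap k F _), ← Algebra.smul_def, mul_smul, ← h4, smul_smul,
        inv_mul_cancel₀ h5, one_smul]

namespace Uni

variable {k F M Φ : Type*} [Field k] [Field F] [Algebra k F] [AddCommGroup M] [Module k M]
    [AddCommGroup Φ] [Module k Φ] [Module F Φ] (U : Uni k F M Φ)

/-- `g e` is opposite to `e`. -/
structure Opp (g : M ≃ₗ[k] M) (δ : k) : Prop where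
  mem : g ∈ U.H
  ne : δ ≠ 0
  LL' : ∀ c, U.L g (U.L g.symm c) = δ • c
  L'L : ∀ c, U.L g.symm (U.L g c) = δ • c

include U

theorem L_surj {g : M ≃ₗ[k] M} (ho : ∀ c, U.L g c = 0 → c = 0) (b : F) : ∃ c, U.L g c = b := by
  have := U.toQuad.finite_F
  have hi : Function.Injective (U.L g) := (injective_iff_map_eq_zero _).2 ho
  exact Finite.surjective_of_injective hi b

theorem L_injective {g : M ≃ₗ[k] M} (ho : ∀ c, U.L g c = 0 → c = 0) : Function.Injective (U.L g) :=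
  (injective_iff_map_eq_zero _).2 ho

variable [CharP k 2]

theorem opp_symm {g : M ≃ₗ[k] M} (hg : g ∈ U.H) (ho : ∀ c, U.L g c = 0 → c = 0) :
    ∀ c, U.L g.symm c = 0 → c = 0 := by
  intro c hc
  refine U.toQuad.tr_nondeg fun x => ?_
  obtain ⟨c', hc'⟩ := U.L_surj ho (U.sg x)
  rw [mul_comm, ← U.sg_sg x, ← hc', U.L_adj hg, hc, map_zero, mul_zero, map_zero]

theorem exists_δ {g : M ≃ₗ[k] M} (hg : g ∈ U.H) (ho : ∀ c, U.L g c = 0 → c = 0) :
    ∃ δ, U.Opp g δ := by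
  obtain ⟨δ, hδ⟩ := Quad.scalar (U.L g.symm ∘ₗ U.L g) (by
    intro c
    by_cases hc : c = 0
    · exact ⟨0, by rw [hc, map_zero, smul_zero]⟩
    have hLc : U.L g c ≠ 0 := fun h => hc (ho c h)
    have h1 : U.tr (U.L g (U.L g.symm (U.L g c)) * U.sg (U.L g c)) = 0 := by
      rw [U.toQuad.tr_comm, U.L_adj hg, U.toQuad.tr_self]
    obtain ⟨a, ha⟩ := U.toQuad.mem_of_tr hLc h1
    refine ⟨a, ?_⟩
    apply U.L_injective ho
    rw [map_smul, ← ha]
    rfl)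
  have hδ' : ∀ c, U.L g.symm (U.L g c) = δ • c := hδ
  refine ⟨δ, hg, ?_, ?_, hδ'⟩
  · rintro rfl
    have h1 := hδ' 1
    rw [zero_smul] at h1
    exact one_ne_zero (ho 1 (U.opp_symm hg ho _ h1))
  · intro c
    obtain ⟨c', rfl⟩ := U.L_surj ho c
    rw [hδ', map_smul]

/-- `z` on `e`, `z⁻¹` on `g e`, `1` on the rest. -/
noncomputable def hel (g : M ≃ₗ[k] M) (δ z : k) : M ≃ₗ[k] M :=
  U.u z * U.cu g (z⁻¹ * δ⁻¹) * U.u z * (U.u 1 * U.cu g δ⁻¹ * U.u 1)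

/-- the coordinate map `F ≃ g e`, inverse of `B`. -/
noncomputable def v (g : M ≃ₗ[k] M) (δ : k) : F →ₗ[k] M :=
  δ⁻¹ • (g.toLinearMap ∘ₗ U.ε ∘ₗ U.L g.symm)

omit [CharP k 2] in
theorem v_apply (g : M ≃ₗ[k] M) (δ : k) (s : F) :
    U.v g δ s = δ⁻¹ • g (U.ε (U.L g.symm s)) := rfl

end Uni

namespace Uni.Opp

variable {k F M Φ : Type*} [Field k] [Field F] [Algebra k F] [AddCommGroup M] [Module k M]
    [AddCommGroup Φ] [Module k Φ] [Module F Φ] {U : Uni k F M Φ} {g : M ≃ₗ[k] M} {δ : k}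
    (h : U.Opp g δ)
include h

theorem inj : ∀ c, U.L g c = 0 → c = 0 := by
  intro c hc
  have h1 := h.L'L c
  rw [hc, map_zero] at h1
  rcases smul_eq_zero.1 h1.symm with h2 | h2
  · exact absurd h2 h.ne
  · exact h2

theorem inj' : ∀ c, U.L g.symm c = 0 → c = 0 := by
  intro c hc
  have h1 := h.LL' c
  rw [hc, map_zero] at h1
  rcases smul_eq_zero.1 h1.symm with h2 | h2
  · exact absurd h2 h.ne
  · exact h2

theorem ncn (m : M) : U.n (U.cn g (U.n m)) = δ • U.n m := by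
  rw [U.n_apply m, U.cn_ε, U.n_gε, h.LL', map_smul]

theorem cnc (m : M) : U.cn g (U.n (U.cn g m)) = δ • U.cn g m := by
  rw [U.cn_apply g m, U.n_gε, U.cn_ε, h.L'L, map_smul, map_smul]

theorem hel_mem (z : k) : U.hel g δ z ∈ U.H := by
  have h1 : ∀ a, U.u a ∈ U.H := fun a => U.J_le (U.u_mem a)
  exact mul_mem (mul_mem (mul_mem (h1 _) (U.cu_mem h.mem _)) (h1 _))
    (mul_mem (mul_mem (h1 _) (U.cu_mem h.mem _)) (h1 _))

theorem hel_apply [CharP k 2] {z : k} (hz : z ≠ 0) (m : M) :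
    U.hel g δ z m = m + ((z - 1) * δ⁻¹) • U.n (U.cn g m) +
      ((z⁻¹ - 1) * δ⁻¹) • U.cn g (U.n m) := by
  have e1 : U.hel g δ z m = U.u z (U.cu g (z⁻¹ * δ⁻¹) (U.u z (U.u 1 (U.cu g δ⁻¹
    (U.u 1 m))))) := rfl
  rw [e1]
  simp only [u_apply, cu_apply, map_add, map_smul, n_n, cn_cn, h.ncn, h.cnc, one_smul, smul_zero,
    add_zero]
  have hzw : z * z⁻¹ = 1 := mul_inv_cancel₀ hz
  have hd : δ * δ⁻¹ = 1 := mul_inv_cancel₀ h.ne
  have t2 : (2 : k) = 0 := CharTwo.two_eq_zero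
  generalize z⁻¹ = w at *
  generalize δ⁻¹ = d at *
  match_scalars <;> grind

/-- `n n' = δ` on `e` -/
theorem n_cn_ε (c : F) : U.n (U.cn g (U.ε c)) = δ • U.ε c := by
  rw [U.cn_ε, U.n_gε, h.LL', map_smul]

theorem cn_n_g (c : F) : U.cn g (U.n (g (U.ε c))) = δ • g (U.ε c) := by
  rw [U.n_gε, U.cn_ε, h.L'L, map_smul, map_smul]

theorem hel_ε [CharP k 2] {z : k} (hz : z ≠ 0) (c : F) :
    U.hel g δ z (U.ε c) = z • U.ε c := by
  rw [h.hel_apply hz, h.n_cn_ε, U.n_apply, U.B_ε, map_zero, map_zero, smul_zero, add_zero,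
    smul_smul, mul_assoc, inv_mul_cancel₀ h.ne, mul_one]
  module

theorem hel_g [CharP k 2] {z : k} (hz : z ≠ 0) (c : F) :
    U.hel g δ z (g (U.ε c)) = z⁻¹ • g (U.ε c) := by
  rw [h.hel_apply hz, U.cn_gε, map_zero, smul_zero, add_zero, h.cn_n_g,
    smul_smul, mul_assoc, inv_mul_cancel₀ h.ne, mul_one]
  module

theorem B_cn_n (m : M) : U.B (U.cn g (U.n m)) = δ • U.B m := by
  rw [U.n_apply, U.cn_ε]
  exact h.LL' _

theorem B_n (m : M) : U.B (U.n m) = 0 := by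
  have _ := h
  exact U.B_ε _

theorem B_hel [CharP k 2] {z : k} (hz : z ≠ 0) (m : M) :
    U.B (U.hel g δ z m) = z⁻¹ • U.B m := by
  rw [h.hel_apply hz, map_add, map_add, map_smul, map_smul, h.B_n, smul_zero, add_zero, h.B_cn_n,
    smul_smul, mul_assoc, inv_mul_cancel₀ h.ne, mul_one]
  module

theorem hel_P [CharP k 2] {z : k} (hz : z ≠ 0) {m : M} (hm : U.B m = 0) :
    ∃ c, U.hel g δ z m - m = U.ε c := by
  rw [h.hel_apply hz, U.n_apply m, hm, map_zero, map_zero, smul_zero, add_zero,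
    add_sub_cancel_left]
  exact ⟨((z - 1) * δ⁻¹) • U.B (U.cn g m), by rw [map_smul]; rfl⟩

/-- `U = e^⊥ ∩ (g e)^⊥` is fixed. -/
theorem hel_fix [CharP k 2] {z : k} (hz : z ≠ 0) {m : M} (hm : U.n m = 0) (hm' : U.cn g m = 0) :
    U.hel g δ z m = m := by
  rw [h.hel_apply hz, hm, hm', map_zero, map_zero, smul_zero, smul_zero, add_zero, add_zero]

/-! ### coordinates on `g e` -/

theorem B_v (s : F) : U.B (U.v g δ s) = s := by
  rw [U.v_apply, map_smul]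
  change δ⁻¹ • U.L g (U.L g.symm s) = s
  rw [h.LL', smul_smul, inv_mul_cancel₀ h.ne, one_smul]

theorem g_eq_v (c : F) : g (U.ε c) = U.v g δ (U.L g c) := by
  rw [U.v_apply, h.L'L, map_smul, map_smul, smul_smul, inv_mul_cancel₀ h.ne, one_smul]

theorem v_eq_g (s : F) : ∃ c, U.v g δ s = g (U.ε c) := by
  have _ := h
  exact ⟨δ⁻¹ • U.L g.symm s, by rw [map_smul, map_smul]; rfl⟩

theorem f_v_v (s s' : F) : U.f (U.v g δ s) (U.v g δ s') = 0 := by
  rw [U.v_apply, U.v_apply, map_smul, map_smul, LinearMap.smul_apply, U.isom g h.mem, U.f_ε_ε,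
    smul_zero, smul_zero]

theorem cn_v (s : F) : U.cn g (U.v g δ s) = 0 := by
  have _ := h
  rw [U.v_apply, map_smul, U.cn_gε, smul_zero]

theorem cn_ε_v (a : F) : U.cn g (U.ε a) = δ • U.v g δ a := by
  rw [U.cn_ε, U.v_apply, smul_smul, mul_inv_cancel₀ h.ne, one_smul]

/-- `cn g u = 0` iff `u ⊥ g e` -/
theorem cn_eq_zero [CharP k 2] {u : M} (hu : ∀ s, U.f (U.v g δ s) u = 0) : U.cn g u = 0 := by
  have h1 : U.B (g.symm u) = 0 := by
    have h2 : ∀ c, U.tr (c * U.sg (U.B (g.symm u))) = 0 := by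
      intro c
      rw [← U.fe, ← U.f_left h.mem, h.g_eq_v]
      exact hu _
    have h3 := U.toQuad.tr_nondeg h2
    simpa using h3
  rw [U.cn_apply, h1, map_zero, map_zero]

/-- the unipotent group of `g e` in coordinates. -/
theorem exists_w [CharP k 2] (b : k) : ∃ w ∈ U.H, (∀ a, w (U.ε a) = U.ε a + b • U.v g δ a) ∧
    (∀ s, w (U.v g δ s) = U.v g δ s) ∧
    ∀ u, (∀ s, U.f (U.v g δ s) u = 0) → w u = u := by
  refine ⟨U.cu g (b * δ⁻¹), U.cu_mem h.mem _, ?_, ?_, ?_⟩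
  · intro a
    rw [U.cu_apply, h.cn_ε_v, smul_smul, mul_assoc, inv_mul_cancel₀ h.ne, mul_one]
  · intro s
    rw [U.cu_apply, h.cn_v, smul_zero, add_zero]
  · intro u hu
    rw [U.cu_apply, h.cn_eq_zero hu, smul_zero, add_zero]

end Uni.Opp

end Cfsg.Agent.Omega.NOne.SU

end

section


/-!
# THEOREM UNI, section 3: `J` is transitive on the planes opposite to `e`

* `Uni.exists_opp`: there is an opposite plane.
* `Uni.trans`: two opposite planes are conjugate under `J`.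
* `Uni.exists_fix`: some opposite plane is normalised by the torus `t`.
* `Uni.exists_v`: the output consumed by sections 4, 5.
-/

set_option autoImplicit false

namespace Cfsg.Agent.Omega.NOne.SU

/-- `j ↦ j (τ j τ⁻¹)⁻¹` is onto if it is injective. -/
theorem conj_surj {Γ : Type*} [Group Γ] (A : Subgroup Γ) [Finite A] (τ : Γ)
    (hn : ∀ a ∈ A, τ * a * τ⁻¹ ∈ A) (hf : ∀ a ∈ A, τ * a * τ⁻¹ = a → a = 1) {x : Γ}
    (hx : x ∈ A) : ∃ j ∈ A, x = j * (τ * j * τ⁻¹)⁻¹ := by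
  let φ : A → A := fun j => ⟨j * (τ * j * τ⁻¹)⁻¹, mul_mem j.2 (inv_mem (hn j j.2))⟩
  have hinj : Function.Injective φ := by
    intro a b hab
    have h1 : (a : Γ) * (τ * a * τ⁻¹)⁻¹ = b * (τ * b * τ⁻¹)⁻¹ := congrArg Subtype.val hab
    have h2 : τ * ((b : Γ)⁻¹ * a) * τ⁻¹ = (b : Γ)⁻¹ * a := by
      have h3 : (b : Γ)⁻¹ * a = (τ * b * τ⁻¹)⁻¹ * (τ * a * τ⁻¹) := by
        have h4 := congrArg (fun t => (b : Γ)⁻¹ * t * (τ * a * τ⁻¹)) h1
        calc (b : Γ)⁻¹ * a = (b : Γ)⁻¹ * (a * (τ * a * τ⁻¹)⁻¹) * (τ * a * τ⁻¹) := by group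
          _ = (b : Γ)⁻¹ * (b * (τ * b * τ⁻¹)⁻¹) * (τ * a * τ⁻¹) := h4
          _ = _ := by group
      calc τ * ((b : Γ)⁻¹ * a) * τ⁻¹ = (τ * b * τ⁻¹)⁻¹ * (τ * a * τ⁻¹) := by group
        _ = _ := h3.symm
    have h5 := hf _ (mul_mem (inv_mem b.2) a.2) h2
    apply Subtype.ext
    exact (inv_mul_eq_one.1 h5).symm
  obtain ⟨j, hj⟩ := Finite.surjective_of_injective hinj ⟨x, hx⟩
  exact ⟨j, j.2, (congrArg Subtype.val hj).symm⟩

namespace Uni

variable {k F M Φ : Type*} [Field k] [Field F] [Algebra k F] [AddCommGroup M] [Module k M]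
    [AddCommGroup Φ] [Module k Φ] [Module F Φ] (U : Uni k F M Φ)

/-- the elements which act on `e`, `P/e`, `M/P` as scalars. -/
structure Tor (τ : M ≃ₗ[k] M) (α β γ : F) : Prop where
  H : ∀ g ∈ U.H, τ * g * τ⁻¹ ∈ U.H
  e : ∀ c, τ (U.ε c) = U.ε (α * c)
  B : ∀ m, U.B (τ m) = β * U.B m
  y : ∀ m, U.B m = 0 → U.y (τ m) = γ • U.y m
  α0 : α ≠ 0
  β0 : β ≠ 0

variable {U}

namespace Tor

variable {τ : M ≃ₗ[k] M} {α β γ : F} (h : U.Tor τ α β γ)
include h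

theorem e' (c : F) : τ.symm (U.ε c) = U.ε (α⁻¹ * c) := by
  rw [LinearEquiv.symm_apply_eq, h.e, ← mul_assoc, mul_inv_cancel₀ h.α0, one_mul]

theorem B' (m : M) : U.B (τ.symm m) = β⁻¹ * U.B m := by
  have h1 := h.B (τ.symm m)
  rw [LinearEquiv.apply_symm_apply] at h1
  rw [h1, ← mul_assoc, inv_mul_cancel₀ h.β0, one_mul]

theorem sub (j : M ≃ₗ[k] M) (m : M) :
    (τ * j * τ⁻¹) m - m = τ (j (τ.symm m) - τ.symm m) := by
  have _ := h
  rw [map_sub, LinearEquiv.apply_symm_apply]; rfl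

theorem mem_J {j : M ≃ₗ[k] M} (hj : j ∈ U.J) : τ * j * τ⁻¹ ∈ U.J := by
  refine U.Jmax _ (h.H j (U.J_le hj)) ?_ ?_ ?_
  · intro c
    have e1 : (τ * j * τ⁻¹) (U.ε c) = τ (j (τ.symm (U.ε c))) := rfl
    rw [e1, h.e', U.Je j hj, h.e, ← mul_assoc, mul_inv_cancel₀ h.α0, one_mul]
  · intro m hm
    have h1 : U.B (τ.symm m) = 0 := by rw [h.B', hm, mul_zero]
    rw [h.sub, U.JP j hj _ h1, add_sub_cancel_left, h.e]
    exact ⟨_, rfl⟩
  · intro m
    rw [h.sub, h.B, (U.JM j hj _).1, mul_zero]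

theorem χ [CharP k 2] {j : M ≃ₗ[k] M} (hj : j ∈ U.J) :
    U.χ (τ * j * τ⁻¹) = (γ * β⁻¹) • U.χ j := by
  obtain ⟨m, hm⟩ := U.B_surj 1
  have h1 := (U.JM _ (h.mem_J hj) m).2
  rw [hm, one_smul] at h1
  have h2 := U.JM j hj (τ.symm m)
  rw [← h1, h.sub, h.y _ h2.1, h2.2, h.B', hm, mul_one, mul_smul]

theorem free [CharP k 2] (h1 : γ ≠ β) (h2 : α ≠ β) :
    ∀ j ∈ U.J, τ * j * τ⁻¹ = j → j = 1 := by
  intro j hj hjj
  have h3 : U.χ j = 0 := by
    have h4 := h.χ hj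
    rw [hjj] at h4
    have h5 : (1 - γ * β⁻¹) • U.χ j = 0 := by rw [sub_smul, one_smul, ← h4, sub_self]
    rcases smul_eq_zero.1 h5 with h6 | h6
    · exfalso
      apply h1
      have h7 := (sub_eq_zero.1 h6).symm
      rw [← div_eq_mul_inv, div_eq_one_iff_eq h.β0] at h7
      exact h7
    · exact h6
  obtain ⟨a, ha⟩ := U.JA j hj h3
  obtain ⟨m, hm⟩ := U.B_surj 1
  have h4 := h.sub j m
  rw [hjj, ha, ha, add_sub_cancel_left, add_sub_cancel_left, h.e, h.B', hm, mul_one] at h4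
  have h5 := U.ε_inj h4
  have h6 : (1 - α * β⁻¹) * algebraMap k F a = 0 := by
    rw [Algebra.smul_def, Algebra.smul_def, mul_one] at h5
    linear_combination h5
  have h7 : a = 0 := by
    rcases mul_eq_zero.1 h6 with h8 | h8
    · exfalso
      apply h2
      have h9 := (sub_eq_zero.1 h8).symm
      rw [← div_eq_mul_inv, div_eq_one_iff_eq h.β0] at h9
      exact h9
    · exact (map_eq_zero_iff _ (algebraMap k F).injective).1 h8
  ext m'
  rw [ha, h7, zero_smul, map_zero, add_zero]; rfl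

end Tor

section
variable [CharP k 2]

theorem tor_hel {g : M ≃ₗ[k] M} {δ : k} (h : U.Opp g δ) {z : k} (hz : z ≠ 0) :
    U.Tor (U.hel g δ z) (algebraMap k F z) (algebraMap k F z⁻¹) 1 where
  H := fun g' hg' => mul_mem (mul_mem (h.hel_mem z) hg') (inv_mem (h.hel_mem z))
  e := fun c => by rw [h.hel_ε hz, ← map_smul, Algebra.smul_def]
  B := fun m => by rw [h.B_hel hz, Algebra.smul_def]
  y := fun m hm => by
    obtain ⟨c, hc⟩ := h.hel_P hz hm
    rw [one_smul, ← sub_eq_zero, ← map_sub, hc, U.y_ε]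
  α0 := by
    rw [Ne, map_eq_zero_iff _ (algebraMap k F).injective]; exact hz
  β0 := by
    rw [Ne, map_eq_zero_iff _ (algebraMap k F).injective]; exact inv_ne_zero hz

theorem sq_ne {z : k} (hz : z ≠ 0) (hz1 : z ≠ 1) : z ≠ z⁻¹ := by
  intro h
  apply hz1
  have h1 : z * z = 1 := by
    nth_rw 2 [h]; exact mul_inv_cancel₀ hz
  have h2 : (2 : k) = 0 := CharTwo.two_eq_zero
  have h3 : (z - 1) * (z - 1) = 0 := by linear_combination h1 + (1 - z) * h2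
  have h4 := mul_self_eq_zero.1 h3
  exact sub_eq_zero.1 h4

variable (U) in
include U in
/-- some conjugate of `e` is opposite to `e`. -/
theorem exists_opp [IsScalarTower k F Φ] : ∃ g δ, U.Opp g δ := by
  by_contra hcon
  push Not at hcon
  have h1 : ∀ g ∈ U.H, ∀ c, U.L g c = 0 := by
    intro g hg
    rcases U.pos hg with h | h
    · exact h
    · obtain ⟨δ, hδ⟩ := U.exists_δ hg h
      exact absurd hδ (hcon g δ)
  have h2 := U.Om (LinearMap.ker U.B) fun g hg c => by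
    rw [LinearMap.mem_ker]; exact h1 g hg c
  obtain ⟨m, hm⟩ := U.B_surj 1
  have h3 : m ∈ LinearMap.ker U.B := by rw [h2]; trivial
  rw [LinearMap.mem_ker, hm] at h3
  exact one_ne_zero h3

/-- **Section 3**: transitivity. -/
theorem Opp.trans [Finite M] {g₁ g₂ : M ≃ₗ[k] M} {δ₁ δ₂ : k} (h₁ : U.Opp g₁ δ₁)
    (h₂ : U.Opp g₂ δ₂) : ∃ j ∈ U.J, ∀ c, ∃ c', j (g₁ (U.ε c)) = g₂ (U.ε c') := by
  obtain ⟨z, hz0, hz1⟩ := U.toQuad.exists_b
  have hfin : Finite (M ≃ₗ[k] M) :=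
    Finite.of_injective (fun e : M ≃ₗ[k] M => (e : M → M)) DFunLike.coe_injective
  set η₁ := U.hel g₁ δ₁ z with hη₁
  set η₂ := U.hel g₂ δ₂ z with hη₂
  have T₁ := tor_hel h₁ hz0
  rw [← hη₁] at T₁
  have halg : algebraMap k F z ≠ algebraMap k F z⁻¹ := fun h =>
    sq_ne hz0 hz1 ((algebraMap k F).injective h)
  have halg1 : (1 : F) ≠ algebraMap k F z⁻¹ := by
    intro h
    rw [← map_one (algebraMap k F)] at h
    have := (algebraMap k F).injective h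
    exact hz1 (by rw [← inv_inv z, ← this, inv_one])
  -- `η₂ η₁⁻¹ ∈ J`
  have hx : η₂ * η₁⁻¹ ∈ U.J := by
    refine U.Jmax _ (mul_mem (h₂.hel_mem z) (inv_mem (h₁.hel_mem z))) ?_ ?_ ?_
    · intro c
      have e1 : (η₂ * η₁⁻¹) (U.ε c) = η₂ (η₁.symm (U.ε c)) := rfl
      rw [e1, T₁.e', hη₂, h₂.hel_ε hz0, ← map_smul, Algebra.smul_def, ← mul_assoc,
        mul_inv_cancel₀ T₁.α0, one_mul]
    · intro m hm
      have hm' : U.B (η₁.symm m) = 0 := by rw [T₁.B', hm, mul_zero]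
      obtain ⟨c₁, hc₁⟩ := h₁.hel_P hz0 hm'
      obtain ⟨c₂, hc₂⟩ := h₂.hel_P hz0 hm'
      refine ⟨c₂ - c₁, ?_⟩
      rw [← hη₁, LinearEquiv.apply_symm_apply] at hc₁
      rw [← hη₂] at hc₂
      have e1 : (η₂ * η₁⁻¹) m = η₂ (η₁.symm m) := rfl
      rw [e1, map_sub, ← hc₁, ← hc₂]
      abel
    · intro m
      have e1 : (η₂ * η₁⁻¹) m = η₂ (η₁.symm m) := rfl
      rw [e1, map_sub, hη₂, h₂.B_hel hz0, T₁.B', Algebra.smul_def, ← mul_assoc,
        mul_inv_cancel₀ T₁.β0, one_mul, sub_self]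
  obtain ⟨j, hj, hjx⟩ := conj_surj U.J η₁ (fun a ha => T₁.mem_J ha) (T₁.free halg1 halg) hx
  have hconj : η₂ * j = j * η₁ := by
    calc η₂ * j = (η₂ * η₁⁻¹) * (η₁ * j) := by group
      _ = j * (η₁ * j * η₁⁻¹)⁻¹ * (η₁ * j) := by rw [hjx]
      _ = j * η₁ := by group
  refine ⟨j, hj, fun c => ?_⟩
  set m := j (g₁ (U.ε c)) with hm
  have h3 : η₂ m = z⁻¹ • m := by
    have e1 : η₂ m = (η₂ * j) (g₁ (U.ε c)) := rfl
    have e2 : (j * η₁) (g₁ (U.ε c)) = j (η₁ (g₁ (U.ε c))) := rfl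
    rw [e1, hconj, e2, hη₁, h₁.hel_g hz0, map_smul]
  rw [hη₂, h₂.hel_apply hz0] at h3
  have hzz : z - z⁻¹ ≠ 0 := sub_ne_zero.2 (sq_ne hz0 hz1)
  have h4 : U.n (U.cn g₂ m) = 0 := by
    have h5 := congrArg (fun x => U.n (U.cn g₂ x)) h3
    simp only [map_add, map_smul, h₂.cnc, U.cn_cn, smul_zero, add_zero] at h5
    have h6 : (z - z⁻¹) • U.n (U.cn g₂ m) = 0 := by
      have hd : δ₂⁻¹ * δ₂ = 1 := inv_mul_cancel₀ h₂.ne
      have h7 : U.n (U.cn g₂ m) + ((z - 1) * δ₂⁻¹) • δ₂ • U.n (U.cn g₂ m) =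
          z • U.n (U.cn g₂ m) := by
        rw [smul_smul, mul_assoc, hd, mul_one]; module
      rw [h7] at h5
      rw [sub_smul, h5, sub_self]
    rcases smul_eq_zero.1 h6 with h7 | h7
    · exact absurd h7 hzz
    · exact h7
  rw [h4, smul_zero, add_zero] at h3
  have hz2 : z⁻¹ - 1 ≠ 0 := by
    intro h
    have h5 := sub_eq_zero.1 h
    exact hz1 (by rw [← inv_inv z, h5, inv_one])
  refine ⟨δ₂⁻¹ • U.L g₂.symm (U.B m), ?_⟩
  have h5 : (z⁻¹ - 1) • m = (z⁻¹ - 1) • (δ₂⁻¹ • U.cn g₂ (U.n m)) := by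
    rw [smul_smul, sub_smul, one_smul, ← h3]
    abel
  have h6 := congrArg (fun x => (z⁻¹ - 1)⁻¹ • x) h5
  simp only [smul_smul, inv_mul_cancel₀ hz2, one_smul] at h6
  rw [← mul_assoc, inv_mul_cancel₀ hz2, one_mul] at h6
  rw [map_smul, map_smul]
  exact h6

omit [CharP k 2] in
theorem tor_t (z : Fˣ) : U.Tor (U.t z) ((z : F) * (U.sg z)⁻¹) ((z : F) ^ 2) (z : F) where
  H := U.tH z
  e := U.te z
  B := U.tB z
  y := U.ty z
  α0 := mul_ne_zero z.ne_zero (inv_ne_zero (U.toQuad.sg_ne _ z.ne_zero))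
  β0 := pow_ne_zero 2 z.ne_zero

/-- an opposite plane normalised by the torus. -/
theorem exists_fix [Finite M] [IsScalarTower k F Φ] :
    ∃ g δ, U.Opp g δ ∧ ∀ z c, ∃ c', U.t z (g (U.ε c)) = g (U.ε c') := by
  have hfF := U.toQuad.finite_F
  have hfin : Finite (M ≃ₗ[k] M) :=
    Finite.of_injective (fun e : M ≃ₗ[k] M => (e : M → M)) DFunLike.coe_injective
  obtain ⟨z0, hz0⟩ := IsCyclic.exists_generator (α := Fˣ)
  -- the norm of `z0`
  have hN : (z0 : F) * U.sg z0 ≠ 1 := by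
    intro h
    let ν : Fˣ →* F :=
      { toFun := fun z => (z : F) * U.sg z
        map_one' := by simp
        map_mul' := fun a b => by
          simp only [Units.val_mul, map_mul]; ring }
    have h1 : ∀ z : Fˣ, ν z = 1 := by
      intro z
      obtain ⟨n, rfl⟩ := hz0 z
      have h2 : ν z0 = 1 := h
      have h3 : ∀ (n : ℤ), ν (z0 ^ n) = 1 := by
        intro n
        have h4 : (MonoidHom.toHomUnits ν) (z0 ^ n) = 1 := by
          rw [map_zpow]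
          have h5 : (MonoidHom.toHomUnits ν) z0 = 1 := Units.ext h2
          rw [h5, one_zpow]
        have h6 := congrArg Units.val h4
        simpa using h6
      exact h3 n
    obtain ⟨b, hb0, hb1⟩ := U.toQuad.exists_b
    have hb0' : algebraMap k F b ≠ 0 := by
      rw [Ne, map_eq_zero_iff _ (algebraMap k F).injective]; exact hb0
    have h2 : algebraMap k F b * U.sg (algebraMap k F b) = 1 := h1 (Units.mk0 _ hb0')
    rw [AlgEquiv.commutes, ← map_mul, ← map_one (algebraMap k F)] at h2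
    have h3 := (algebraMap k F).injective h2
    exact sq_ne hb0 hb1 (eq_inv_of_mul_eq_one_left h3)
  set τ := U.t z0 with hτ
  have T := tor_t (U := U) z0
  rw [← hτ] at T
  have hγβ : (z0 : F) ≠ (z0 : F) ^ 2 := by
    intro h
    apply hN
    have h1 : (z0 : F) = 1 := by
      have h2 : (z0 : F) * (z0 : F) = (z0 : F) * 1 := by rw [mul_one, ← sq]; exact h.symm
      exact mul_left_cancel₀ z0.ne_zero h2
    rw [h1, map_one, mul_one]
  have hαβ : (z0 : F) * (U.sg z0)⁻¹ ≠ (z0 : F) ^ 2 := by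
    intro h
    apply hN
    rw [sq] at h
    have h1 := mul_left_cancel₀ z0.ne_zero h
    have h2 : (z0 : F) * U.sg z0 = (U.sg z0)⁻¹ * U.sg z0 := by rw [h1]
    rw [h2, inv_mul_cancel₀ (U.toQuad.sg_ne _ z0.ne_zero)]
  obtain ⟨g₁, δ₁, h₁⟩ := exists_opp U
  have hg₂ : τ * g₁ * τ⁻¹ ∈ U.H := T.H _ h₁.mem
  have hL₂ : ∀ c, U.L (τ * g₁ * τ⁻¹) c = (z0 : F) ^ 2 *
      U.L g₁ (((z0 : F) * (U.sg z0)⁻¹)⁻¹ * c) := by
    intro c
    have e1 : U.L (τ * g₁ * τ⁻¹) c = U.B (τ (g₁ (τ.symm (U.ε c)))) := rfl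
    rw [e1, T.B, T.e']
    rfl
  obtain ⟨δ₂, h₂⟩ := U.exists_δ hg₂ (by
    intro c hc
    rw [hL₂] at hc
    rcases mul_eq_zero.1 hc with h | h
    · exact absurd h T.β0
    · rcases mul_eq_zero.1 (h₁.inj _ h) with h' | h'
      · exact absurd h' (inv_ne_zero T.α0)
      · exact h')
  obtain ⟨j0, hj0, hj⟩ := Opp.trans h₁ h₂
  obtain ⟨i, hi, hix⟩ := conj_surj U.J τ (fun a ha => T.mem_J ha) (T.free hγβ hαβ) (inv_mem hj0)
  -- `j = i⁻¹` : `j = (τ j τ⁻¹) j0`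
  have hji : i⁻¹ = (τ * i⁻¹ * τ⁻¹) * j0 := by
    have h3 : j0 = (τ * i * τ⁻¹) * i⁻¹ := by
      rw [← inv_inv j0, hix]; group
    rw [h3]; group
  have hmem : i⁻¹ * g₁ ∈ U.H := mul_mem (inv_mem (U.J_le hi)) h₁.mem
  have hLg : ∀ c, U.L (i⁻¹ * g₁) c = U.L g₁ c := by
    intro c
    have e1 : U.L (i⁻¹ * g₁) c = U.B ((i⁻¹ : M ≃ₗ[k] M) (g₁ (U.ε c))) := rfl
    have h3 := (U.JM i⁻¹ (inv_mem hi) (g₁ (U.ε c))).1
    rw [map_sub, sub_eq_zero] at h3
    rw [e1, h3]; rfl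
  obtain ⟨δ, h⟩ := U.exists_δ hmem (fun c hc => h₁.inj c (by rw [← hLg]; exact hc))
  refine ⟨i⁻¹ * g₁, δ, h, ?_⟩
  -- one generator
  have hgen : ∀ c, ∃ c', (U.t z0)⁻¹ ((i⁻¹ * g₁) (U.ε c)) = (i⁻¹ * g₁) (U.ε c') := by
    intro c
    obtain ⟨c', hc'⟩ := hj c
    refine ⟨((z0 : F) * (U.sg z0)⁻¹)⁻¹ * c', ?_⟩
    have e1 : (i⁻¹ * g₁) (U.ε c) = (i⁻¹ : M ≃ₗ[k] M) (g₁ (U.ε c)) := rfl
    have e2 : ((τ * i⁻¹ * τ⁻¹) * j0) (g₁ (U.ε c)) =
      (τ * i⁻¹ * τ⁻¹) (j0 (g₁ (U.ε c))) := rfl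
    have e3 : (τ * i⁻¹ * τ⁻¹) ((τ * g₁ * τ⁻¹) (U.ε c')) =
      (τ * (i⁻¹ * g₁) * τ⁻¹) (U.ε c') := by
      have : (τ * i⁻¹ * τ⁻¹) * (τ * g₁ * τ⁻¹) = τ * (i⁻¹ * g₁) * τ⁻¹ := by group
      rw [← this]; rfl
    have e4 : (τ * (i⁻¹ * g₁) * τ⁻¹) (U.ε c') = τ ((i⁻¹ * g₁) (τ.symm (U.ε c'))) := rfl
    have e5 : (i⁻¹ : M ≃ₗ[k] M) (g₁ (U.ε c)) = ((τ * i⁻¹ * τ⁻¹) * j0) (g₁ (U.ε c)) :=
      congrArg (fun x : M ≃ₗ[k] M => x (g₁ (U.ε c))) hji
    rw [e1, e5, e2, hc', e3, e4, T.e']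
    exact LinearEquiv.symm_apply_apply _ _
  intro z
  have hz : z ∈ Submonoid.powers (z0⁻¹) := by
    have h3 : z ∈ Subgroup.zpowers (z0⁻¹) := by
      rw [Subgroup.zpowers_inv]; exact hz0 z
    rwa [← mem_powers_iff_mem_zpowers] at h3
  obtain ⟨n, rfl⟩ := hz
  simp only [map_pow, map_inv]
  induction n with
  | zero => intro c; exact ⟨c, by rw [pow_zero]; rfl⟩
  | succ n ih =>
    intro c
    obtain ⟨c', hc'⟩ := hgen c
    obtain ⟨c'', hc''⟩ := ih c'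
    refine ⟨c'', ?_⟩
    rw [pow_succ]
    have e1 : ((U.t z0)⁻¹ ^ n * (U.t z0)⁻¹) ((i⁻¹ * g₁) (U.ε c)) =
      ((U.t z0)⁻¹ ^ n) ((U.t z0)⁻¹ ((i⁻¹ * g₁) (U.ε c))) := rfl
    rw [e1, hc', hc'']

omit [CharP k 2] in
/-- decomposition `M = e + (e^⊥ ∩ (g e)^⊥) + g e`. -/
theorem Opp.decomp {g : M ≃ₗ[k] M} {δ : k} (h : U.Opp g δ) (m : M) :
    ∃ a w, m = U.ε a + w + U.v g δ (U.B m) ∧ U.B w = 0 ∧ ∀ s, U.f (U.v g δ s) w = 0 := by
  set w := m - δ⁻¹ • U.n (U.cn g m) - δ⁻¹ • U.cn g (U.n m) with hw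
  have h1 : U.n w = 0 := by
    rw [hw, map_sub, map_sub, map_smul, map_smul, U.n_n, smul_zero, sub_zero, h.ncn, smul_smul,
      inv_mul_cancel₀ h.ne, one_smul, sub_self]
  have h2 : U.cn g w = 0 := by
    rw [hw, map_sub, map_sub, map_smul, map_smul, h.cnc, U.cn_cn, smul_zero, sub_zero, smul_smul,
      inv_mul_cancel₀ h.ne, one_smul, sub_self]
  have hBw : U.B w = 0 := by
    rw [U.n_apply] at h1
    exact U.ε_inj (by rw [h1, map_zero])
  refine ⟨δ⁻¹ • U.B (U.cn g m), w, ?_, hBw, ?_⟩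
  · have h3 : U.ε (δ⁻¹ • U.B (U.cn g m)) = δ⁻¹ • U.n (U.cn g m) := by rw [map_smul]; rfl
    have h4 : U.v g δ (U.B m) = δ⁻¹ • U.cn g (U.n m) := rfl
    rw [h3, h4, hw]; abel
  · intro s
    obtain ⟨c, hc⟩ := h.v_eq_g s
    rw [hc, U.f_left h.mem, U.fe]
    have h3 : U.B (g.symm w) = 0 := by
      rw [U.cn_apply] at h2
      apply U.ε_inj
      apply g.injective
      rw [h2, map_zero, map_zero]
    rw [h3, map_zero, mul_zero, map_zero]

variable (U) in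
include U in
/-- **Output of sections 1-3.** -/
theorem exists_v [Finite M] [IsScalarTower k F Φ] : ∃ g0 ∈ U.H, ∃ v : F →ₗ[k] M,
    (∀ s, U.B (v s) = s) ∧ (∀ s, ∃ s', g0 (U.ε s) = v s') ∧
    (∀ s, ∃ s', v s = g0 (U.ε s')) ∧
    (∀ s s', U.f (v s) (v s') = 0) ∧
    (∀ (z : Fˣ) s, U.t z (v s) = v ((z : F) ^ 2 * s)) ∧
    (∀ b : k, ∃ w ∈ U.H, (∀ a, w (U.ε a) = U.ε a + b • v a) ∧ (∀ s, w (v s) = v s) ∧
      ∀ u, (∀ s, U.f (v s) u = 0) → w u = u) ∧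
    (∀ g ∈ U.H, (∀ c, U.B (g (U.ε c)) = 0 → c = 0) →
      ∃ j ∈ U.J, ∀ s, ∃ s', j (v s) = g (U.ε s')) ∧
    (∀ m, ∃ a w, m = U.ε a + w + v (U.B m) ∧ U.B w = 0 ∧ ∀ s, U.f (v s) w = 0) := by
  obtain ⟨g, δ, h, hfix⟩ := exists_fix (U := U)
  refine ⟨g, h.mem, U.v g δ, h.B_v, fun s => ⟨_, h.g_eq_v s⟩, h.v_eq_g, h.f_v_v, ?_,
    h.exists_w, ?_, h.decomp⟩
  · intro z s
    obtain ⟨c, hc⟩ := h.v_eq_g s
    obtain ⟨c', hc'⟩ := hfix z c
    have h1 : U.t z (U.v g δ s) = U.v g δ (U.L g c') := by rw [hc, hc', h.g_eq_v]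
    have h2 := U.tB z (U.v g δ s)
    rw [h.B_v, h1, h.B_v] at h2
    rw [h1, h2]
  · intro g' hg' hop
    obtain ⟨δ', h'⟩ := U.exists_δ hg' hop
    obtain ⟨j, hj, hjj⟩ := Opp.trans h h'
    refine ⟨j, hj, fun s => ?_⟩
    obtain ⟨c, hc⟩ := h.v_eq_g s
    rw [hc]
    exact hjj c

end

end Uni

end Cfsg.Agent.Omega.NOne.SU

end

end

-- merged: Cfsg.Agent.Mrg.Omega.NOne.SU.HermOut
section

section


/-!
# THEOREM UNI: the output

`exists_herm : ∃ (_ : Module F M), Nonempty (Herm D)`; `Herm D` lists everything: the `F`-structure,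
the hermitian form `g` with `f = tr g`, all isotropic points are conjugate to `e` under the group
`HT` generated by the conjugates of the `N_a` (= all unitary transvections), every conjugate of
`e` is an isotropic point, `J` = all linear isometries trivial on `e`, `e^⊥/e`, `M/e^⊥`, and
every additive map normalising `H`, preserving `f` up to a function of the value and permuting the
conjugates of `e` is a semilinear similitude (if `Φ ≠ 0`, or if it is semilinear on `e`).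
-/

set_option autoImplicit false
set_option linter.unusedSectionVars false

namespace Cfsg.Agent.Omega.NOne.SU

open Quad

namespace Uni

variable {k F M Φ : Type*} [Field k] [Field F] [Algebra k F] [AddCommGroup M] [Module k M]
    [AddCommGroup Φ] [Module k Φ] [Module F Φ]

theorem tower_of [CharP k 2] (D : Uni k F M Φ) : IsScalarTower k F Φ := by
  have key : ∀ (a : k) (x : Φ), algebraMap k F a • x = a • x := by
    intro a x
    obtain ⟨j, hj, rfl⟩ := D.Jall x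
    obtain ⟨m, hm⟩ := D.B_surj 1
    have h1 := (D.JM j hj (a • m)).2
    have h2 := (D.JM j hj m).2
    rw [map_smul, ← smul_sub, map_smul, h2, hm, one_smul, map_smul, hm] at h1
    rw [h1, Algebra.algebraMap_eq_smul_one]
  refine ⟨fun a s x => ?_⟩
  rw [Algebra.smul_def, mul_smul, key]

theorem exists_sw [CharP k 2] [Finite M] (D : Uni k F M Φ) : ∃ o : D.OppV, Sw o := by
  have := D.tower_of
  obtain ⟨g0, -, v, h1, -, -, h2, h3, h4, h5, -⟩ := exists_v (U := D)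
  exact ⟨⟨v, h1, h2, h3⟩, fun b => by
    obtain ⟨w, hw, a1, a2, a3⟩ := h4 b
    exact ⟨w, hw, a1, a2, fun m _ hm => a3 m hm⟩, fun g hg => D.pos hg, h5⟩

/-- an additive map `ζ` normalises `H`, preserves `f` up to the function `l` and maps `e` to a
conjugate of `e`. -/
structure Norm (D : Uni k F M Φ) (ζ : M ≃+ M) (l : k → k) : Prop where
  H : ∀ g ∈ D.H, ∃ g' ∈ D.H, ∀ m, ζ (g m) = g' (ζ m)
  f : ∀ m m', D.f (ζ m) (ζ m') = l (D.f m m')
  l0 : ∀ a, l a = 0 → a = 0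
  e : ∃ g ∈ D.H, ∀ c, ∃ c', ζ (D.ε c) = g (D.ε c')

/-- **OUTPUT of THEOREM UNI.** -/
structure Herm (D : Uni k F M Φ) [Module F M] where
  /-- the hermitian form -/
  g : M → M → F
  /-- an opposite point -/
  v : F →ₗ[k] M
  tower : ∀ (a : k) (m : M), algebraMap k F a • m = a • m
  add_left : ∀ m m' w, g (m + m') w = g m w + g m' w
  add_right : ∀ w m m', g w (m + m') = g w m + g w m'
  smul_left : ∀ (s : F) m w, g (s • m) w = s * g m w
  smul_right : ∀ (s : F) m w, g m (s • w) = D.sg s * g m w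
  sym : ∀ m w, g w m = D.sg (g m w)
  nondeg : ∀ m, (∀ w, g m w = 0) → m = 0
  f_eq : ∀ m w, D.f m w = D.tr (g m w)
  ε_smul : ∀ s c, D.ε (s * c) = s • D.ε c
  g_ε : ∀ m c, g m (D.ε c) = D.B m * D.sg c
  B_smul : ∀ (s : F) m, D.B (s • m) = s * D.B m
  y_smul : ∀ (s : F) m, D.B m = 0 → D.y (s • m) = s • D.y m
  g_y : ∀ m m', D.B m = 0 → D.B m' = 0 → g m m' = D.hm (D.y m) (D.y m')
  v_smul : ∀ s b, v (s * b) = s • v b
  B_v : ∀ b, D.B (v b) = b
  g_v : ∀ b b', g (v b) (v b') = 0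
  t_v : ∀ (z : Fˣ) b, D.t z (v b) = v ((z : F) ^ 2 * b)
  J_smul : ∀ j ∈ D.J, ∀ (s : F) m, j (s • m) = s • j m
  t_smul : ∀ (z : Fˣ) (s : F) m, D.t z (s • m) = s • D.t z m
  t_g : ∀ (z : Fˣ) m m', g (D.t z m) (D.t z m') = algebraMap k F (D.nm z) * g m m'
  /-- linear isometries of `f` are isometries of `g` -/
  isom : ∀ ζ : M → M, (∀ (s : F) m, ζ (s • m) = s • ζ m) →
    (∀ m m', D.f (ζ m) (ζ m') = D.f m m') → ∀ m m', g (ζ m) (ζ m') = g m m'
  /-- all unitary transvections are in `H`, even in the group `HT` -/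
  transv : ∀ m0, g m0 m0 = 0 → ∀ a : k, ∃ h ∈ D.HT, ∀ m, h m = m + a • g m m0 • m0
  /-- `HT` is transitive on the isotropic points -/
  pt : ∀ m, g m m = 0 → m ≠ 0 → ∃ h ∈ D.HT, (∀ (s : F) m, h (s • m) = s • h m) ∧
    ∃ c : F, c ≠ 0 ∧ h (D.ε c) = m
  /-- the conjugates of `e` are isotropic points -/
  conj : ∀ h ∈ D.H, ∃ h' ∈ D.HT, (∀ (s : F) m, h' (s • m) = s • h' m) ∧
    (∀ c, ∃ c', h (D.ε c) = h' (D.ε c')) ∧ ∀ c', ∃ c, h (D.ε c) = h' (D.ε c')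
  mem_J : ∀ ζ : M ≃ₗ[k] M, (∀ (s : F) m, ζ (s • m) = s • ζ m) →
    (∀ m m', D.f (ζ m) (ζ m') = D.f m m') → (∀ c, ζ (D.ε c) = D.ε c) →
    (∀ m, D.B m = 0 → ∃ c, ζ m - m = D.ε c) → (∀ m, D.B (ζ m) = D.B m) → ζ ∈ D.J
  /-- semilinearity, if `Φ ≠ 0` -/
  semi : Nontrivial Φ → ∀ (ζ : M ≃+ M) (l : k → k), D.Norm ζ l →
    ∃ (σ : F →+* F) (γ : k), γ ≠ 0 ∧ (∀ (s : F) m, ζ (s • m) = σ s • ζ m) ∧
      (∀ m m', g (ζ m) (ζ m') = γ • σ (g m m')) ∧ ∀ x, l (D.tr x) = γ * D.tr (σ x)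
  /-- semilinearity, if it is given on `e` -/
  semi' : ∀ (ζ : M ≃+ M) (l : k → k), D.Norm ζ l → ∀ σ : F →+* F,
    (∀ s c : F, ζ (D.ε (s * c)) = σ s • ζ (D.ε c)) →
    ∃ γ : k, γ ≠ 0 ∧ (∀ (s : F) m, ζ (s • m) = σ s • ζ m) ∧
      (∀ m m', g (ζ m) (ζ m') = γ • σ (g m m')) ∧ ∀ x, l (D.tr x) = γ * D.tr (σ x)
  /-- if `Φ ≠ 0`, the clause `e` of `Norm` is automatic -/
  normE : Nontrivial Φ → ∀ (ζ : M ≃+ M) (l : k → k),
    (∀ g ∈ D.H, ∃ g' ∈ D.H, ∀ m, ζ (g m) = g' (ζ m)) →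
    (∀ m m', D.f (ζ m) (ζ m') = l (D.f m m')) → (∀ a, l a = 0 → a = 0) → D.Norm ζ l
  /-- the elements of `H` are semilinear isometries, if `Φ ≠ 0` -/
  semiH : Nontrivial Φ → ∀ h ∈ D.H, ∃ σ : F →+* F, (∀ a : k, σ (algebraMap k F a) = algebraMap k F a) ∧
    (∀ (s : F) m, h (s • m) = σ s • h m) ∧ ∀ m m', g (h m) (h m') = σ (g m m')

section

variable {D : Uni k F M Φ} [CharP k 2] [Finite k] [Finite F] {o : D.OppV}
variable [Module F M] (hF : IsF o)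

namespace IsF

include hF

theorem conjT (S : Sw o) {h : M ≃ₗ[k] M} (hh : h ∈ D.H) : ∃ h' ∈ D.HT, h' ∈ HF D ∧
    (∀ c, ∃ c', h (D.ε c) = h' (D.ε c')) ∧ ∀ c', ∃ c, h (D.ε c) = h' (D.ε c') := by
  obtain ⟨h1, hh1, hc⟩ := hF.conj S hh
  choose φ hφ using hc
  have h0 : φ 1 ≠ 0 := fun e => by
    have h2 := hφ 1
    rw [e, map_zero, map_zero] at h2
    have h3 : D.ε 1 = 0 := by
      apply h.injective
      rw [h2, map_zero]
    exact one_ne_zero (D.ε_inj (h3.trans (map_zero _).symm))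
  have hiso : gf o (h1 (D.ε (φ 1))) (h1 (D.ε (φ 1))) = 0 := by
    rw [hF.HF_gf hh1, gf_εε]
  obtain ⟨h', ht, hf, c0, hc0, he⟩ := hF.ptT S hiso fun e => h0 (D.ε_inj (by
    rw [map_zero]
    apply h1.injective
    rw [e, map_zero]))
  have key : ∀ c, h (D.ε c) = h' (D.ε (φ c * (φ 1)⁻¹ * c0)) := fun c => by
    rw [← hF.hε, hf.2, he, ← hh1.2, hF.hε, inv_mul_cancel_right₀ h0, hφ]
  have hinj : Function.Injective fun c => φ c * (φ 1)⁻¹ * c0 := fun a b hab => by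
    have h2 := (key a).trans ((congrArg (fun c => h' (D.ε c)) hab).trans (key b).symm)
    exact D.ε_inj (h.injective h2)
  refine ⟨h', ht, hf, fun c => ⟨_, key c⟩, fun c' => ?_⟩
  obtain ⟨c, hc⟩ := (Finite.injective_iff_surjective.1 hinj) c'
  exact ⟨c, by rw [key, ← hc]⟩

/-- move `e` back -/
theorem norm_nor (S : Sw o) {ζ : M ≃+ M} {l : k → k} (hζ : D.Norm ζ l) :
    ∃ h ∈ HF D, D.Nor (ζ.trans (h⁻¹ : M ≃ₗ[k] M).toAddEquiv) l := by
  obtain ⟨g, hg, hge⟩ := hζ.e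
  obtain ⟨h, -, hf, h1, -⟩ := hF.conjT S hg
  refine ⟨h, hf, fun g1 hg1 => ?_, fun m m' => ?_, hζ.l0, fun c => ?_⟩
  · obtain ⟨g2, hg2, h2⟩ := hζ.H g1 hg1
    refine ⟨h⁻¹ * g2 * h, mul_mem (mul_mem (inv_mem hf.1) hg2) hf.1, fun m => ?_⟩
    change h⁻¹ (ζ (g1 m)) = (h⁻¹ * g2 * h) (h⁻¹ (ζ m))
    rw [h2, LinearEquiv.mul_apply, LinearEquiv.mul_apply, apply_inv]
  · change D.f (h⁻¹ (ζ m)) (h⁻¹ (ζ m')) = _
    rw [← hζ.f, ← D.isom h hf.1 (h⁻¹ (ζ m)), apply_inv, apply_inv]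
  · obtain ⟨c1, e1⟩ := hge c
    obtain ⟨c2, e2⟩ := h1 c1
    refine ⟨c2, ?_⟩
    change h⁻¹ (ζ (D.ε c)) = _
    rw [e1, e2, inv_apply]

theorem semi' (S : Sw o) {ζ : M ≃+ M} {l : k → k} (hζ : D.Norm ζ l) {σ : F →+* F}
    (hσ : ∀ s c : F, ζ (D.ε (s * c)) = σ s • ζ (D.ε c)) :
    ∃ γ : k, γ ≠ 0 ∧ (∀ (s : F) m, ζ (s • m) = σ s • ζ m) ∧
      (∀ m m', gf o (ζ m) (ζ m') = γ • σ (gf o m m')) ∧ ∀ x, l (D.tr x) = γ * D.tr (σ x) := by
  obtain ⟨h, hf, hn⟩ := hF.norm_nor S hζ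
  have hval : ∀ m, (ζ.trans (h⁻¹ : M ≃ₗ[k] M).toAddEquiv) m = h⁻¹ (ζ m) := fun m => rfl
  have hfi : h⁻¹ ∈ HF D := inv_mem hf
  have hσ' : ∀ s c : F, (ζ.trans (h⁻¹ : M ≃ₗ[k] M).toAddEquiv) (D.ε (s * c))
      = σ s • (ζ.trans (h⁻¹ : M ≃ₗ[k] M).toAddEquiv) (D.ε c) := fun s c => by
    rw [hval, hval, hσ, hfi.2]
  obtain ⟨γ, h0, h1, h2⟩ := hF.semi_gf hn hσ' S
  have h3 := hF.semi_smul hn hσ' S
  refine ⟨γ, h0, fun s m => ?_, fun m m' => ?_, h1⟩
  · have h4 := h3 s m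
    rw [hval, hval, ← hfi.2] at h4
    exact (h⁻¹).injective h4
  · have h4 := h2 m m'
    rw [hval, hval, hF.HF_gf hfi] at h4
    exact h4

theorem semi [Nontrivial Φ] (S : Sw o) {ζ : M ≃+ M} {l : k → k} (hζ : D.Norm ζ l) :
    ∃ (σ : F →+* F) (γ : k), γ ≠ 0 ∧ (∀ (s : F) m, ζ (s • m) = σ s • ζ m) ∧
      (∀ m m', gf o (ζ m) (ζ m') = γ • σ (gf o m m')) ∧ ∀ x, l (D.tr x) = γ * D.tr (σ x) := by
  obtain ⟨h, hf, hn⟩ := hF.norm_nor S hζ
  have hval : ∀ m, (ζ.trans (h⁻¹ : M ≃ₗ[k] M).toAddEquiv) m = h⁻¹ (ζ m) := fun m => rfl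
  have hfi : h⁻¹ ∈ HF D := inv_mem hf
  obtain ⟨σ, hσ⟩ := hF.semi_ε hn
  refine ⟨σ, hF.semi' S hζ fun s c => ?_⟩
  have h4 := hσ s c
  rw [hval, hval, ← hfi.2] at h4
  exact (h⁻¹).injective h4

theorem semiH [Nontrivial Φ] (S : Sw o) {h : M ≃ₗ[k] M} (hh : h ∈ D.H) :
    ∃ σ : F →+* F, (∀ a : k, σ (algebraMap k F a) = algebraMap k F a) ∧
    (∀ (s : F) m, h (s • m) = σ s • h m) ∧ ∀ m m', gf o (h m) (h m') = σ (gf o m m') := by
  have hn : D.Norm h.toAddEquiv id := by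
    refine ⟨fun g hg => ⟨h * g * h⁻¹, mul_mem (mul_mem hh hg) (inv_mem hh), fun m => ?_⟩,
      fun m m' => D.isom h hh m m', fun a ha => ha, h, hh, fun c => ⟨c, rfl⟩⟩
    change h (g m) = (h * g * h⁻¹) (h m)
    rw [LinearEquiv.mul_apply, LinearEquiv.mul_apply, inv_apply]
  obtain ⟨σ, γ, h0, h1, h2, h3⟩ := hF.semi S hn
  have h1' : ∀ (s : F) m, h (s • m) = σ s • h m := h1
  have hinj : ∀ {s s' : F}, s • h (D.ε 1) = s' • h (D.ε 1) → s = s' := fun {s s'} e => by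
    have e1 : (s - s') • h (D.ε 1) = 0 := by rw [sub_smul, e, sub_self]
    rcases smul_eq_zero.1 e1 with e2 | e2
    · exact sub_eq_zero.1 e2
    · exfalso
      have e3 : D.ε 1 = 0 := by
        apply h.injective
        rw [e2, map_zero]
      exact one_ne_zero (D.ε_inj (e3.trans (map_zero _).symm))
  have hk : ∀ a : k, σ (algebraMap k F a) = algebraMap k F a := fun a => by
    apply hinj
    rw [← h1', hF.tower, hF.tower, map_smul]
  have htr : ∀ x, D.tr (σ x) = D.tr x := fun x => by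
    apply algebraMap_inj (F := F)
    rw [D.tr_eq, ← D.map_sg, ← map_add, ← D.tr_eq, hk]
  obtain ⟨θ, hθ⟩ := D.exists_tr_one
  have hγ : γ = 1 := by
    have := h3 θ
    rw [htr, hθ, mul_one] at this
    exact this.symm
  exact ⟨σ, hk, h1', fun m m' => by
    have := h2 m m'
    rw [hγ, one_smul] at this
    exact this⟩

/-- if `Φ ≠ 0`, a map normalising `H` permutes the conjugates of `e`. -/
theorem normE [Nontrivial Φ] [Finite M] (S : Sw o) {ζ : M ≃+ M} {l : k → k}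
    (hH : ∀ g ∈ D.H, ∃ g' ∈ D.H, ∀ m, ζ (g m) = g' (ζ m))
    (hf : ∀ m m', D.f (ζ m) (ζ m') = l (D.f m m')) (l0 : ∀ a, l a = 0 → a = 0) :
    D.Norm ζ l := by
  refine ⟨hH, hf, l0, ?_⟩
  obtain ⟨n, hn, hna⟩ := D.Jn 1
  obtain ⟨τ, hτ, he⟩ := hH n (D.J_le hn)
  obtain ⟨σ, -, h1, -⟩ := hF.semiH S hτ
  have hτm : ∀ m, τ (ζ m) = ζ m + ζ (D.ε (D.B m)) := fun m => by
    rw [← he, hna, one_smul, map_add]
  have hl0 : l 0 = 0 := by
    have := hf 0 0
    rw [map_zero ζ, map_zero (D.f 0)] at this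
    exact this.symm
  by_cases hσ : ∀ s, σ s = s
  · -- `ζ e` is an `F`-point
    have hs : ∀ s c : F, ∃ c', s • ζ (D.ε c) = ζ (D.ε c') := fun s c => by
      obtain ⟨m', hm'⟩ := ζ.surjective (s • ζ (o.v c))
      refine ⟨D.B m', ?_⟩
      have h2 := hτm (o.v c)
      have h3 := hτm m'
      rw [hm', h1, hσ, h2, o.Bv, smul_add, add_right_inj] at h3
      exact h3
    have hm0 : ζ (D.ε 1) ≠ 0 := fun e =>
      one_ne_zero (D.ε_inj ((ζ.map_eq_zero_iff.1 e).trans (map_zero _).symm))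
    have hiso : gf o (ζ (D.ε 1)) (ζ (D.ε 1)) = 0 := by
      apply D.tr_nondegH
      intro s
      obtain ⟨c', hc'⟩ := hs s 1
      rw [mul_comm, ← hF.gf_smul, ← f_eq_tr, hc', hf, D.f_ε, hl0]
    obtain ⟨h, ht, hl, c0, hc0, h2⟩ := hF.ptT S hiso hm0
    choose φ hφ using fun s => hs s 1
    have hinj : Function.Injective φ := fun a b hab => by
      have h3 : a • ζ (D.ε 1) = b • ζ (D.ε 1) :=
        (hφ a).trans ((congrArg (fun c => ζ (D.ε c)) hab).trans (hφ b).symm)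
      have h4 : (a - b) • ζ (D.ε 1) = 0 := by rw [sub_smul, h3, sub_self]
      rcases smul_eq_zero.1 h4 with h5 | h5
      · exact sub_eq_zero.1 h5
      · exact (hm0 h5).elim
    refine ⟨h, D.HT_le ht, fun c => ?_⟩
    obtain ⟨s, rfl⟩ := (Finite.injective_iff_surjective.1 hinj) c
    exact ⟨s * c0, by rw [← hφ, ← h2, ← hl.2, hF.hε]⟩
  · exfalso
    push Not at hσ
    obtain ⟨θ, hθ⟩ := hσ
    have hfix : ∀ p, D.B p = 0 → τ (ζ p) = ζ p := fun p hp => by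
      rw [hτm, hp, map_zero, map_zero, add_zero]
    let φ : (F × Φ) × (F × Φ) → M := fun z =>
      ζ (D.ε z.1.1 + uo o z.1.2) + θ • ζ (D.ε z.2.1 + uo o z.2.2)
    have hP : ∀ (a : F) (x : Φ), D.B (D.ε a + uo o x) = 0 := fun a x => by
      rw [map_add, D.Bε, Bu, add_zero]
    have hPi : ∀ (a : F) (x : Φ), D.ε a + uo o x = 0 → a = 0 ∧ x = 0 := fun a x h => by
      have h2 : psi o (a, x, 0) = psi o 0 := by
        rw [psi_apply, map_zero, map_zero, add_zero]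
        exact h
      have h3 := psi_injective o h2
      exact ⟨congrArg Prod.fst h3, congrArg (fun z => z.2.1) h3⟩
    have key : ∀ p p', D.B p = 0 → D.B p' = 0 → ζ p + θ • ζ p' = 0 → p = 0 ∧ p' = 0 := by
      intro p p' hp hp' h
      have h2 : ζ p = θ • ζ p' := eq_of_add_eq_zeroM k h
      have h3 := congrArg τ h2
      rw [hfix p hp, h1, hfix p' hp', h2] at h3
      have h4 : (θ - σ θ) • ζ p' = 0 := by rw [sub_smul, h3, sub_self]
      rcases smul_eq_zero.1 h4 with h5 | h5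
      · exact (hθ (sub_eq_zero.1 h5).symm).elim
      · rw [h5, smul_zero] at h2
        exact ⟨ζ.map_eq_zero_iff.1 h2, ζ.map_eq_zero_iff.1 h5⟩
    have hinj : Function.Injective φ := by
      rintro ⟨⟨a, x⟩, ⟨b, y⟩⟩ ⟨⟨a', x'⟩, ⟨b', y'⟩⟩ h
      change ζ (D.ε a + uo o x) + θ • ζ (D.ε b + uo o y)
        = ζ (D.ε a' + uo o x') + θ • ζ (D.ε b' + uo o y') at h
      have h2 : ζ (D.ε (a - a') + uo o (x - x')) + θ • ζ (D.ε (b - b') + uo o (y - y')) = 0 := by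
        have e1 : D.ε (a - a') + uo o (x - x') = (D.ε a + uo o x) - (D.ε a' + uo o x') := by
          rw [map_sub, map_sub]; abel
        have e2 : D.ε (b - b') + uo o (y - y') = (D.ε b + uo o y) - (D.ε b' + uo o y') := by
          rw [map_sub, map_sub]; abel
        rw [e1, e2, map_sub ζ, map_sub ζ, smul_sub]
        rw [← sub_eq_zero] at h
        rw [← h]
        abel
      obtain ⟨h3, h4⟩ := key _ _ (hP _ _) (hP _ _) h2
      obtain ⟨a1, x1⟩ := hPi _ _ h3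
      obtain ⟨b1, y1⟩ := hPi _ _ h4
      rw [sub_eq_zero] at a1 x1 b1 y1
      rw [a1, x1, b1, y1]
    have hΦ : Finite Φ := Finite.of_injective (fun x => uo o x) fun x y h => by
      have := congrArg D.y h
      change D.y (uo o x) = D.y (uo o y) at this
      rwa [yu, yu] at this
    have c1 : Nat.card ((F × Φ) × (F × Φ)) ≤ Nat.card M := Nat.card_le_card_of_injective _ hinj
    have c2 : Nat.card M = Nat.card (F × Φ × F) := Nat.card_congr (co o).toEquiv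
    rw [c2, Nat.card_prod, Nat.card_prod, Nat.card_prod, Nat.card_prod] at c1
    have c3 : 1 < Nat.card Φ := Finite.one_lt_card
    have c4 : 0 < Nat.card F := Nat.card_pos
    have c5 : Nat.card F * Nat.card F * Nat.card Φ * Nat.card Φ
        ≤ Nat.card F * Nat.card F * Nat.card Φ * 1 := by
      calc _ = Nat.card F * Nat.card Φ * (Nat.card F * Nat.card Φ) := by ring
        _ ≤ Nat.card F * (Nat.card Φ * Nat.card F) := c1
        _ = _ := by ring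
    have c6 := Nat.le_of_mul_le_mul_left c5 (by positivity)
    omega

/-- everything -/
noncomputable def herm [Finite M] (S : Sw o) : D.Herm where
  g := gf o
  v := o.v
  tower := hF.tower
  add_left := gf_add o
  add_right := gf_add_right o
  smul_left := hF.gf_smul
  smul_right := hF.gf_smul_right
  sym := gf_sym o
  nondeg := fun _ h => gf_nondeg o h
  f_eq := f_eq_tr o
  ε_smul := fun s c => (hF.hε s c).symm
  g_ε := gf_ε o
  B_smul := hF.B_smul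
  y_smul := fun s _ h => hF.y_smul s h
  g_y := fun _ _ h h' => gf_P o h h'
  v_smul := fun s b => (hF.hv s b).symm
  B_v := o.Bv
  g_v := gf_vv o
  t_v := o.tv
  J_smul := fun _ hj => hF.J_smul hj
  t_smul := hF.t_smul
  t_g := hF.t_gf
  isom := fun _ h1 h2 => hF.isom h1 h2
  transv := fun _ h0 a => by
    obtain ⟨h, -, h1, h2⟩ := hF.transvT S h0 a
    exact ⟨h, h1, h2⟩
  pt := fun _ h2 h0 => by
    obtain ⟨h, h1, h3, h4⟩ := hF.ptT S h2 h0
    exact ⟨h, h1, h3.2, h4⟩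
  conj := fun _ hh => by
    obtain ⟨h, h1, h3, h4⟩ := hF.conjT S hh
    exact ⟨h, h1, h3.2, h4⟩
  mem_J := fun _ h1 h2 h3 h4 h5 => hF.mem_J h1 h2 h3 h4 h5
  semi := fun _ _ _ hζ => hF.semi S hζ
  semi' := fun _ _ hζ _ hσ => hF.semi' S hζ hσ
  normE := fun _ _ _ hH hf l0 => hF.normE S hH hf l0
  semiH := fun _ _ hh => hF.semiH S hh

end IsF

end

/-- **THEOREM UNI.** -/
theorem exists_herm [CharP k 2] [Finite M] (D : Uni k F M Φ) :
    ∃ (_ : Module F M), Nonempty D.Herm := by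
  have := D.toQuad.finite_k
  have := D.toQuad.finite_F
  obtain ⟨o, S⟩ := D.exists_sw
  let _ := modF o
  exact ⟨_, ⟨(isF_modF o).herm S⟩⟩

end Uni

end Cfsg.Agent.Omega.NOne.SU

end

section


/-!
# THEOREM UNI: the coordinate fields of `Out` from `GIn`, `Fld` and `Herm`
-/

set_option autoImplicit false
set_option linter.unusedSectionVars false

open Subgroup

namespace Cfsg.Agent.Omega.NOne.SU

variable {G : Type*} [Group G] {k F : Type*} [Field k] [Field F] [Algebra k F]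

namespace GIn

variable {T : Quad k F} {S : Sylow 2 G} {V R Q Q' : Subgroup G} {v : k → F → k → G} {p p' : G → F}
variable (h : GIn T S V R Q Q' v p p') (sc : Scal h.sp.form)
variable {Φ : Type*} [AddCommGroup Φ] [Module F Φ] {φ χ : G → Φ} (f : Fld T V R Q Q' v p φ χ)
  [Module k Φ] [IsScalarTower k F Φ] [Finite G] [Module F (h.M sc)] (D : (h.uni sc f).Herm)

namespace OC

omit [Finite G] in
variable {h sc} in
theorem B_ep (c : F) : h.BM sc (h.epM sc c) = 0 := h.Bm_ep c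

variable {h sc f}

include D

theorem g_ep (m : h.M sc) (c : F) : D.g m (h.epM sc c) = h.BM sc m * T.sg c := D.g_ε m c

theorem ep_smul (s c : F) : h.epM sc (s * c) = s • h.epM sc c := D.ε_smul s c

theorem B_smul (s : F) (m : h.M sc) : h.BM sc (s • m) = s * h.BM sc m := D.B_smul s m

theorem sym (m w : h.M sc) : D.g w m = T.sg (D.g m w) := D.sym m w

theorem f_eq (m w : h.M sc) : h.fM sc m w = T.tr (D.g m w) := D.f_eq m w

theorem smul_right (s : F) (m w : h.M sc) : D.g m (s • w) = T.sg s * D.g m w := D.smul_right s m w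

theorem y_smul (s : F) (m : h.M sc) (hm : h.BM sc m = 0) : h.yM sc f (s • m) = s • h.yM sc f m :=
  D.y_smul s m hm

theorem g_y (m m' : h.M sc) (hm : h.BM sc m = 0) (hm' : h.BM sc m' = 0) :
    D.g m m' = h.hmΦ sc f (h.yM sc f m) (h.yM sc f m') := D.g_y m m' hm hm'

theorem ep_eq (c : F) : h.epM sc c = c • h.epM sc 1 := by
  rw [← ep_smul D, mul_one]

/-- the vector `f₀` -/
noncomputable def f0 : h.M sc := D.v 1

theorem B_f0 : h.BM sc (f0 D) = 1 := D.B_v 1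

theorem g_ff : D.g (f0 D) (f0 D) = 0 := D.g_v 1 1

theorem g_fe : D.g (f0 D) (h.epM sc 1) = 1 := by
  rw [g_ep, B_f0, map_one, mul_one]

theorem g_ef : D.g (h.epM sc 1) (f0 D) = 1 := by
  rw [sym D, g_fe, map_one]

theorem g_ee : D.g (h.epM sc 1) (h.epM sc 1) = 0 := by
  rw [g_ep, B_ep, zero_mul]

theorem g_epf (c : F) : D.g (h.epM sc c) (f0 D) = c := by
  rw [ep_eq D, D.smul_left, g_ef, mul_one]

/-- uniqueness -/
theorem uniq {m m' : h.M sc} (hm : h.BM sc m = 0) (hm' : h.BM sc m' = 0) (hy : h.yM sc f m = h.yM sc f m')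
    (hf : D.g m (f0 D) = D.g m' (f0 D)) : m = m' := by
  have h1 : h.BM sc (m - m') = 0 := by rw [map_sub, hm, hm', sub_zero]
  obtain ⟨c, hc⟩ := (h.yM_ker sc f (m - m') h1).1 (by rw [map_sub, hy, sub_self])
  have h3 : m = h.epM sc c + m' := by rw [← hc, sub_add_cancel]
  have h4 : D.g m (f0 D) = c + D.g m' (f0 D) := by rw [h3, D.add_left, g_epf]
  rw [hf] at h4
  have h5 : c = 0 := left_eq_add.1 (by rw [add_comm]; exact h4)
  rw [h3, h5, map_zero, zero_add]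

theorem exists_iot (x : Φ) : ∃ m : h.M sc, h.BM sc m = 0 ∧ h.yM sc f m = x ∧ D.g m (f0 D) = 0 := by
  obtain ⟨m, hm, hy⟩ := h.y_surj_of sc f (h.yM_φ sc f) x
  refine ⟨m + h.epM sc (D.g m (f0 D)), ?_, ?_, ?_⟩
  · rw [map_add, hm, B_ep, add_zero]
  · rw [map_add, hy, h.yM_ep, add_zero]
  · rw [D.add_left, g_epf, T.add_self (h2 := h.h2)]

/-- the embedding `ι : Φ → W` -/
noncomputable def iot : Φ →ₗ[F] h.M sc where
  toFun := fun x => (exists_iot D x).choose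
  map_add' := fun x x' => by
    obtain ⟨h1, h2, h3⟩ := (exists_iot D x).choose_spec
    obtain ⟨h1', h2', h3'⟩ := (exists_iot D x').choose_spec
    obtain ⟨h1'', h2'', h3''⟩ := (exists_iot D (x + x')).choose_spec
    apply uniq D h1''
    · rw [map_add, h1, h1', add_zero]
    · rw [h2'', map_add, h2, h2']
    · rw [h3'', D.add_left, h3, h3', add_zero]
  map_smul' := fun s x => by
    obtain ⟨h1, h2, h3⟩ := (exists_iot D x).choose_spec
    obtain ⟨h1'', h2'', h3''⟩ := (exists_iot D (s • x)).choose_spec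
    rw [RingHom.id_apply]
    apply uniq D h1''
    · rw [B_smul D, h1, mul_zero]
    · rw [h2'', y_smul D s _ h1, h2]
    · rw [h3'', D.smul_left, h3, mul_zero]

theorem B_iot (x : Φ) : h.BM sc (iot D x) = 0 := (exists_iot D x).choose_spec.1

theorem y_iot (x : Φ) : h.yM sc f (iot D x) = x := (exists_iot D x).choose_spec.2.1

theorem g_iotf (x : Φ) : D.g (iot D x) (f0 D) = 0 := (exists_iot D x).choose_spec.2.2

theorem g_fiot (x : Φ) : D.g (f0 D) (iot D x) = 0 := by rw [sym D, g_iotf, map_zero]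

theorem g_eiot (x : Φ) : D.g (h.epM sc 1) (iot D x) = 0 := by
  rw [sym D, g_ep, B_iot, zero_mul, map_zero]

theorem g_iote (x : Φ) : D.g (iot D x) (h.epM sc 1) = 0 := by rw [g_ep, B_iot, zero_mul]

theorem g_iotiot (x y : Φ) : D.g (iot D x) (iot D y) = h.hmΦ sc f x y := by
  rw [g_y D _ _ (B_iot D x) (B_iot D y), y_iot, y_iot]

/-- on `e^⊥` -/
theorem perp {m : h.M sc} (hm : h.BM sc m = 0) : m = iot D (h.yM sc f m) + D.g m (f0 D) • h.epM sc 1 := by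
  rw [← ep_eq D]
  apply uniq D hm
  · rw [map_add, B_iot, B_ep, add_zero]
  · rw [map_add, y_iot, h.yM_ep, add_zero]
  · rw [D.add_left, g_iotf, g_epf, zero_add]

theorem span (m : h.M sc) : ∃ (a : F) (x : Φ) (b : F), m = a • h.epM sc 1 + iot D x + b • f0 D := by
  have h1 : h.BM sc (m - h.BM sc m • f0 D) = 0 := by
    rw [map_sub, B_smul D, B_f0, mul_one, sub_self]
  have h2 := perp D h1
  rw [sub_eq_iff_eq_add] at h2
  exact ⟨D.g (m - h.BM sc m • f0 D) (f0 D), h.yM sc f (m - h.BM sc m • f0 D), h.BM sc m, by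
    rw [add_comm (_ • h.epM sc 1)]
    exact h2⟩

theorem comm {x y : G} (hx : x ∈ Q) (hy : y ∈ Q) :
    x * y * x⁻¹ * y⁻¹ = v (T.tr (D.g (h.prM sc x) (h.prM sc y))) 0 0 := by
  have h1 := h.sp.comm x hx y hy
  rw [← f_eq D, h.fM_pr sc hx hy]
  exact (h.sp.a_co h1).symm

theorem w_e (b : F) : h.prM sc (v 0 b 0) = b • h.prM sc (v 0 1 0) := by
  rw [h.prM_E, h.prM_E, ← ep_eq D]

theorem p_eq {y : G} (hy : y ∈ Q) : p y = D.g (h.prM sc y) (h.prM sc (v 0 1 0)) := by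
  rw [h.prM_E, g_ep, map_one, mul_one, h.BM_pr sc hy]

theorem φ_eq {y : G} (hy : y ∈ Q) (hyV : y ∈ centralizer (V : Set G)) :
    ∃ a : F, h.prM sc y = iot D (φ y) + a • h.prM sc (v 0 1 0) := by
  have h1 := perp D ((h.BM_eq_zero sc hy).2 hyV)
  rw [h.yM_φ sc f y hy hyV] at h1
  rw [h.prM_E]
  exact ⟨_, h1⟩

/-- the decomposition of a vector -/
theorem decomp (m : h.M sc) : ∃ x : Φ, m = D.g m (f0 D) • h.epM sc 1 + iot D x +
    D.g m (h.epM sc 1) • f0 D := by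
  obtain ⟨a, x, b, hm⟩ := span D m
  have h1 : D.g m (f0 D) = a := by
    rw [hm, D.add_left, D.add_left, D.smul_left, D.smul_left, g_ef, g_iotf, g_ff]; ring
  have h2 : D.g m (h.epM sc 1) = b := by
    rw [hm, D.add_left, D.add_left, D.smul_left, D.smul_left, g_ee, g_iote, g_fe]; ring
  exact ⟨x, by rw [h1, h2]; exact hm⟩

/-- **the action of `n ∈ C_{Q'}(V)`** -/
theorem chi_act {n : G} (hn : n ∈ Q') (hnV : n ∈ centralizer (V : Set G)) :
    ∃ r : F, r + T.sg r = h.hmΦ sc f (χ n) (χ n) ∧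
    ∀ y ∈ Q, h.prM sc (n * y * n⁻¹) = h.prM sc y + D.g (h.prM sc y) (h.prM sc (v 0 1 0)) • iot D (χ n) +
      (D.g (h.prM sc y) (iot D (χ n)) + r * D.g (h.prM sc y) (h.prM sc (v 0 1 0))) • h.prM sc (v 0 1 0) := by
  have hnR := h.CV_le_CR hnV
  set L := h.linC sc n hnR with hL
  have hLJ : L ∈ h.JJ sc := h.linN_J sc f hn hnV
  have hsm : ∀ (s : F) m, L (s • m) = s • L m := D.J_smul L hLJ
  -- `L f₀`
  have h1 : h.BM sc (L (f0 D) - f0 D) = 0 := h.linN_B sc hnV (f0 D)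
  have h2 : h.yM sc f (L (f0 D) - f0 D) = χ n := by
    rw [h.linN_y sc f hn hnV, B_f0, one_smul]
  have h3 := perp D h1
  rw [h2] at h3
  set r := D.g (L (f0 D) - f0 D) (f0 D) with hr
  have h4 : L (f0 D) = f0 D + (iot D (χ n) + r • h.epM sc 1) := by
    rw [← h3, add_sub_cancel]
  refine ⟨r, ?_, fun y hy => ?_⟩
  · have h5 : D.g (L (f0 D)) (L (f0 D)) = D.g (f0 D) (f0 D) :=
      D.isom L hsm (fun m m' => isom (ind_linC (sc := sc) n hnR).mem m m') _ _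
    rw [g_ff, h4] at h5
    simp only [D.add_left, D.add_right, D.smul_left, smul_right D, g_ff, g_fiot, g_fe, g_iotf, g_iotiot,
      g_iote, g_ef, g_eiot, g_ee] at h5
    have h6 : (h.hmΦ sc f (χ n) (χ n)) + (r + T.sg r) = 0 := by
      rw [← h5]; ring
    have h7 := T.add_self (h2 := h.h2) (h.hmΦ sc f (χ n) (χ n))
    calc r + T.sg r = (h.hmΦ sc f (χ n) (χ n) + h.hmΦ sc f (χ n) (χ n)) + (r + T.sg r) := by
          rw [h7, zero_add]
      _ = h.hmΦ sc f (χ n) (χ n) + (h.hmΦ sc f (χ n) (χ n) + (r + T.sg r)) := by ring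
      _ = _ := by rw [h6, add_zero]
  · have h5 : h.prM sc (n * y * n⁻¹) = L (h.prM sc y) := ((ind_linC (sc := sc) n hnR).2 y hy).symm
    rw [h5, h.prM_E]
    obtain ⟨x, hx⟩ := decomp D (h.prM sc y)
    set m := h.prM sc y with hm
    set α := D.g m (f0 D) with hα
    set β := D.g m (h.epM sc 1) with hβ
    have h6 : D.g m (iot D (χ n)) = h.hmΦ sc f x (χ n) := by
      rw [hx, D.add_left, D.add_left, D.smul_left, D.smul_left, g_eiot, g_iotiot, g_fiot]; ring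
    have h7 : L (iot D x) = iot D x + h.hmΦ sc f x (χ n) • h.epM sc 1 := by
      rw [hL, h.linN_P sc f hn hnV _ (B_iot D x), y_iot, ep_eq D]
    have h8 : L (h.epM sc 1) = h.epM sc 1 := h.linN_ep sc hnV 1
    rw [h6]
    conv_lhs => rw [hx]
    rw [map_add, map_add, hsm, hsm, h8, h7, h4]
    conv_rhs => rw [hx]
    simp only [smul_add, add_smul, smul_smul]
    rw [mul_comm r β]
    abel

end OC

end GIn

end Cfsg.Agent.Omega.NOne.SU

end

section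


/-!
# THEOREM UNI: `N_G(R)` acts on `W = Q/R` by semilinear similitudes (`Φ ≠ 0`)

`zt c hc : h.M sc ≃+ h.M sc` : the action of `c ∈ N_G(R)`.
-/

set_option autoImplicit false
set_option linter.unusedSectionVars false

open Subgroup

namespace Cfsg.Agent.Omega.NOne.SU

variable {G : Type*} [Group G] {k F : Type*} [Field k] [Field F] [Algebra k F]

namespace GIn

variable {T : Quad k F} {S : Sylow 2 G} {V R Q Q' : Subgroup G} {v : k → F → k → G} {p p' : G → F}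
variable (h : GIn T S V R Q Q' v p p') (sc : Scal h.sp.form)

/-- the action of `c ∈ N_G(R)` on `M = Q/R` -/
noncomputable def zt (c : G) (hc : c ∈ normalizer (R : Set G)) : h.M sc ≃+ h.M sc where
  toFun := h.cj c
  invFun := h.cj c⁻¹
  left_inv := h.cj_inv_cj hc
  right_inv := h.cj_cj_inv hc
  map_add' := h.cj_add hc

theorem zt_pr {c : G} (hc : c ∈ normalizer (R : Set G)) {x : G} (hx : x ∈ Q) :
    h.zt sc c hc (h.prM sc x) = h.prM sc (c * x * c⁻¹) := h.cj_pr hc hx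

/-- the action of `c ∈ N_G(R)` on `R`, as a function on `k` -/
noncomputable def lz (c : G) (a : k) : k := h.sp.co (c * v a 0 0 * c⁻¹)

theorem v_lz {c : G} (hc : c ∈ normalizer (R : Set G)) (a : k) :
    v (h.lz c a) 0 0 = c * v a 0 0 * c⁻¹ :=
  h.sp.a_co ((mem_normalizer_iff.1 hc _).1 (h.mem_R.2 ⟨a, rfl⟩))

theorem lz_ne {c : G} (hc : c ∈ normalizer (R : Set G)) (a : k) (ha : h.lz c a = 0) : a = 0 := by
  have h1 := h.v_lz hc a
  rw [ha, h.v_zero] at h1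
  have h2 : v a 0 0 = 1 := by
    have h3 : v a 0 0 = c⁻¹ * (c * v a 0 0 * c⁻¹) * c := by group
    rw [h3, ← h1]
    group
  exact (h.v_inj a 0 0 h2).1

theorem zt_f {c : G} (hc : c ∈ normalizer (R : Set G)) (w w' : h.M sc) :
    h.fM sc (h.zt sc c hc w) (h.zt sc c hc w') = h.lz c (h.fM sc w w') := by
  obtain ⟨x, hx, rfl⟩ := h.prM_surj sc w
  obtain ⟨y, hy, rfl⟩ := h.prM_surj sc w'
  rw [h.zt_pr sc hc hx, h.zt_pr sc hc hy, h.fM_pr sc (h.nor c hc x hx) (h.nor c hc y hy),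
    h.fM_pr sc hx hy]
  have h1 : c * x * c⁻¹ * (c * y * c⁻¹) * (c * x * c⁻¹)⁻¹ * (c * y * c⁻¹)⁻¹ =
      c * (x * y * x⁻¹ * y⁻¹) * c⁻¹ := by group
  have h2 : v (h.sp.co (x * y * x⁻¹ * y⁻¹)) 0 0 = x * y * x⁻¹ * y⁻¹ :=
    h.sp.a_co (h.sp.comm x hx y hy)
  rw [h1, lz, h2]

theorem conj_CR {c d : G} (hc : c ∈ normalizer (R : Set G)) (hd : d ∈ centralizer (R : Set G)) :
    c * d * c⁻¹ ∈ centralizer (R : Set G) := by
  rw [mem_centralizer_iff] at hd ⊢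
  intro r hr
  have h1 : c⁻¹ * r * c ∈ R := by
    have := (mem_normalizer_iff.1 (inv_mem hc) r).1 hr
    rwa [inv_inv] at this
  have h2 := hd _ h1
  calc r * (c * d * c⁻¹) = c * (c⁻¹ * r * c * d) * c⁻¹ := by group
    _ = c * (d * (c⁻¹ * r * c)) * c⁻¹ := by rw [h2]
    _ = c * d * c⁻¹ * r := by group

theorem zt_H {c : G} (hc : c ∈ normalizer (R : Set G)) (g : h.M sc ≃ₗ[k] h.M sc)
    (hg : g ∈ h.H sc) : ∃ g' ∈ h.H sc, ∀ m, h.zt sc c hc (g m) = g' (h.zt sc c hc m) := by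
  obtain ⟨d, hd⟩ := hg
  have hd' := conj_CR hc hd.1
  refine ⟨_, (ind_linC (h := h) (sc := sc) (c * d * c⁻¹) hd').mem, fun m => ?_⟩
  obtain ⟨x, hx, rfl⟩ := h.prM_surj sc m
  rw [hd.2 x hx, h.zt_pr sc hc (h.nor d (h.CR_le_NR hd.1) x hx), h.zt_pr sc hc hx,
    (ind_linC (c * d * c⁻¹) hd').2 _ (h.nor c hc x hx)]
  congr 1
  group

variable {Φ : Type*} [AddCommGroup Φ] [Module F Φ] {φ χ : G → Φ} (f : Fld T V R Q Q' v p φ χ)
  [Module k Φ] [IsScalarTower k F Φ] [Finite G] [Nontrivial Φ] [Module F (h.M sc)]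

/-- **`c ∈ N_G(R)` normalises `H` and permutes the conjugates of `e`.** -/
theorem zt_norm (E : (h.uni sc f).Herm) {c : G} (hc : c ∈ normalizer (R : Set G)) :
    (h.uni sc f).Norm (h.zt sc c hc) (h.lz c) :=
  E.normE inferInstance _ _ (h.zt_H sc hc) (h.zt_f sc hc) (h.lz_ne hc)

/-- **`c ∈ N_G(R)` acts on `M` as a semilinear similitude.** -/
theorem zt_semi (E : (h.uni sc f).Herm) {c : G} (hc : c ∈ normalizer (R : Set G)) :
    ∃ (σ : F →+* F) (γ : k), γ ≠ 0 ∧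
      (∀ (s : F) m, h.zt sc c hc (s • m) = σ s • h.zt sc c hc m) ∧
      (∀ m m', E.g (h.zt sc c hc m) (h.zt sc c hc m') = γ • σ (E.g m m')) ∧
      ∀ x, c * v (T.tr x) 0 0 * c⁻¹ = v (γ * T.tr (σ x)) 0 0 := by
  obtain ⟨σ, γ, h0, h1, h2, h3⟩ := E.semi inferInstance _ _ (h.zt_norm sc f E hc)
  refine ⟨σ, γ, h0, h1, h2, fun x => ?_⟩
  have h4 := h3 x
  rw [← h.v_lz hc]
  exact congrArg (fun a => v a 0 0) h4

/-- the image of `e` under `c ∈ N_G(R)` is an isotropic point -/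
theorem zt_pt (E : (h.uni sc f).Herm) {c : G} (hc : c ∈ normalizer (R : Set G)) :
    ∃ m : h.M sc, m ≠ 0 ∧ E.g m m = 0 ∧ ∀ b : F, ∃ s : F, h.prM sc (c * v 0 b 0 * c⁻¹) = s • m := by
  obtain ⟨σ, γ, h0, h1, h2, -⟩ := h.zt_semi sc f E hc
  have hε : ∀ b : F, h.epM sc b = b • h.epM sc 1 := fun b => by
    have := E.ε_smul b 1
    rw [mul_one] at this
    exact this
  refine ⟨h.zt sc c hc (h.epM sc 1), fun e => ?_, ?_, fun b => ⟨σ b, ?_⟩⟩
  · have h3 := (h.zt sc c hc).map_eq_zero_iff.1 e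
    exact one_ne_zero (h.epM_inj sc (h3.trans (map_zero _).symm))
  · have h3 : E.g (h.epM sc 1) (h.epM sc 1) = 0 := by
      have h4 := E.g_ε (h.epM sc 1) 1
      have h5 : (h.uni sc f).B (h.epM sc 1) = 0 := (h.uni sc f).Bε 1
      rw [h5, zero_mul] at h4
      exact h4
    rw [h2, h3, map_zero, smul_zero]
  · rw [← h.zt_pr sc hc (h.E_le 0 b), h.prM_E, hε, h1]

/-- `N_G(R) = C_G(R) N_{N_G(R)}(e)` -/
theorem zt_conj (E : (h.uni sc f).Herm) {c : G} (hc : c ∈ normalizer (R : Set G)) :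
    ∃ d ∈ centralizer (R : Set G), ∀ b : F, ∃ b' : F,
      h.prM sc (d⁻¹ * c * v 0 b 0 * (d⁻¹ * c)⁻¹) = h.epM sc b' := by
  obtain ⟨g, hg, hge⟩ := (h.zt_norm sc f E hc).e
  obtain ⟨d, hd⟩ := hg
  refine ⟨d, hd.1, fun b => ?_⟩
  obtain ⟨b', hb'⟩ := hge b
  refine ⟨b', ?_⟩
  have hb'' : h.zt sc c hc (h.epM sc b) = g (h.epM sc b') := hb'
  have h1 : g (h.prM sc (d⁻¹ * c * v 0 b 0 * (d⁻¹ * c)⁻¹)) = g (h.epM sc b') := by
    rw [← hb'', ← h.prM_E sc 0 b, h.zt_pr sc hc (h.E_le 0 b), hd.2 _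
      (h.nor _ (mul_mem (inv_mem (h.CR_le_NR hd.1)) hc) _ (h.E_le 0 b))]
    congr 1
    group
  exact g.injective h1

end GIn

end Cfsg.Agent.Omega.NOne.SU

end

section


/-!
# Sylow's theorem in a normal subgroup

`exists_conj_le` : if `S ≤ N` is Sylow in `G`, `C` is normal in `N` and `D ≤ C` is a 2-group, then `D` is
conjugate under `C` to a subgroup of `S`.
-/

set_option autoImplicit false

open Subgroup

namespace Cfsg.Agent.Omega.NOne.SU.SylC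

variable {G : Type*} [Group G] [Finite G]

theorem exists_conj_le' (S : Sylow 2 G) {N D : Subgroup G} (hS : (S : Subgroup G) ≤ N) (hD : IsPGroup 2 D)
    (hDN : D ≤ N) : ∃ y ∈ N, ∀ d ∈ D, y * d * y⁻¹ ∈ S := by
  obtain ⟨P, hP⟩ := (hD.comap_subtype (K := N)).exists_le_sylow
  obtain ⟨x, hx⟩ := MulAction.exists_smul_eq N P (S.subtype hS)
  refine ⟨x, x.2, fun d hd => ?_⟩
  have h1 : (⟨d, hDN hd⟩ : N) ∈ P := hP (mem_subgroupOf.2 hd)
  have h3 : x * ⟨d, hDN hd⟩ * x⁻¹ ∈ (S.subtype hS : Subgroup N) := by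
    rw [← hx, Sylow.coe_subgroup_smul]
    exact mem_map.2 ⟨_, h1, rfl⟩
  exact h3

theorem exists_conj_le (S : Sylow 2 G) {C N D : Subgroup G} (hCN : C ≤ N)
    (hnor : ∀ y ∈ N, ∀ x ∈ C, y * x * y⁻¹ ∈ C) (hS : (S : Subgroup G) ≤ N) (hD : IsPGroup 2 D) (hDC : D ≤ C) :
    ∃ x ∈ C, ∀ d ∈ D, x * d * x⁻¹ ∈ S := by
  obtain ⟨P, hP⟩ := (hD.comap_subtype (K := C)).exists_le_sylow
  have hK : IsPGroup 2 ((S : Subgroup G) ⊓ C : Subgroup G) := S.2.to_le inf_le_left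
  obtain ⟨P2, hP2⟩ := (hK.comap_subtype (K := C)).exists_le_sylow
  -- `|P| ≤ |S ⊓ C|`
  have hP1 : IsPGroup 2 ((P : Subgroup C).map C.subtype) := P.2.map _
  obtain ⟨y, hy, hyP⟩ := exists_conj_le' S hS hP1 ((map_subtype_le _).trans hCN)
  have hcard : Nat.card P ≤ Nat.card ((S : Subgroup G) ⊓ C : Subgroup G) := by
    have hm : ∀ z : P, y * ((z : C) : G) * y⁻¹ ∈ ((S : Subgroup G) ⊓ C : Subgroup G) := fun z =>
      ⟨hyP _ (mem_map.2 ⟨(z : C), z.2, rfl⟩), hnor y hy _ (z : C).2⟩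
    apply Nat.card_le_card_of_injective (fun z : P => (⟨_, hm z⟩ : ((S : Subgroup G) ⊓ C : Subgroup G)))
    intro z z' hz
    have h1 := congrArg Subtype.val hz
    exact Subtype.ext (Subtype.ext (mul_left_cancel (mul_right_cancel h1)))
  have hcard2 : Nat.card P = Nat.card P2 := by
    rw [Sylow.card_eq_multiplicity, Sylow.card_eq_multiplicity]
  have hcard3 : Nat.card (((S : Subgroup G) ⊓ C : Subgroup G).subgroupOf C) =
      Nat.card ((S : Subgroup G) ⊓ C : Subgroup G) :=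
    Nat.card_congr (subgroupOfEquivOfLe inf_le_right).toEquiv
  have heq : ((S : Subgroup G) ⊓ C : Subgroup G).subgroupOf C = (P2 : Subgroup C) := by
    apply eq_of_le_of_card_ge hP2
    have : Nat.card (P2 : Subgroup C) = Nat.card P := hcard2.symm
    rw [this]
    exact hcard.trans hcard3.symm.le
  obtain ⟨x, hx⟩ := MulAction.exists_smul_eq C P P2
  refine ⟨x, x.2, fun d hd => ?_⟩
  have h1 : (⟨d, hDC hd⟩ : C) ∈ P := hP (mem_subgroupOf.2 hd)
  have h3 : x * ⟨d, hDC hd⟩ * x⁻¹ ∈ (P2 : Subgroup C) := by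
    rw [← hx, Sylow.coe_subgroup_smul]
    exact mem_map.2 ⟨_, h1, rfl⟩
  rw [← heq, mem_subgroupOf] at h3
  exact h3.1

end Cfsg.Agent.Omega.NOne.SU.SylC

end

section


/-!
# THEOREM UNI: `GIn`, `Fld` ⟹ `Out`

`GIn.exists_Out` : the output of THEOREM UNI at the level of the group.  The field `pt` comes from
`zt_pt` if `Φ ≠ 0`; for `Φ = 0` it is `pt0`: by Sylow's theorem in `C_G(R)` some conjugate `x c V c⁻¹ x⁻¹`
(`x ∈ C_G(R)`) lies in `S`, so acts on `E/R` as a group of order `≤ 2 < q`, hence `(x c)⁻¹ E (x c) ≤ C_Q(V) = E`.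
-/

set_option autoImplicit false
set_option linter.unusedSectionVars false

open Subgroup

namespace Cfsg.Agent.Omega.NOne.SU

variable {G : Type*} [Group G] {k F : Type*} [Field k] [Field F] [Algebra k F]

namespace GIn

variable {T : Quad k F} {S : Sylow 2 G} {V R Q Q' : Subgroup G} {v : k → F → k → G} {p p' : G → F}
variable (h : GIn T S V R Q Q' v p p') (sc : Scal h.sp.form)
variable {Φ : Type*} [AddCommGroup Φ] [Module F Φ] {φ χ : G → Φ} (f : Fld T V R Q Q' v p φ χ)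

theorem V_two (h : GIn T S V R Q Q' v p p') : IsPGroup 2 V := by
  intro x
  refine ⟨1, Subtype.ext ?_⟩
  obtain ⟨a, b, d, hx⟩ := h.v_surj x x.2
  simp only [SubmonoidClass.coe_pow, OneMemClass.coe_one, pow_one]
  rw [pow_two, ← hx, h.v_sq]

include h f in
/-- **`Φ = 0`**: `N_G(R) = C_G(R) N_{N_G(R)}(E)` -/
theorem pt0 [Finite G] [Subsingleton Φ] {c : G} (hc : c ∈ normalizer (R : Set G)) :
    ∃ x ∈ centralizer (R : Set G), ∀ a b, ∃ a' b', (x * c) * v a b 0 * (x * c)⁻¹ = v a' b' 0 := by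
  classical
  -- `c V c⁻¹ ≤ C(R)`
  obtain ⟨x, hx, hxS⟩ := SylC.exists_conj_le S (C := centralizer (R : Set G)) (N := normalizer (R : Set G))
    (D := V.map (MulAut.conj c).toMonoidHom) h.CR_le_NR (fun y hy x hx => CR_conj hy hx) h.S_R
    (h.V_two.map _) (by
      rintro _ ⟨w, hw, rfl⟩
      exact CR_conj hc (h.CV_le_CR (h.V_le_CV hw)))
  refine ⟨x, hx, ?_⟩
  set y := x * c with hy
  have hyR : y ∈ normalizer (R : Set G) := mul_mem (h.CR_le_NR hx) hc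
  have hyS : ∀ w ∈ V, y * w * y⁻¹ ∈ S := by
    intro w hw
    have := hxS (c * w * c⁻¹) (mem_map.2 ⟨w, hw, rfl⟩)
    have e : x * (c * w * c⁻¹) * x⁻¹ = y * w * y⁻¹ := by rw [hy]; group
    rwa [e] at this
  have hyC : ∀ w ∈ V, y * w * y⁻¹ ∈ centralizer (R : Set G) := fun w hw =>
    CR_conj hyR (h.CV_le_CR (h.V_le_CV hw))
  -- a nontrivial `d` with `y v 0 0 d y⁻¹` trivial on `E/R`
  obtain ⟨d, hd0, hd⟩ : ∃ d : k, d ≠ 0 ∧
      ∀ b, ∃ a, (y * v 0 0 d * y⁻¹) * v 0 b 0 * (y * v 0 0 d * y⁻¹)⁻¹ = v a b 0 := by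
    obtain ⟨s, hs0, hs1⟩ := exists_s T
    rcases h.S_2 _ (hyS _ (h.v_mem 0 0 1)) (hyC _ (h.v_mem 0 0 1)) _ (hyS _ (h.v_mem 0 0 s))
      (hyC _ (h.v_mem 0 0 s)) with h1 | h1 | h1
    · exact ⟨1, one_ne_zero, h1⟩
    · exact ⟨s, hs0, h1⟩
    · refine ⟨1 + s, ?_, ?_⟩
      · intro h3
        apply hs1
        have h4 := T.add_selfk (h2 := h.h2) (1 : k)
        calc s = (1 + 1) + s := by rw [h4, zero_add]
          _ = 1 + (1 + s) := by ring
          _ = 1 := by rw [h3, add_zero]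
      · have e : y * v 0 0 1 * y⁻¹ * (y * v 0 0 s * y⁻¹) = y * v 0 0 (1 + s) * y⁻¹ := by
          have h3 : v 0 0 (1 + s) = v 0 0 1 * v 0 0 s := by rw [← h.v_add, add_zero, add_zero]
          rw [h3]; group
        rw [e] at h1
        exact h1
  -- `y⁻¹ E y ≤ C_Q(V) = E`
  have key : ∀ a b, ∃ a' b', y⁻¹ * v a b 0 * y = v a' b' 0 := by
    intro a b
    have hq : y⁻¹ * v a b 0 * y ∈ Q := h.nor_inv hyR (h.E_le a b)
    obtain ⟨a1, ha1⟩ := hd b
    have h1 : v a b 0 = v a 0 0 * v 0 b 0 := by rw [← h.v_add, add_zero, zero_add, add_zero]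
    -- `[v 0 0 d, y⁻¹ e y] ∈ R`
    have h3 : (y * v 0 0 d * y⁻¹) * v a b 0 * (y * v 0 0 d * y⁻¹)⁻¹ * (v a b 0)⁻¹ ∈ R := by
      have h4 := h.CR_v (hyC _ (h.v_mem 0 0 d)) a
      have e : (y * v 0 0 d * y⁻¹) * (v a 0 0 * v 0 b 0) * (y * v 0 0 d * y⁻¹)⁻¹ =
          ((y * v 0 0 d * y⁻¹) * v a 0 0 * (y * v 0 0 d * y⁻¹)⁻¹) *
          ((y * v 0 0 d * y⁻¹) * v 0 b 0 * (y * v 0 0 d * y⁻¹)⁻¹) := by group
      rw [h1, e, h4, ha1, ← h.v_add, ← h.v_add, h.v_inv, ← h.v_add]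
      refine h.mem_R.2 ⟨a + a1 + a, ?_⟩
      simp only [add_zero, zero_add, T.add_self (h2 := h.h2)]
    have h5 : v 0 0 d * (y⁻¹ * v a b 0 * y) * (v 0 0 d)⁻¹ * (y⁻¹ * v a b 0 * y)⁻¹ ∈ R := by
      have h6 := (mem_normalizer_iff.1 (inv_mem hyR) _).1 h3
      have e : y⁻¹ * ((y * v 0 0 d * y⁻¹) * v a b 0 * (y * v 0 0 d * y⁻¹)⁻¹ * (v a b 0)⁻¹) * y⁻¹⁻¹ =
          v 0 0 d * (y⁻¹ * v a b 0 * y) * (v 0 0 d)⁻¹ * (y⁻¹ * v a b 0 * y)⁻¹ := by group
      rwa [e] at h6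
    obtain ⟨a2, ha2⟩ := h.comm_V 0 0 d hq
    rw [ha2] at h5
    obtain ⟨a3, ha3⟩ := h.mem_R.1 h5
    have h7 := (h.v_eq ha3).2.1
    have h8 : p (y⁻¹ * v a b 0 * y) = 0 := by
      rcases mul_eq_zero.1 h7 with h9 | h9
      · exact h9
      · exact absurd ((map_eq_zero _).1 h9) hd0
    exact (f.φ_ker _ hq ((h.p_eq_zero hq).1 h8)).1 (Subsingleton.elim _ _)
  -- finiteness
  have := T.finF
  have := T.fink
  let f1 : k × F → k × F := fun x => ((key x.1 x.2).choose, (key x.1 x.2).choose_spec.choose)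
  have hf1 : ∀ x : k × F, y⁻¹ * v x.1 x.2 0 * y = v (f1 x).1 (f1 x).2 0 := fun x =>
    (key x.1 x.2).choose_spec.choose_spec
  have hinj : Function.Injective f1 := by
    intro x x' hxx
    have h1 := hf1 x
    rw [hxx, ← hf1 x'] at h1
    have h3 := h.v_eq (mul_left_cancel (mul_right_cancel h1))
    exact Prod.ext h3.1 h3.2.1
  have hsurj := Finite.surjective_of_injective hinj
  intro a b
  obtain ⟨z, hz⟩ := hsurj (a, b)
  refine ⟨z.1, z.2, ?_⟩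
  have h1 := hf1 z
  rw [hz] at h1
  rw [← h1]; group

variable [Module k Φ] [IsScalarTower k F Φ] [Finite G] [Module F (h.M sc)] (D : (h.uni sc f).Herm)

include D in
/-- the field `pt` of `Out` -/
theorem pt_of {c : G} (hc : c ∈ normalizer (R : Set G)) :
    ∃ m : h.M sc, m ≠ 0 ∧ D.g m m = 0 ∧ ∀ b : F, ∃ s : F, h.prM sc (c * v 0 b 0 * c⁻¹) = s • m := by
  rcases subsingleton_or_nontrivial Φ with hΦ | hΦ
  · obtain ⟨x, hx, hE⟩ := h.pt0 f hc
    have hxi : x⁻¹ ∈ centralizer (R : Set G) := inv_mem hx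
    obtain ⟨h', ht, hl, h1, -⟩ := D.conj _ (ind_linC (h := h) (sc := sc) x⁻¹ hxi).mem
    have hsm : ∀ (s : F) m, h' (s • m) = s • h' m := hl
    have hf : ∀ m m', h.fM sc (h' m) (h' m') = h.fM sc m m' :=
      fun m m' => isom ((h.uni sc f).HT_le ht) m m'
    refine ⟨h' (h.epM sc 1), ?_, ?_, fun b => ?_⟩
    · intro e
      have h3 : h.epM sc 1 = 0 := h'.injective (e.trans (map_zero h').symm)
      exact one_ne_zero (h.epM_inj sc (h3.trans (map_zero _).symm))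
    · have h3 : D.g (h' (h.epM sc 1)) (h' (h.epM sc 1)) = D.g (h.epM sc 1) (h.epM sc 1) :=
        D.isom h' hsm hf _ _
      rw [h3, OC.g_ee]
    · obtain ⟨a', b', hab⟩ := hE 0 b
      obtain ⟨c', hc'⟩ := h1 b'
      refine ⟨c', ?_⟩
      have h4 : c * v 0 b 0 * c⁻¹ = x⁻¹ * v a' b' 0 * x⁻¹⁻¹ := by rw [← hab]; group
      have h5 : h.prM sc (c * v 0 b 0 * c⁻¹) = h.linC sc x⁻¹ hxi (h.epM sc b') := by
        rw [h4, ← (ind_linC (sc := sc) x⁻¹ hxi).2 _ (h.E_le a' b'), h.prM_E]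
      rw [h5]
      exact hc'.trans ((congrArg h' (OC.ep_eq D c')).trans (hsm c' _))
  · exact h.zt_pt sc f D hc

/-- **THEOREM UNI at the level of the group.** -/
theorem out_of : Out T V R Q Q' v p φ χ (h.hmΦ sc f) (h.prM sc) D.g (OC.f0 D) (OC.iot D) where
  w_mul := fun _ hx _ hy => h.prM_mul sc hx hy
  w_eq := fun _ hx => h.prM_eq_zero sc hx
  w_surj := h.prM_surj sc
  comm := fun _ hx _ hy => OC.comm D hx hy
  g_add := D.add_left
  g_smul := D.smul_left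
  g_sym := D.sym
  w_e := OC.w_e D
  g_ee := by rw [h.prM_E]; exact OC.g_ee D
  g_ef := by rw [h.prM_E]; exact OC.g_ef D
  g_ff := OC.g_ff D
  g_eι := by rw [h.prM_E]; exact OC.g_eiot D
  g_fι := OC.g_fiot D
  g_ιι := OC.g_iotiot D
  span := by rw [h.prM_E]; exact OC.span D
  hm_nondeg := h.hmΦ_nondeg sc f
  p_eq := fun _ hy => OC.p_eq D hy
  φ_eq := fun _ hy hyV => OC.φ_eq D hy hyV
  χ_act := fun _ hn hnV => OC.chi_act D hn hnV
  ker := fun _ hc hk => h.ker_NR hc hk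
  tran := by
    intro m hm0 hm
    obtain ⟨h', ht, hl, c, hc, he⟩ := D.pt m hm hm0
    obtain ⟨x, hx⟩ := (h.uni sc f).HT_le ht
    have hsm : ∀ (s : F) m, h' (s • m) = s • h' m := hl
    refine ⟨x, hx.1, ?_, ?_, c⁻¹, ?_⟩
    · intro s a ha b hb hab
      rw [← hx.2 b hb, ← hx.2 a ha, hab]
      exact hsm s _
    · intro a ha b hb
      rw [← hx.2 b hb, ← hx.2 a ha]
      exact D.isom h' hsm (fun m m' => isom hx.mem m m') _ _
    · rw [← hx.2 _ (h.E_le 0 1), h.prM_E]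
      have h1 : h' (h.epM sc c) = m := he
      have h2 : h.epM sc 1 = c⁻¹ • h.epM sc c := by
        rw [OC.ep_eq D c, smul_smul, inv_mul_cancel₀ hc, one_smul]
      rw [h2]
      exact (hsm _ _).trans (congrArg (fun z => c⁻¹ • z) h1)
  stab := by
    intro c hc ⟨s, hs⟩
    obtain ⟨m, hm0, -, hm⟩ := h.pt_of sc f D hc
    apply h.normalizes_V' sc hc
    obtain ⟨s1, hs1⟩ := hm 1
    -- `m ∈ F e₀`
    have h1 : s1 ≠ 0 := by
      intro h2
      rw [h2, zero_smul, h.prM_eq_zero sc (h.nor c hc _ (h.E_le 0 1))] at hs1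
      have h3 := (mem_normalizer_iff.1 hc _).2 hs1
      obtain ⟨a, ha⟩ := h.mem_R.1 h3
      exact one_ne_zero (h.v_eq ha).2.1
    have h2 : m = (s1⁻¹ * s) • h.epM sc 1 := by
      rw [hs1, h.prM_E] at hs
      rw [mul_smul, ← hs, smul_smul, inv_mul_cancel₀ h1, one_smul]
    intro a b
    obtain ⟨s2, hs2⟩ := hm b
    have hv : v a b 0 = v a 0 0 * v 0 b 0 := by rw [← h.v_add, add_zero, zero_add, add_zero]
    have h3 : h.prM sc (c * v a b 0 * c⁻¹) = h.epM sc (s2 * (s1⁻¹ * s)) := by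
      have e : c * v a b 0 * c⁻¹ = (c * v a 0 0 * c⁻¹) * (c * v 0 b 0 * c⁻¹) := by rw [hv]; group
      have h4 := h.nor c hc _ (h.E_le a 0)
      rw [e, h.prM_mul sc h4 (h.nor c hc _ (h.E_le 0 b)), hs2, h2, smul_smul, ← OC.ep_eq D,
        (h.prM_eq_zero sc h4).2 ((mem_normalizer_iff.1 hc _).1 (h.mem_R.2 ⟨a, rfl⟩)), zero_add]
    rw [← h.prM_E sc 0, h.prM_eq sc (h.nor c hc _ (h.E_le a b)) (h.E_le _ _)] at h3
    obtain ⟨a3, ha3⟩ := h.mem_R.1 h3
    refine ⟨a3, s2 * (s1⁻¹ * s), ?_⟩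
    have e : c * v a b 0 * c⁻¹ = c * v a b 0 * c⁻¹ * (v 0 (s2 * (s1⁻¹ * s)) 0)⁻¹ * v 0 (s2 * (s1⁻¹ * s)) 0 := by
      group
    rw [e, ha3, ← h.v_add, add_zero, zero_add, add_zero]
  pt := fun _ hc => h.pt_of sc f D hc
  rad := by
    intro c hc h1 h2 h3
    apply h.rad_prM sc f hc h1
    · intro x hx hp
      rw [OC.p_eq D hx] at hp
      exact h2 x hx hp
    · intro x hx
      rw [OC.p_eq D hx, OC.p_eq D (h.nor c (h.CR_le_NR hc) x hx)]
      exact h3 x hx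

end GIn

/-- **THEOREM UNI at the level of the group**, existence form -/
theorem GIn.exists_Out.{u} {G : Type u} [Group G] [Finite G] {k F : Type*} [Field k] [Field F] [Algebra k F]
    {T : Quad k F} {S : Sylow 2 G} {V R Q Q' : Subgroup G} {v : k → F → k → G} {p p' : G → F}
    {Φ : Type*} [AddCommGroup Φ] [Module F Φ] [Module k Φ] [IsScalarTower k F Φ]
    {φ χ : G → Φ} (h : GIn T S V R Q Q' v p p') (f : Fld T V R Q Q' v p φ χ) :
    ∃ (W : Type u) (_ : AddCommGroup W) (_ : Module F W) (w : G → W) (g : W → W → F) (f₀ : W)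
      (ι : Φ →ₗ[F] W) (hm : Φ → Φ → F), Out T V R Q Q' v p φ χ hm w g f₀ ι := by
  have : CharP k 2 := CharTwo.of_one_ne_zero_of_two_eq_zero one_ne_zero h.h2
  have := h.finiteM (h.scal f)
  obtain ⟨_, ⟨D⟩⟩ := (h.uni (h.scal f) f).exists_herm
  exact ⟨_, _, _, _, _, _, _, _, h.out_of (h.scal f) f D⟩

end Cfsg.Agent.Omega.NOne.SU

end

end

-- merged: Cfsg.Agent.Mrg.Omega.NO1U.SemiOf
section

section


/-!
# `GIn`, `Fld` ⟹ `Out` and, if `Φ ≠ 0`, `Semi`: `N_G(R)` acts on `W = Q/R` by semilinear similitudes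
-/

set_option autoImplicit false

open Subgroup

namespace Cfsg.Agent.Omega.NO1U.SemiOf

open Cfsg.Agent.Omega.NOne.SU

/-- `Semi` for the explicit maps -/
theorem semi_of {G : Type*} [Group G] [Finite G] {k F : Type*} [Field k] [Field F] [Algebra k F]
    {T : Quad k F} {S : Sylow 2 G} {V R Q Q' : Subgroup G} {v : k → F → k → G} {p p' : G → F}
    {Φ : Type*} [AddCommGroup Φ] [Module F Φ] [Module k Φ] [IsScalarTower k F Φ] [Nontrivial Φ]
    {φ χ : G → Φ} (h : GIn T S V R Q Q' v p p') (sc : Scal h.sp.form) (f : Fld T V R Q Q' v p φ χ)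
    [Module F (h.M sc)] (D : (h.uni sc f).Herm) : CSide.Semi R Q (h.prM sc) D.g := by
  intro c hc
  obtain ⟨σ, γ, h0, h1, h2, -⟩ := h.zt_semi sc f D hc
  refine ⟨σ, algebraMap k F γ, fun e => h0 ((map_eq_zero _).1 e), ?_, ?_⟩
  · intro s x hx y hy hxy
    rw [← h.zt_pr sc hc hx, ← h.zt_pr sc hc hy, hxy]
    exact h1 s _
  · intro x hx y hy
    rw [← h.zt_pr sc hc hx, ← h.zt_pr sc hc hy, h2, Algebra.smul_def]

/-- **`Out` and `Semi`** -/
theorem exists_Out_semi.{u} {G : Type u} [Group G] [Finite G] {k F : Type*} [Field k] [Field F] [Algebra k F]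
    {T : Quad k F} {S : Sylow 2 G} {V R Q Q' : Subgroup G} {v : k → F → k → G} {p p' : G → F}
    {Φ : Type*} [AddCommGroup Φ] [Module F Φ] [Module k Φ] [IsScalarTower k F Φ]
    {φ χ : G → Φ} (h : GIn T S V R Q Q' v p p') (f : Fld T V R Q Q' v p φ χ) :
    ∃ (W : Type u) (_ : AddCommGroup W) (_ : Module F W) (w : G → W) (g : W → W → F) (f₀ : W)
      (ι : Φ →ₗ[F] W) (hm : Φ → Φ → F), Out T V R Q Q' v p φ χ hm w g f₀ ι ∧
      (Nontrivial Φ → CSide.Semi R Q w g) := by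
  have : CharP k 2 := CharTwo.of_one_ne_zero_of_two_eq_zero one_ne_zero h.h2
  have := h.finiteM (h.scal f)
  obtain ⟨_, ⟨D⟩⟩ := (h.uni (h.scal f) f).exists_herm
  exact ⟨_, _, _, _, _, _, _, _, h.out_of (h.scal f) f D, fun _ => semi_of h (h.scal f) f D⟩

end Cfsg.Agent.Omega.NO1U.SemiOf

end

section


/-!
# The group `X = ⟨Q, Q'⟩` acts on `Y / V = Φ ⊗ F²` and on `V` as `SL₂(F)`

`XD.bil'` : `[y', a] = p'(y') φ(a)` for `y' ∈ Q'`, `a ∈ C_Q(V)`.
`XD.Rep y u w` : `y = a b`, `a ∈ C_Q(V)`, `b ∈ C_{Q'}(V)`, `φ a = u`, `χ b = w`.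
`XD.mat` : every `x ∈ X` acts by a matrix of determinant one.
-/

set_option autoImplicit false
set_option linter.unusedVariables false
set_option linter.unusedSectionVars false

open Subgroup
open Cfsg.Agent.Omega.NO1.Beta.Meet Cfsg.Agent.Omega.NOne.SU

namespace Cfsg.Agent.Omega.NO1U

universe u

variable {G : Type u} [Group G] {k F : Type*} [Field k] [Field F] [Algebra k F]
variable {T : Quad k F} {S : Sylow 2 G} {I : Type*} {V : Subgroup G} {Rf Qf : I → Subgroup G} {i j : I}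
  {v : k → F → k → G} {p p' : G → F} {Φ : Type*} [AddCommGroup Φ] [Module F Φ] {φ χ : G → Φ}

/-- `y = a b`, `a ∈ C_Q(V)`, `b ∈ C_{Q'}(V)`, `φ a = u`, `χ b = w` -/
def Rep (V : Subgroup G) (Qf : I → Subgroup G) (i j : I) (φ χ : G → Φ) (y : G) (u w : Φ) : Prop :=
  ∃ a ∈ Qf i ⊓ centralizer (V : Set G), ∃ b ∈ Qf j ⊓ centralizer (V : Set G), y = a * b ∧ φ a = u ∧ χ b = w

namespace XD

variable (D : XD T S V Rf Qf i j v p p' φ χ)
include D

theorem two_inv {w : G} (hw : w ∈ V) : w * w = 1 := by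
  obtain ⟨a, b, d, rfl⟩ := D.g.v_surj w hw
  rw [← D.g.v_add]
  have h2 := GEnd.h2 D.g
  have hk : (2 : k) = 0 := D.g.sp.two
  have ea : a + a = 0 := by rw [← two_mul, hk, zero_mul]
  have eb : b + b = 0 := by rw [← two_mul, h2, zero_mul]
  have ed : d + d = 0 := by rw [← two_mul, hk, zero_mul]
  rw [ea, eb, ed]
  exact GEnd.v_zero D.g

theorem meetV : Qf i ⊓ Qf j ≤ V := GEnd.meet_V D.g

theorem comm_V' {a b : G} (ha : a ∈ Qf i ⊓ centralizer (V : Set G)) (hb : b ∈ Qf j ⊓ centralizer (V : Set G)) :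
    a * b * a⁻¹ * b⁻¹ ∈ V := D.M.comm_V D.ne D.meetV ha.1 ha.2 hb.1 hb.2

theorem negΦ (u : Φ) : -u = u := by
  have h1 : (2 : F) • u = 0 := by rw [GEnd.h2 D.g, zero_smul]
  rw [two_smul] at h1
  exact neg_eq_of_add_eq_zero_left h1

theorem addΦ (u : Φ) : u + u = 0 := by
  have h1 : (2 : F) • u = 0 := by rw [GEnd.h2 D.g, zero_smul]
  rwa [two_smul] at h1

theorem φ_one : φ 1 = 0 := by
  have h1 := D.f.φ_add 1 (one_mem _) (one_mem _) 1 (one_mem _) (one_mem _)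
  rw [mul_one] at h1
  exact left_eq_add.mp h1

theorem χ_one : χ 1 = 0 := by
  have h1 := D.f.χ_add 1 (one_mem _) (one_mem _) 1 (one_mem _) (one_mem _)
  rw [mul_one] at h1
  exact left_eq_add.mp h1

theorem φ_inv {a : G} (ha : a ∈ Qf i) (haC : a ∈ centralizer (V : Set G)) : φ a⁻¹ = φ a := by
  have h1 := D.f.φ_add a ha haC a⁻¹ (inv_mem ha) (inv_mem haC)
  rw [mul_inv_cancel, D.φ_one] at h1
  rw [← D.negΦ (φ a)]
  exact (neg_eq_of_add_eq_zero_right h1.symm).symm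

theorem χ_inv {a : G} (ha : a ∈ Qf j) (haC : a ∈ centralizer (V : Set G)) : χ a⁻¹ = χ a := by
  have h1 := D.f.χ_add a ha haC a⁻¹ (inv_mem ha) (inv_mem haC)
  rw [mul_inv_cancel, D.χ_one] at h1
  rw [← D.negΦ (χ a)]
  exact (neg_eq_of_add_eq_zero_right h1.symm).symm

theorem VC {w : G} (hw : w ∈ V) : w ∈ centralizer (V : Set G) := D.M.V_le_C hw

theorem φ_V {w : G} (hw : w ∈ V) (hQ : w ∈ Qf i) : φ w = 0 := by
  rw [D.f.φ_ker w hQ (D.VC hw)]
  obtain ⟨a, b, d, rfl⟩ := D.g.v_surj w hw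
  exact ⟨a, b, by rw [D.g.V_Q _ _ _ hQ]⟩

theorem V_Q' {w : G} (hw : w ∈ V) (hQ : w ∈ Qf j) : ∃ b d, w = v 0 b d := by
  obtain ⟨a, b, d, rfl⟩ := D.g.v_surj w hw
  have h1 : v a b d = v a 0 0 * v 0 b d := by
    rw [← D.g.v_add, add_zero, zero_add, zero_add]
  have h3 : v a 0 0 ∈ Qf j := by
    have : v a 0 0 = v a b d * (v 0 b d)⁻¹ := by rw [h1]; group
    rw [this]
    exact mul_mem hQ (inv_mem (D.g.E'_le b d))
  have h4 : v a 0 0 ∈ Rf i ⊓ Qf j := ⟨D.g.sp.a_mem a, h3⟩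
  rw [D.M.RQj i j D.ne, mem_bot] at h4
  have h5 := (D.g.v_inj _ _ _ h4).1
  exact ⟨b, d, by rw [h5]⟩

theorem χ_V {w : G} (hw : w ∈ V) (hQ : w ∈ Qf j) : χ w = 0 := by
  obtain ⟨y, hy, hy1⟩ := D.g.p_surj 1
  have h1 := D.f.bil y hy w hQ (D.VC hw)
  rw [hy1, one_smul] at h1
  rw [← h1]
  refine D.φ_V ?_ ?_
  · have h2 : w * y * w⁻¹ * y⁻¹ = w * (y * w⁻¹ * y⁻¹) := by group
    rw [h2]
    exact mul_mem hw (D.M.Q_V' hy (inv_mem hw))
  · have h2 : w * y * w⁻¹ * y⁻¹ = (y * w * y⁻¹ * w⁻¹)⁻¹ := by group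
    rw [h2]
    exact inv_mem (D.M.comm_mem hy hQ (D.VC hw)).1

/-- only the class mod `V` counts -/
theorem φ_congr {a a' : G} (ha : a ∈ Qf i) (haC : a ∈ centralizer (V : Set G)) (ha' : a' ∈ Qf i)
    (haC' : a' ∈ centralizer (V : Set G)) (h : a * a'⁻¹ ∈ V) : φ a = φ a' := by
  have h1 := D.f.φ_add (a * a'⁻¹) (mul_mem ha (inv_mem ha')) (mul_mem haC (inv_mem haC')) a' ha' haC'
  rw [inv_mul_cancel_right, D.φ_V h (mul_mem ha (inv_mem ha')), zero_add] at h1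
  exact h1

theorem χ_congr {a a' : G} (ha : a ∈ Qf j) (haC : a ∈ centralizer (V : Set G)) (ha' : a' ∈ Qf j)
    (haC' : a' ∈ centralizer (V : Set G)) (h : a * a'⁻¹ ∈ V) : χ a = χ a' := by
  have h1 := D.f.χ_add (a * a'⁻¹) (mul_mem ha (inv_mem ha')) (mul_mem haC (inv_mem haC')) a' ha' haC'
  rw [inv_mul_cancel_right, D.χ_V h (mul_mem ha (inv_mem ha')), zero_add] at h1
  exact h1

/-- `φ [y, b] = p(y) χ(b)` -/
theorem bil₁ {y b : G} (hy : y ∈ Qf i) (hb : b ∈ Qf j ⊓ centralizer (V : Set G)) :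
    y * b * y⁻¹ * b⁻¹ ∈ Qf i ⊓ centralizer (V : Set G) ∧ φ (y * b * y⁻¹ * b⁻¹) = p y • χ b := by
  have h1 := D.M.comm_mem hy hb.1 hb.2
  refine ⟨mem_inf.mpr h1, ?_⟩
  rw [← D.φ_inv h1.1 h1.2, ← D.f.bil y hy b hb.1 hb.2]
  congr 1; group

/-- `χ [y', a] = p'(y') φ(a)` -/
theorem bil' {y a : G} (hy : y ∈ Qf j) (ha : a ∈ Qf i ⊓ centralizer (V : Set G)) :
    y * a * y⁻¹ * a⁻¹ ∈ Qf j ⊓ centralizer (V : Set G) ∧ χ (y * a * y⁻¹ * a⁻¹) = p' y • φ a := by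
  have h1 := D.M.comm_mem hy ha.1 ha.2
  refine ⟨mem_inf.mpr h1, ?_⟩
  by_cases h0 : p' y = 0
  · have hyC := (GEnd.mem_C' D.g hy).mpr h0
    have h2 : y * a * y⁻¹ * a⁻¹ ∈ V := D.M.comm_V D.ne D.meetV hy hyC ha.1 ha.2
    rw [D.χ_V h2 h1.1, h0, zero_smul]
  · obtain ⟨z, hz, hpz⟩ := D.g.p_surj (p' y)⁻¹
    have hpz0 : p z ≠ 0 := by rw [hpz]; exact inv_ne_zero h0
    have hm := (GEnd.match_iff D.g D.Rj hz hy hpz0).mpr (by rw [hpz, inv_inv])
    have h2 := D.M.surj_V D.ne D.meetV hz hy hm ha.1 ha.2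
    obtain ⟨h3, h4⟩ := D.bil₁ hz (mem_inf.mpr h1)
    have h5 := D.φ_congr h3.1 h3.2 ha.1 ha.2 h2
    rw [h4, hpz] at h5
    rw [← h5, smul_smul, mul_inv_cancel₀ h0, one_smul]

/-! ### coordinates on `Y` -/

theorem rep_mul {y y' : G} {u w u' w' : Φ} (h : Rep V Qf i j φ χ y u w) (h' : Rep V Qf i j φ χ y' u' w') :
    Rep V Qf i j φ χ (y * y') (u + u') (w + w') := by
  obtain ⟨a, ha, b, hb, rfl, rfl, rfl⟩ := h
  obtain ⟨a', ha', b', hb', rfl, rfl, rfl⟩ := h'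
  -- `b a' = a' z b`, `z ∈ V`
  have hz : a'⁻¹ * b * a' * b⁻¹ ∈ V := by
    have h1 := D.comm_V' (mem_inf.mpr ⟨inv_mem ha'.1, inv_mem ha'.2⟩) hb
    rwa [inv_inv] at h1
  obtain ⟨α, β, δ, e⟩ := D.g.v_surj _ hz
  have e1 : v α β δ = v α β 0 * v 0 0 δ := by
    rw [← D.g.v_add, add_zero, add_zero, zero_add]
  have m1 : v α β 0 ∈ Qf i ⊓ centralizer (V : Set G) := mem_inf.mpr ⟨D.g.E_le _ _, D.VC (D.g.v_mem _ _ _)⟩
  have m2 : v 0 0 δ ∈ Qf j ⊓ centralizer (V : Set G) := mem_inf.mpr ⟨D.g.E'_le _ _, D.VC (D.g.v_mem _ _ _)⟩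
  refine ⟨a * a' * v α β 0, mul_mem (mul_mem ha ha') m1, v 0 0 δ * b * b', mul_mem (mul_mem m2 hb) hb', ?_, ?_, ?_⟩
  · calc a * b * (a' * b') = a * a' * (a'⁻¹ * b * a' * b⁻¹) * b * b' := by group
      _ = a * a' * (v α β 0 * v 0 0 δ) * b * b' := by rw [← e, e1]
      _ = a * a' * v α β 0 * (v 0 0 δ * b * b') := by group
  · rw [D.f.φ_add _ (mul_mem ha.1 ha'.1) (mul_mem ha.2 ha'.2) _ m1.1 m1.2, D.f.φ_add _ ha.1 ha.2 _ ha'.1 ha'.2,
      D.φ_V (D.g.v_mem _ _ _) m1.1, add_zero]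
  · rw [D.f.χ_add _ (mul_mem m2.1 hb.1) (mul_mem m2.2 hb.2) _ hb'.1 hb'.2, D.f.χ_add _ m2.1 m2.2 _ hb.1 hb.2,
      D.χ_V (D.g.v_mem _ _ _) m2.1, zero_add]

theorem rep_left {a : G} (ha : a ∈ Qf i ⊓ centralizer (V : Set G)) : Rep V Qf i j φ χ a (φ a) 0 :=
  ⟨a, ha, 1, one_mem _, by rw [mul_one], rfl, D.χ_one⟩

theorem rep_right {b : G} (hb : b ∈ Qf j ⊓ centralizer (V : Set G)) : Rep V Qf i j φ χ b 0 (χ b) :=
  ⟨1, one_mem _, b, hb, by rw [one_mul], D.φ_one, rfl⟩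

theorem rep_Y {y : G} : y ∈ YY V Qf i j ↔ ∃ u w, Rep V Qf i j φ χ y u w := by
  constructor
  · intro hy
    rw [YY, Subgroup.sup_eq_closure] at hy
    have key : ∀ a, a ∈ ((Qf i ⊓ centralizer (V : Set G) : Subgroup G) : Set G) ∪
        ((Qf j ⊓ centralizer (V : Set G) : Subgroup G) : Set G) → ∃ u w, Rep V Qf i j φ χ a u w := by
      intro a ha
      rcases ha with ha | ha
      · exact ⟨_, _, D.rep_left ha⟩
      · exact ⟨_, _, D.rep_right ha⟩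
    induction hy using Subgroup.closure_induction_left with
    | one => exact ⟨_, _, D.rep_left (one_mem _)⟩
    | mul_left a ha b hb ih =>
      obtain ⟨u, w, h⟩ := ih
      obtain ⟨u', w', h'⟩ := key a ha
      exact ⟨_, _, D.rep_mul h' h⟩
    | inv_mul_cancel a ha b hb ih =>
      obtain ⟨u, w, h⟩ := ih
      obtain ⟨u', w', h'⟩ := key a⁻¹ (by
        rcases ha with ha | ha
        · exact Or.inl (inv_mem (S := Subgroup G) ha)
        · exact Or.inr (inv_mem (S := Subgroup G) ha))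
      exact ⟨_, _, D.rep_mul h' h⟩
  · rintro ⟨u, w, a, ha, b, hb, rfl, -, -⟩
    exact mul_mem (mem_sup_left ha) (mem_sup_right hb)

theorem rep_uniq {y : G} {u w u' w' : Φ} (h : Rep V Qf i j φ χ y u w) (h' : Rep V Qf i j φ χ y u' w') :
    u = u' ∧ w = w' := by
  obtain ⟨a, ha, b, hb, rfl, rfl, rfl⟩ := h
  obtain ⟨a', ha', b', hb', e, rfl, rfl⟩ := h'
  have e1 : a'⁻¹ * a = b' * b⁻¹ := by
    calc a'⁻¹ * a = a'⁻¹ * (a * b) * b⁻¹ := by group
      _ = b' * b⁻¹ := by rw [e]; group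
  have hV : a'⁻¹ * a ∈ V := D.meetV (mem_inf.mpr ⟨mul_mem (inv_mem ha'.1) ha.1, by
    rw [e1]; exact mul_mem hb'.1 (inv_mem hb.1)⟩)
  constructor
  · have h1 := D.f.φ_add _ ha'.1 ha'.2 (a'⁻¹ * a) (mul_mem (inv_mem ha'.1) ha.1) (mul_mem (inv_mem ha'.2) ha.2)
    rw [mul_inv_cancel_left, D.φ_V hV (mul_mem (inv_mem ha'.1) ha.1), add_zero] at h1
    exact h1
  · symm
    refine D.χ_congr hb'.1 hb'.2 hb.1 hb.2 ?_
    rw [← e1]; exact hV

theorem rep_V {y : G} (hy : y ∈ V) : Rep V Qf i j φ χ y 0 0 := by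
  obtain ⟨α, β, δ, rfl⟩ := D.g.v_surj _ hy
  have e1 : v α β δ = v α β 0 * v 0 0 δ := by
    rw [← D.g.v_add, add_zero, add_zero, zero_add]
  have m1 : v α β 0 ∈ Qf i ⊓ centralizer (V : Set G) := mem_inf.mpr ⟨D.g.E_le _ _, D.VC (D.g.v_mem _ _ _)⟩
  have m2 : v 0 0 δ ∈ Qf j ⊓ centralizer (V : Set G) := mem_inf.mpr ⟨D.g.E'_le _ _, D.VC (D.g.v_mem _ _ _)⟩
  exact ⟨_, m1, _, m2, e1, D.φ_V (D.g.v_mem _ _ _) m1.1, D.χ_V (D.g.v_mem _ _ _) m2.1⟩

theorem rep_zero {y : G} (h : Rep V Qf i j φ χ y 0 0) : y ∈ V := by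
  obtain ⟨a, ha, b, hb, rfl, h1, h2⟩ := h
  obtain ⟨α, β, e⟩ := (D.f.φ_ker a ha.1 ha.2).mp h1
  obtain ⟨β', δ, e'⟩ := D.f.χ_ker b hb.1 hb.2 h2
  rw [e, e']
  exact mul_mem (D.g.v_mem _ _ _) (D.g.v_mem _ _ _)

theorem rep_conj₁ {y m : G} {u w : Φ} (hy : y ∈ Qf i) (h : Rep V Qf i j φ χ m u w) :
    Rep V Qf i j φ χ (y * m * y⁻¹) (u + p y • w) w := by
  obtain ⟨a, ha, b, hb, rfl, rfl, rfl⟩ := h
  obtain ⟨h1, h2⟩ := D.bil₁ hy hb
  have h3 : y * a * y⁻¹ ∈ Qf i ⊓ centralizer (V : Set G) :=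
    mem_inf.mpr ⟨mul_mem (mul_mem hy ha.1) (inv_mem hy), D.M.Q_cent hy ha.2⟩
  have h4 : φ (y * a * y⁻¹) = φ a := D.φ_congr h3.1 h3.2 ha.1 ha.2 (D.M.R_le i (D.M.QQ i y hy a ha.1))
  refine ⟨y * a * y⁻¹ * (y * b * y⁻¹ * b⁻¹), mul_mem h3 h1, b, hb, by group, ?_, rfl⟩
  rw [D.f.φ_add _ h3.1 h3.2 _ h1.1 h1.2, h4, h2]

theorem rep_conj₂ {y m : G} {u w : Φ} (hy : y ∈ Qf j) (h : Rep V Qf i j φ χ m u w) :
    Rep V Qf i j φ χ (y * m * y⁻¹) u (p' y • u + w) := by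
  obtain ⟨a, ha, b, hb, rfl, rfl, rfl⟩ := h
  obtain ⟨h1, h2⟩ := D.bil' hy ha
  have h3 : y * b * y⁻¹ ∈ Qf j ⊓ centralizer (V : Set G) :=
    mem_inf.mpr ⟨mul_mem (mul_mem hy hb.1) (inv_mem hy), D.M.Q_cent hy hb.2⟩
  have h4 : χ (y * b * y⁻¹) = χ b := D.χ_congr h3.1 h3.2 hb.1 hb.2 (D.M.R_le j (D.M.QQ j y hy b hb.1))
  have e : y * (a * b) * y⁻¹ = (y * a * y⁻¹ * a⁻¹) * a * (y * b * y⁻¹) := by group
  rw [e]
  have h5 := D.rep_mul (D.rep_mul (D.rep_right h1) (D.rep_left ha)) (D.rep_right h3)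
  rw [zero_add, add_zero, add_zero, h2, h4] at h5
  exact h5

/-- the action of a matrix on the hermitian matrices -/
def Act (T : Quad k F) (v : k → F → k → G) (x : G) (α β γ δ : F) : Prop :=
  ∀ a b d, ∃ a' d', algebraMap k F a' = α * T.sg α * algebraMap k F a + α * T.sg β * b + β * T.sg α * T.sg b +
      β * T.sg β * algebraMap k F d ∧
    algebraMap k F d' = γ * T.sg γ * algebraMap k F a + γ * T.sg δ * b + δ * T.sg γ * T.sg b +
      δ * T.sg δ * algebraMap k F d ∧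
    x * v a b d * x⁻¹ = v a' (α * T.sg γ * algebraMap k F a + α * T.sg δ * b + β * T.sg γ * T.sg b +
      β * T.sg δ * algebraMap k F d) d'

/-- **every `x ∈ X` acts on `Y / V` and on `V` as a matrix of determinant one** -/
theorem mat {x : G} (hx : x ∈ Qf i ⊔ Qf j) : ∃ α β γ δ : F, α * δ + β * γ = 1 ∧
    (∀ m u w, Rep V Qf i j φ χ m u w → Rep V Qf i j φ χ (x * m * x⁻¹) (α • u + β • w) (γ • u + δ • w)) ∧
    Act T v x α β γ δ := by
  have h2 := GEnd.h2 D.g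
  have key : ∀ y, y ∈ (Qf i : Set G) ∪ (Qf j : Set G) → ∀ x, (∃ α β γ δ : F, α * δ + β * γ = 1 ∧
    (∀ m u w, Rep V Qf i j φ χ m u w → Rep V Qf i j φ χ (x * m * x⁻¹) (α • u + β • w) (γ • u + δ • w)) ∧
    Act T v x α β γ δ) → ∃ α β γ δ : F, α * δ + β * γ = 1 ∧
    (∀ m u w, Rep V Qf i j φ χ m u w → Rep V Qf i j φ χ (y * x * m * (y * x)⁻¹) (α • u + β • w) (γ • u + δ • w)) ∧
    Act T v (y * x) α β γ δ := by
    rintro y (hy | hy) x ⟨α, β, γ, δ, h1, h3, h4⟩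
    · refine ⟨α + p y * γ, β + p y * δ, γ, δ, ?_, ?_, ?_⟩
      · linear_combination h1 + p y * γ * δ * h2
      · intro m u w h
        have h5 := D.rep_conj₁ hy (h3 m u w h)
        have e : y * x * m * (y * x)⁻¹ = y * (x * m * x⁻¹) * y⁻¹ := by group
        rw [e]
        have e2 : α • u + β • w + p y • (γ • u + δ • w) = (α + p y * γ) • u + (β + p y * δ) • w := by
          module
        rwa [e2] at h5
      · intro a b d
        obtain ⟨a', d', ha, hd, hv⟩ := h4 a b d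
        have e : y * x * v a b d * (y * x)⁻¹ = y * (x * v a b d * x⁻¹) * y⁻¹ := by group
        rw [e, hv, D.g.act y hy]
        refine ⟨_, _, ?_, hd, congrArg₂ (fun s t => v s t d') rfl ?_⟩
        · simp only [map_add, map_mul, T.tr_eq, T.nm_eq, T.sg_sg, AlgEquiv.commutes, ha, hd]
          ring
        · simp only [map_add, map_mul, hd]
          ring
    · refine ⟨α, β, γ + p' y * α, δ + p' y * β, ?_, ?_, ?_⟩
      · linear_combination h1 + p' y * α * β * h2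
      · intro m u w h
        have h5 := D.rep_conj₂ hy (h3 m u w h)
        have e : y * x * m * (y * x)⁻¹ = y * (x * m * x⁻¹) * y⁻¹ := by group
        rw [e]
        have e2 : p' y • (α • u + β • w) + (γ • u + δ • w) = (γ + p' y * α) • u + (δ + p' y * β) • w := by
          module
        rwa [e2] at h5
      · intro a b d
        obtain ⟨a', d', ha, hd, hv⟩ := h4 a b d
        have e : y * x * v a b d * (y * x)⁻¹ = y * (x * v a b d * x⁻¹) * y⁻¹ := by group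
        rw [e, hv, D.g.act' y hy]
        refine ⟨_, _, ha, ?_, congrArg₂ (fun s t => v a' s t) ?_ rfl⟩
        · simp only [map_add, map_mul, T.tr_eq, T.nm_eq, T.sg_sg, AlgEquiv.commutes, ha, hd]
          ring
        · simp only [map_add, map_mul, ha]
          ring
  rw [Subgroup.sup_eq_closure] at hx
  induction hx using Subgroup.closure_induction_left with
  | one =>
    refine ⟨1, 0, 0, 1, by ring, ?_, ?_⟩
    · intro m u w h
      simpa using h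
    · intro a b d
      refine ⟨a, d, by simp, by simp, by simp⟩
  | mul_left a ha b hb ih => exact key a ha b ih
  | inv_mul_cancel a ha b hb ih =>
    refine key a⁻¹ ?_ b ih
    rcases ha with ha | ha
    · exact Or.inl (inv_mem (S := Subgroup G) ha)
    · exact Or.inr (inv_mem (S := Subgroup G) ha)

end XD

end Cfsg.Agent.Omega.NO1U

end

section


/-!
# The group `X = ⟨Q, Q'⟩`: the stabiliser of `R`, the elements trivial on `V`, the number of points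

* `XD.mem_NR_iff`, `XD.scal` : `X ∩ N(R)` acts on `C_Q(V) / (V ∩ Q) = Φ` by scalars of `F`;
* `XD.triv` : `X ∩ C(V)` centralises `Y / V`;
* `XD.relIndex` : `|X : X ∩ N(R)| = |F| + 1`;
* `XD.mem_QC` : an element of `N(V) ∩ N(R)` which is trivial on `R`, `(V ∩ Q) / R`, `Q / C_Q(V)` lies in `Q C(V)`.
-/

set_option autoImplicit false
set_option linter.unusedVariables false
set_option linter.unusedSectionVars false

open Subgroup
open Cfsg.Agent.Omega.NO1.Beta.Meet Cfsg.Agent.Omega.NOne.SU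

namespace Cfsg.Agent.Omega.NO1U

universe u

variable {G : Type u} [Group G] {k F : Type*} [Field k] [Field F] [Algebra k F]
variable {T : Quad k F} {S : Sylow 2 G} {I : Type*} {V : Subgroup G} {Rf Qf : I → Subgroup G} {i j : I}
  {v : k → F → k → G} {p p' : G → F} {Φ : Type*} [AddCommGroup Φ] [Module F Φ] {φ χ : G → Φ}

namespace XD

variable (D : XD T S V Rf Qf i j v p p' φ χ)
include D

theorem mem_NR {x : G} (hx : x ∈ normalizer (Rf i : Set G)) (a : k) : ∃ a', x * v a 0 0 * x⁻¹ = v a' 0 0 := by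
  have h1 : x * v a 0 0 * x⁻¹ ∈ Rf i := (mem_normalizer_iff.mp hx _).mp (D.g.sp.a_mem a)
  exact (GEnd.mem_R D.g _).mp h1

/-- the matrix of an element of `X ∩ N(R)` is upper triangular -/
theorem matR {x : G} (hx : x ∈ Qf i ⊔ Qf j) (hR : x ∈ normalizer (Rf i : Set G)) : ∃ α β : F, α ≠ 0 ∧
    (∀ m u w, Rep V Qf i j φ χ m u w → Rep V Qf i j φ χ (x * m * x⁻¹) (α • u + β • w) (α⁻¹ • w)) ∧
    Act T v x α β 0 α⁻¹ := by
  obtain ⟨α, β, γ, δ, h1, h2, h3⟩ := D.mat hx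
  obtain ⟨a', d', ha, hd, hv⟩ := h3 1 0 0
  obtain ⟨a'', ha''⟩ := D.mem_NR hR 1
  rw [ha''] at hv
  obtain ⟨-, -, e⟩ := GEnd.v_eq D.g hv
  rw [← e] at hd
  simp only [map_zero, map_one, mul_one, mul_zero, add_zero] at hd
  have hγ : γ = 0 := by
    rcases mul_eq_zero.mp hd.symm with h | h
    · exact h
    · simpa using h
  subst hγ
  rw [mul_zero, add_zero] at h1
  have hα : α ≠ 0 := left_ne_zero_of_mul_eq_one h1
  have hδ : δ = α⁻¹ := eq_inv_of_mul_eq_one_right h1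
  subst hδ
  refine ⟨α, β, hα, ?_, h3⟩
  intro m u w h
  have := h2 m u w h
  rwa [zero_smul, zero_add] at this

/-- **`X ∩ N(R)` acts on `C_Q(V) / (V ∩ Q)` by scalars** -/
theorem scal {x : G} (hx : x ∈ Qf i ⊔ Qf j) (hR : x ∈ normalizer (Rf i : Set G)) : ∃ s : F, s ≠ 0 ∧
    ∀ a ∈ Qf i ⊓ centralizer (V : Set G), x * a * x⁻¹ ∈ Qf i ⊓ centralizer (V : Set G) ∧
      φ (x * a * x⁻¹) = s • φ a := by
  obtain ⟨α, β, hα, h1, -⟩ := D.matR hx hR
  refine ⟨α, hα, fun a ha => ?_⟩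
  have h2 := h1 a _ _ (D.rep_left ha)
  have h3 : x * a * x⁻¹ ∈ Qf i ⊓ centralizer (V : Set G) := by
    refine mem_inf.mpr ⟨?_, cent_conj (X_le_N D.M hx) ha.2⟩
    have := conj_mem_cj (c := x) ha.1
    rwa [D.M.nor i x hR] at this
  refine ⟨h3, ?_⟩
  have h4 := (D.rep_uniq h2 (D.rep_left h3)).1
  rw [← h4, smul_zero, add_zero]

/-- **`X ∩ C(V)` centralises `Y / V`** -/
theorem triv {x m : G} {u w : Φ} (hx : x ∈ Qf i ⊔ Qf j) (hC : x ∈ centralizer (V : Set G))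
    (h : Rep V Qf i j φ χ m u w) : Rep V Qf i j φ χ (x * m * x⁻¹) u w := by
  have h2 := GEnd.h2 D.g
  have hR : x ∈ normalizer (Rf i : Set G) := by
    apply mem_normalizer_of_cj
    exact cj_eq_of_comm fun r hr => ((mem_centralizer_iff.mp hC) r (D.M.R_le i hr)).symm
  obtain ⟨α, β, hα, h1, h3⟩ := D.matR hx hR
  rw [GEnd.cent_iff D.g] at hC
  -- `β = 0`
  obtain ⟨a', d', ha, hd, hv⟩ := h3 0 0 1
  rw [hC] at hv
  obtain ⟨e1, e2, e3⟩ := GEnd.v_eq D.g hv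
  rw [← e1] at ha
  simp only [map_zero, map_one, mul_one, mul_zero, zero_add] at ha
  have hβ : β = 0 := by
    rcases mul_eq_zero.mp ha.symm with h | h
    · exact h
    · simpa using h
  subst hβ
  -- `α σ(α⁻¹) = 1`
  obtain ⟨a', d', ha, hd, hv⟩ := h3 0 1 0
  rw [hC] at hv
  obtain ⟨e1, e2, e3⟩ := GEnd.v_eq D.g hv
  simp only [map_zero, map_one, mul_one, mul_zero, zero_add, add_zero, zero_mul] at e2
  -- `α σ(α) = 1`
  obtain ⟨a', d', ha, hd, hv⟩ := h3 1 0 0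
  rw [hC] at hv
  obtain ⟨e1, e2', e3⟩ := GEnd.v_eq D.g hv
  rw [← e1] at ha
  simp only [map_zero, map_one, mul_one, mul_zero, zero_add, add_zero, zero_mul] at ha
  have hs : T.sg α ≠ 0 := QuadF.sg_ne T hα
  have e4 : T.sg α = α := by
    rw [map_inv₀] at e2
    field_simp at e2
    exact e2
  rw [e4] at ha
  have e5 : (α - 1) * (α - 1) = 0 := by linear_combination -ha - (α - 1) * h2
  have e6 : α = 1 := by
    have := mul_self_eq_zero.mp e5
    exact sub_eq_zero.mp this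
  have := h1 m u w h
  rw [e6, zero_smul, add_zero, one_smul, inv_one, one_smul] at this
  exact this

theorem triv' {x y : G} (hx : x ∈ Qf i ⊔ Qf j) (hC : x ∈ centralizer (V : Set G)) (hy : y ∈ YY V Qf i j) :
    x * y * x⁻¹ * y⁻¹ ∈ V := by
  obtain ⟨u, w, h⟩ := D.rep_Y.mp hy
  obtain ⟨u', w', h'⟩ := D.rep_Y.mp (inv_mem hy)
  have h1 := D.rep_mul h h'
  rw [mul_inv_cancel] at h1
  obtain ⟨e1, e2⟩ := D.rep_uniq h1 (D.rep_V (one_mem V))
  have h2 := D.rep_mul (D.triv hx hC h) h'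
  rw [e1, e2] at h2
  exact D.rep_zero h2

/-! ### The number of points -/

theorem cj_Rf_eq {x y : G} : cj x (Rf i) = cj y (Rf i) ↔ x⁻¹ * y ∈ normalizer (Rf i : Set G) := by
  constructor
  · intro h
    apply mem_normalizer_of_cj
    rw [cj_mul, ← h, ← cj_mul, inv_mul_cancel, cj, map_one, one_smul]
  · intro h
    have h1 := cj_of_mem_normalizer h
    calc cj x (Rf i) = cj x (cj (x⁻¹ * y) (Rf i)) := by rw [h1]
      _ = cj y (Rf i) := by rw [← cj_mul, mul_inv_cancel_left]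

theorem card_I : Nat.card I = Nat.card F + 1 := by
  classical
  have hF := GEnd.finF T
  obtain ⟨x, y, hpx, hpy, Fr⟩ := D.frame
  -- `l ≠ i ↦ p u`, `cj u (R j) = R l`
  have h1 : ∀ c : F, ∃ l, l ≠ i ∧ cj (x c) (Rf j) = Rf l := by
    intro c
    obtain ⟨l, h, h', -⟩ := D.M.move D.ne.symm (Fr.hx c)
    exact ⟨l, h, h'⟩
  choose f hf hf' using h1
  have hinj : Function.Injective f := by
    intro c d h
    have h2 : cj (x c) (Rf j) = cj (x d) (Rf j) := by rw [hf', hf', h]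
    have h3 : (x c)⁻¹ * x d ∈ centralizer (V : Set G) := by
      apply D.M.fixj i j D.ne _ (mul_mem (inv_mem (Fr.hx c)) (Fr.hx d))
      rw [cj_mul, ← h2, ← cj_mul, inv_mul_cancel, cj, map_one, one_smul]
    rw [GEnd.mem_C D.g (mul_mem (inv_mem (Fr.hx c)) (Fr.hx d)), D.g.p_add _ (inv_mem (Fr.hx c)) _ (Fr.hx d),
      GEnd.p_inv D.g (Fr.hx c), hpx, hpx] at h3
    exact (neg_add_eq_zero.mp h3)
  have hsurj : ∀ l, l ≠ i → ∃ c, f c = l := by
    intro l hl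
    obtain ⟨u, hu, h2⟩ := D.M.tran i j l D.ne.symm hl
    refine ⟨p u, D.M.inj _ _ ?_⟩
    rw [← hf', ← h2]
    have h3 : (x (p u))⁻¹ * u ∈ centralizer (V : Set G) := by
      rw [GEnd.mem_C D.g (mul_mem (inv_mem (Fr.hx _)) hu), D.g.p_add _ (inv_mem (Fr.hx _)) _ hu,
        GEnd.p_inv D.g (Fr.hx _), hpx, neg_add_cancel]
    have h4 : cj ((x (p u))⁻¹ * u) (Rf j) = Rf j :=
      cj_eq_of_comm fun r hr => ((mem_centralizer_iff.mp h3) r (D.M.R_le j hr)).symm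
    calc cj (x (p u)) (Rf j) = cj (x (p u)) (cj ((x (p u))⁻¹ * u) (Rf j)) := by rw [h4]
      _ = cj u (Rf j) := by rw [← cj_mul, mul_inv_cancel_left]
  let e : Option F ≃ I := Equiv.ofBijective (fun o => o.elim i f) (by
    constructor
    · rintro (_ | c) (_ | d) h
      · rfl
      · exact absurd h.symm (hf d)
      · exact absurd h (hf c)
      · rw [hinj h]
    · intro l
      by_cases hl : l = i
      · exact ⟨none, hl.symm⟩
      · obtain ⟨c, hc⟩ := hsurj l hl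
        exact ⟨some c, hc⟩)
  rw [← Nat.card_congr e, Finite.card_option]

/-- `|X : X ∩ N(R)| = |F| + 1` -/
theorem relIndex : (normalizer (Rf i : Set G)).relIndex (Qf i ⊔ Qf j) = Nat.card F + 1 := by
  rw [← D.card_I, Subgroup.relIndex, Subgroup.index]
  have h1 : ∀ x : ↥(Qf i ⊔ Qf j), ∃ l, cj (x : G) (Rf i) = Rf l := fun x => by
    obtain ⟨l, h, -⟩ := permX D.M x.2 i
    exact ⟨l, h⟩
  choose f hf using h1
  refine Nat.card_congr (Equiv.ofBijective (Quotient.lift f ?_) ⟨?_, ?_⟩)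
  · intro a b hab
    have h2 : (a : G)⁻¹ * b ∈ normalizer (Rf i : Set G) := by
      have := (QuotientGroup.leftRel_apply.mp hab)
      rw [mem_subgroupOf] at this
      exact this
    apply D.M.inj
    rw [← hf, ← hf]
    exact D.cj_Rf_eq.mpr h2
  · intro a b
    induction a using QuotientGroup.induction_on with | _ a => ?_
    induction b using QuotientGroup.induction_on with | _ b => ?_
    intro hab
    change f a = f b at hab
    rw [QuotientGroup.eq, mem_subgroupOf]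
    apply D.cj_Rf_eq.mp
    rw [hf, hf, hab]
  · intro l
    obtain ⟨x, hx, h2, -⟩ := D.tranX l
    refine ⟨((⟨x, hx⟩ : ↥(Qf i ⊔ Qf j)) : ↥(Qf i ⊔ Qf j) ⧸ _), D.M.inj _ _ ?_⟩
    change Rf (f ⟨x, hx⟩) = Rf l
    rw [← hf, h2]

/-! ### The elements which act on `V` as an element of `Q` -/

/-- an element of `N(V)` which is trivial on `R`, `(V ∩ Q) / R`, `Q / C_Q(V)` lies in `Q C(V)` -/
theorem mem_QC {g : G} (hN : g ∈ normalizer (V : Set G)) (hR : g ∈ centralizer (Rf i : Set G))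
    (hE : ∀ b, ∃ a, g * v 0 b 0 * g⁻¹ = v a b 0) (hp : ∀ y ∈ Qf i, p (g * y * g⁻¹) = p y) :
    ∃ y ∈ Qf i, y⁻¹ * g ∈ centralizer (V : Set G) := by
  have hRN : g ∈ normalizer (Rf i : Set G) := by
    apply mem_normalizer_of_cj
    exact cj_eq_of_comm fun r hr => ((mem_centralizer_iff.mp hR) r hr).symm
  -- the point `g R'`
  obtain ⟨l, hl1, hl2⟩ := D.permN hN j
  have hl : l ≠ i := by
    rintro rfl
    have h1 : cj g (Rf j) = cj g (Rf l) := by rw [hl1, cj_of_mem_normalizer hRN]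
    exact D.ne (D.M.inj _ _ (cj_inj h1)).symm
  obtain ⟨y, hy, h2⟩ := D.M.tran i j l D.ne.symm hl
  refine ⟨y, hy, ?_⟩
  set h := y⁻¹ * g with hh
  have hyN : y⁻¹ ∈ normalizer (V : Set G) := inv_mem (D.M.Q_V i hy)
  have hhN : h ∈ normalizer (V : Set G) := mul_mem hyN hN
  have hyR : y⁻¹ ∈ centralizer (Rf i : Set G) := by
    rw [mem_centralizer_iff]
    intro r hr
    exact D.M.RQ i r hr _ (inv_mem hy)
  have hhR : h ∈ centralizer (Rf i : Set G) := mul_mem hyR hR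
  have hj : cj h (Rf j) = Rf j := by
    rw [hh, cj_mul, hl1, ← h2, ← cj_mul, inv_mul_cancel, cj, map_one, one_smul]
  have hjQ : cj h (Qf j) = Qf j := D.M.nor j h (mem_normalizer_of_cj hj)
  have hE' : ∀ b, ∃ a, h * v 0 b 0 * h⁻¹ = v a b 0 := by
    intro b
    obtain ⟨a, ha⟩ := hE b
    have e : h * v 0 b 0 * h⁻¹ = y⁻¹ * (g * v 0 b 0 * g⁻¹) * y⁻¹⁻¹ := by rw [hh]; group
    rw [e, ha, D.g.act _ (inv_mem hy)]
    refine ⟨a + T.tr (T.sg (p y⁻¹) * b), ?_⟩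
    rw [map_zero, mul_zero, mul_zero, add_zero, add_zero]
  have hp' : ∀ z ∈ Qf i, p (h * z * h⁻¹) = p z := by
    intro z hz
    have hgz : g * z * g⁻¹ ∈ Qf i := by
      have := conj_mem_cj (c := g) hz
      rwa [D.M.nor i g hRN] at this
    have e : h * z * h⁻¹ = y⁻¹ * (g * z * g⁻¹) * y := by rw [hh]; group
    rw [e, D.g.p_add _ (mul_mem (inv_mem hy) hgz) _ hy, D.g.p_add _ (inv_mem hy) _ hgz, GEnd.p_inv D.g hy, hp z hz]
    ring
  -- `h v 0 b 0 h⁻¹ = v 0 b 0`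
  have hb : ∀ b, h * v 0 b 0 * h⁻¹ = v 0 b 0 := by
    intro b
    obtain ⟨a, ha⟩ := hE' b
    have h3 : v 0 b 0 ∈ Qf j := D.g.E'_le b 0
    have h4 : h * v 0 b 0 * h⁻¹ ∈ Qf j := by
      have := conj_mem_cj (c := h) h3
      rwa [hjQ] at this
    have h5 : h * v 0 b 0 * h⁻¹ ∈ V := (mem_normalizer_iff.mp hhN _).mp (D.g.v_mem 0 b 0)
    obtain ⟨b', d', h6⟩ := D.V_Q' h5 h4
    rw [ha] at h6
    obtain ⟨h7, -, -⟩ := GEnd.v_eq D.g h6
    rw [ha, h7]
  have hd : ∀ d, h * v 0 0 d * h⁻¹ = v 0 0 d := by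
    intro d
    have h3 : v 0 0 d ∈ Rf j := (D.Rj _).mpr ⟨d, rfl⟩
    have h4 : h * v 0 0 d * h⁻¹ ∈ Rf j := by
      have := conj_mem_cj (c := h) h3
      rwa [hj] at this
    obtain ⟨d', h5⟩ := (D.Rj _).mp h4
    -- `[y, v 0 0 d] ≡ v 0 (p y d) 0`
    obtain ⟨z, hz, hz1⟩ := D.g.p_surj 1
    have h6 := D.g.act z hz 0 0 d
    have hhz : h * z * h⁻¹ ∈ Qf i := by
      have := conj_mem_cj (c := h) hz
      rwa [D.M.nor i h (by
        apply mem_normalizer_of_cj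
        exact cj_eq_of_comm fun r hr => ((mem_centralizer_iff.mp hhR) r hr).symm)] at this
    have h7 := D.g.act _ hhz 0 0 d'
    rw [hp' z hz, ← h5] at h7
    have h8 : h * z * h⁻¹ * (h * v 0 0 d * h⁻¹) * (h * z * h⁻¹)⁻¹ = h * (z * v 0 0 d * z⁻¹) * h⁻¹ := by group
    rw [h8, h6] at h7
    rw [hz1] at h7
    simp only [map_one, mul_zero, map_zero, one_mul, zero_add, add_zero] at h7
    have e1 : ∀ (a : k) (b : F) (d : k), v a b d = v a 0 0 * v 0 b 0 * v 0 0 d := by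
      intro a b d
      simp only [← D.g.v_add, add_zero, zero_add]
    have h9 : h * v (T.nm 1 * d) (algebraMap k F d) d * h⁻¹ =
        v (T.nm 1 * d) 0 0 * v 0 (algebraMap k F d) 0 * v 0 0 d' := by
      rw [e1, ← h5]
      have h10 : h * v (T.nm 1 * d) 0 0 * h⁻¹ = v (T.nm 1 * d) 0 0 := by
        have := (mem_centralizer_iff.mp hhR) _ (D.g.sp.a_mem (T.nm 1 * d))
        change v (T.nm 1 * d) 0 0 * h = h * v (T.nm 1 * d) 0 0 at this
        rw [← this, mul_inv_cancel_right]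
      calc h * (v (T.nm 1 * d) 0 0 * v 0 (algebraMap k F d) 0 * v 0 0 d) * h⁻¹ =
          (h * v (T.nm 1 * d) 0 0 * h⁻¹) * (h * v 0 (algebraMap k F d) 0 * h⁻¹) * (h * v 0 0 d * h⁻¹) := by group
        _ = _ := by rw [h10, hb]
    rw [h9, ← e1] at h7
    obtain ⟨-, h11, -⟩ := GEnd.v_eq D.g h7
    have h12 : d = d' := (algebraMap k F).injective h11
    rw [h5, ← h12]
  rw [GEnd.cent_iff D.g]
  intro a b d
  have e1 : v a b d = v a 0 0 * v 0 b 0 * v 0 0 d := by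
    simp only [← D.g.v_add, add_zero, zero_add]
  have h10 : h * v a 0 0 * h⁻¹ = v a 0 0 := by
    have := (mem_centralizer_iff.mp hhR) _ (D.g.sp.a_mem a)
    change v a 0 0 * h = h * v a 0 0 at this
    rw [← this, mul_inv_cancel_right]
  rw [e1]
  calc h * (v a 0 0 * v 0 b 0 * v 0 0 d) * h⁻¹ =
      (h * v a 0 0 * h⁻¹) * (h * v 0 b 0 * h⁻¹) * (h * v 0 0 d * h⁻¹) := by group
    _ = _ := by rw [h10, hb, hd]

end XD

end Cfsg.Agent.Omega.NO1U

end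

section


/-!
# Node 0 of the parabolic system (closing of NO-1' (β), q ≥ 4)

`B` : a subgroup of `N(R) ∩ N(V)` which contains `X ∩ N(R)` (the stabiliser of a flag of `Q / R` which starts with
`e = (V ∩ Q) / R`), `P₀ = X B`, `U ⊴ B` with `Y ≤ U`, `U ≤ Q C(V)`.

* `Nd.inf` : `P₀ ∩ N(R) = B`; `Nd.card` : `|P₀ : B| = |F| + 1`;
* `Nd.digon`, `Nd.digon'` : the residues `(0, j)`, `j ≥ 2`;
* `Nd.pan`, `Nd.clo` : the fields `pan`, `clo` of `SysL` at node 0.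
-/

set_option autoImplicit false
set_option linter.unusedVariables false
set_option linter.unusedSectionVars false

open Subgroup
open Cfsg.Agent.Omega.NO1.Beta.Meet Cfsg.Agent.Omega.NOne.SU Cfsg.Agent.ParSys Cfsg.Agent.ParSys.RankTwo

namespace Cfsg.Agent.Omega.NO1U

universe u

variable {G : Type u} [Group G] {k F : Type*} [Field k] [Field F] [Algebra k F]
variable {T : Quad k F} {S : Sylow 2 G} {I : Type*} {V : Subgroup G} {Rf Qf : I → Subgroup G} {i j : I}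
  {v : k → F → k → G} {p p' : G → F} {Φ : Type*} [AddCommGroup Φ] [Module F Φ] {φ χ : G → Φ}

/-- any group between `X` and `N(V)` has `|F| + 1` cosets mod the stabiliser of `R` -/
theorem XD.relIndex' (D : XD T S V Rf Qf i j v p p' φ χ) {H : Subgroup G} (hX : Qf i ⊔ Qf j ≤ H)
    (hN : H ≤ normalizer (V : Set G)) : (normalizer (Rf i : Set G)).relIndex H = Nat.card F + 1 := by
  rw [← D.card_I, Subgroup.relIndex, Subgroup.index]
  have h1 : ∀ x : ↥H, ∃ l, cj (x : G) (Rf i) = Rf l := fun x => by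
    obtain ⟨l, h, -⟩ := D.permN (hN x.2) i
    exact ⟨l, h⟩
  choose f hf using h1
  refine Nat.card_congr (Equiv.ofBijective (Quotient.lift f ?_) ⟨?_, ?_⟩)
  · intro a b hab
    have h2 : (a : G)⁻¹ * b ∈ normalizer (Rf i : Set G) := by
      have := (QuotientGroup.leftRel_apply.mp hab)
      rw [mem_subgroupOf] at this
      exact this
    apply D.M.inj
    rw [← hf, ← hf]
    exact D.cj_Rf_eq.mpr h2
  · intro a b
    induction a using QuotientGroup.induction_on with | _ a => ?_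
    induction b using QuotientGroup.induction_on with | _ b => ?_
    intro hab
    change f a = f b at hab
    rw [QuotientGroup.eq, mem_subgroupOf]
    apply D.cj_Rf_eq.mp
    rw [hf, hf, hab]
  · intro l
    obtain ⟨x, hx, h2, -⟩ := D.tranX l
    refine ⟨((⟨x, hX hx⟩ : ↥H) : ↥H ⧸ _), D.M.inj _ _ ?_⟩
    change Rf (f ⟨x, hX hx⟩) = Rf l
    rw [← hf, h2]

/-- The data at node 0. -/
structure Nd (V : Subgroup G) (Rf Qf : I → Subgroup G) (i j : I) (B U : Subgroup G) : Prop where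
  BR : B ≤ normalizer (Rf i : Set G)
  BV : B ≤ normalizer (V : Set G)
  XB : (Qf i ⊔ Qf j) ⊓ normalizer (Rf i : Set G) ≤ B
  UB : U ≤ B
  nor : ∀ b ∈ B, ∀ u ∈ U, b⁻¹ * u * b ∈ U
  YU : YY V Qf i j ≤ U
  UQ : ∀ u ∈ U, ∃ y ∈ Qf i, y⁻¹ * u ∈ centralizer (V : Set G)

namespace Nd

variable {B U : Subgroup G} (D : XD T S V Rf Qf i j v p p' φ χ) (E : Nd V Rf Qf i j B U)
include D E

theorem mem {g : G} : g ∈ (Qf i ⊔ Qf j) ⊔ B ↔ ∃ x ∈ Qf i ⊔ Qf j, ∃ b ∈ B, g = x * b := by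
  constructor
  · intro hg
    rw [Subgroup.sup_eq_closure] at hg
    induction hg using Subgroup.closure_induction_left with
    | one => exact ⟨1, one_mem _, 1, one_mem _, by group⟩
    | mul_left a ha b hb ih =>
      obtain ⟨x, hx, c, hc, rfl⟩ := ih
      rcases ha with ha | ha
      · exact ⟨a * x, mul_mem ha hx, c, hc, by group⟩
      · exact ⟨a * x * a⁻¹, D.N_X (E.BV ha) hx, a * c, mul_mem ha hc, by group⟩
    | inv_mul_cancel a ha b hb ih =>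
      obtain ⟨x, hx, c, hc, rfl⟩ := ih
      rcases ha with ha | ha
      · exact ⟨a⁻¹ * x, mul_mem (inv_mem (S := Subgroup G) ha) hx, c, hc, by group⟩
      · have ha' : a⁻¹ ∈ B := B.inv_mem ha
        exact ⟨a⁻¹ * x * a⁻¹⁻¹, D.N_X (E.BV ha') hx, a⁻¹ * c, mul_mem ha' hc, by group⟩
  · rintro ⟨x, hx, b, hb, rfl⟩
    exact mul_mem (mem_sup_left hx) (mem_sup_right hb)

/-- `P₀ ∩ N(R) = B` -/
theorem inf : ((Qf i ⊔ Qf j) ⊔ B) ⊓ normalizer (Rf i : Set G) = B := by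
  apply le_antisymm
  · intro g hg'
    obtain ⟨hg, hR⟩ := mem_inf.mp hg'
    obtain ⟨x, hx, b, hb, rfl⟩ := (mem D E).mp hg
    have h1 : x ∈ normalizer (Rf i : Set G) := by
      have := mul_mem hR (inv_mem (E.BR hb))
      rwa [mul_inv_cancel_right] at this
    exact mul_mem (E.XB ⟨hx, h1⟩) hb
  · exact le_inf le_sup_right E.BR

/-- `|P₀ : B| = |F| + 1` -/
theorem card : B.relIndex ((Qf i ⊔ Qf j) ⊔ B) = Nat.card F + 1 := by
  have h1 := D.relIndex' (H := (Qf i ⊔ Qf j) ⊔ B) le_sup_left (sup_le (XD.X_le_N D.M) E.BV)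
  have h2 := Subgroup.inf_relIndex_right (normalizer (Rf i : Set G)) ((Qf i ⊔ Qf j) ⊔ B)
  rw [inf_comm, inf D E] at h2
  rw [h2, h1]

section digon

variable {J : Type*} {P : J → Subgroup G} {a b : J}

theorem digon (hP : ∀ c, B ≤ P c) (ha : P a = (Qf i ⊔ Qf j) ⊔ B) (hb : P b ≤ normalizer (V : Set G))
    (hb' : P b ≤ normalizer (Rf i : Set G)) : GPp B P a b 2 := by
  refine gpp_two hP ?_ ?_
  · intro x hx hx'
    rw [ha] at hx
    rw [← inf D E]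
    exact ⟨hx, hb' hx'⟩
  · intro x hx q hq
    rw [ha] at hx
    obtain ⟨y, hy, c, hc, rfl⟩ := (mem D E).mp hx
    refine ⟨c * q, mul_mem (hP b hc) hq, (c * q)⁻¹ * y * (c * q)⁻¹⁻¹, ?_, by group⟩
    rw [ha]
    exact mem_sup_left (D.N_X (inv_mem (mul_mem (E.BV hc) (hb hq))) hy)

theorem digon' (hP : ∀ c, B ≤ P c) (ha : P a = (Qf i ⊔ Qf j) ⊔ B) (hb : P b ≤ normalizer (V : Set G))
    (hb' : P b ≤ normalizer (Rf i : Set G)) : GPp B P b a 2 := by
  refine gpp_two hP ?_ ?_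
  · intro x hx hx'
    rw [ha] at hx'
    rw [← inf D E]
    exact ⟨hx', hb' hx⟩
  · intro q hq x hx
    rw [ha] at hx
    obtain ⟨y, hy, c, hc, rfl⟩ := (mem D E).mp hx
    refine ⟨q * y * q⁻¹, ?_, q * c, mul_mem hq (hP b hc), by group⟩
    rw [ha]
    exact mem_sup_left (D.N_X (hb hq) hy)

end digon

/-- an element of `U` which fixes a second point of `V` is trivial on `V` -/
theorem cent {g x : G} (hg : g ∈ U) (hx : x ∈ normalizer (V : Set G)) (hxR : x ∉ normalizer (Rf i : Set G))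
    (h : x⁻¹ * g * x ∈ normalizer (Rf i : Set G)) : g ∈ centralizer (V : Set G) := by
  obtain ⟨y, hy, hc⟩ := E.UQ g hg
  obtain ⟨l, hl, -⟩ := D.permN hx i
  have hli : l ≠ i := by
    rintro rfl
    exact hxR (mem_normalizer_of_cj hl)
  have h1 : cj g (Rf l) = Rf l := by
    rw [← hl]
    have h2 := cj_of_mem_normalizer h
    calc cj g (cj x (Rf i)) = cj x (cj (x⁻¹ * g * x) (Rf i)) := by
          rw [← cj_mul, ← cj_mul]
          congr 1; group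
      _ = cj x (Rf i) := by rw [h2]
  have h3 : cj (y⁻¹ * g) (Rf l) = Rf l :=
    cj_eq_of_comm fun r hr => ((mem_centralizer_iff.mp hc) r (D.M.R_le l hr)).symm
  have h4 : cj y (Rf l) = Rf l := by
    calc cj y (Rf l) = cj y (cj (y⁻¹ * g) (Rf l)) := by rw [h3]
      _ = cj g (Rf l) := by rw [← cj_mul]; congr 1; group
      _ = Rf l := h1
  have h5 := D.M.fixj i l hli.symm y hy h4
  have h6 := mul_mem h5 hc
  rwa [mul_inv_cancel_left] at h6

theorem conj_U {g x : G} (hg : g ∈ U) (hC : g ∈ centralizer (V : Set G)) (hx : x ∈ Qf i ⊔ Qf j) :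
    x⁻¹ * g * x ∈ U := by
  have h1 := D.comm (inv_mem hx) hC
  have e : x⁻¹ * g * x = (x⁻¹ * g * x⁻¹⁻¹ * g⁻¹) * g := by group
  rw [e]
  exact mul_mem (E.YU h1) hg

theorem conj_U' {g x : G} (hg : g ∈ U) (hC : g ∈ centralizer (V : Set G)) (hx : x ∈ (Qf i ⊔ Qf j) ⊔ B) :
    x⁻¹ * g * x ∈ U := by
  obtain ⟨y, hy, b, hb, rfl⟩ := (mem D E).mp hx
  have h1 := conj_U D E hg hC hy
  have e : (y * b)⁻¹ * g * (y * b) = b⁻¹ * (y⁻¹ * g * y) * b := by group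
  rw [e]
  exact E.nor b hb _ h1

theorem P0_le : (Qf i ⊔ Qf j) ⊔ B ≤ normalizer (V : Set G) := sup_le (XD.X_le_N D.M) E.BV

theorem notin {x : G} (hx : x ∈ (Qf i ⊔ Qf j) ⊔ B) (hxB : x ∉ B) : x ∉ normalizer (Rf i : Set G) := by
  intro h
  apply hxB
  rw [← inf D E]
  exact ⟨hx, h⟩

theorem pan : ∀ g ∈ U, ∀ x ∈ (Qf i ⊔ Qf j) ⊔ B, x ∉ B → x⁻¹ * g * x ∈ B →
    ∀ y ∈ (Qf i ⊔ Qf j) ⊔ B, y⁻¹ * g * y ∈ B := by
  intro g hg x hx hxB h y hy
  exact E.UB (conj_U' D E hg (cent D E hg (P0_le D E hx) (notin D E hx hxB) (E.BR h)) hy)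

theorem clo : ∀ g ∈ U, ∀ x ∈ (Qf i ⊔ Qf j) ⊔ B, x⁻¹ * g * x ∈ B → x⁻¹ * g * x ∈ U := by
  intro g hg x hx h
  by_cases hxB : x ∈ B
  · exact E.nor x hxB g hg
  · exact conj_U' D E hg (cent D E hg (P0_le D E hx) (notin D E hx hxB) (E.BR h)) hx

/-- generation -/
theorem gen {C : Subgroup G} (hMC : normalizer (V : Set G) ⊔ normalizer (Rf i : Set G) = ⊤)
    (hC : normalizer (Rf i : Set G) ≤ C) (h0 : (Qf i ⊔ Qf j) ⊔ B ≤ C) : C = ⊤ := by
  rw [eq_top_iff, ← hMC]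
  refine sup_le ?_ hC
  intro m hm
  obtain ⟨x, hx, c, -, hc, rfl⟩ := D.NX hm
  exact mul_mem (h0 (mem_sup_left hx)) (hC hc)

end Nd

end Cfsg.Agent.Omega.NO1U

end

end

-- merged: Cfsg.Agent.Mrg.Omega.NO1U.PlaneLineB
section

/-!
# NO-1' (β), q ≥ 4: the totally isotropic lines of `Q / R` through `e₀` (fields `cov`, `disj`, `Ytr` of `Line`)
-/

set_option autoImplicit false
set_option linter.unusedSectionVars false
set_option linter.unusedVariables false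

open Subgroup
open Cfsg.Agent.Omega.NOne.SU

namespace Cfsg.Agent.Omega.NO1U

variable {G : Type*} [Group G] {k F : Type*} [Field k] [Field F] [Algebra k F] {T : Quad k F}
  {S : Sylow 2 G} {V R Q Q' : Subgroup G} {v : k → F → k → G} {p p' : G → F}
  {Φ : Type*} [AddCommGroup Φ] [Module F Φ] {φ χ : G → Φ} {hm : Φ → Φ → F}
  {W : Type*} [AddCommGroup W] [Module F W] {w : G → W} {g : W → W → F} {f₀ : W} {ι : Φ →ₗ[F] W}

/-- `Y = C_Q(V) C_{Q'}(V) V` -/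
def Yg (V Q Q' : Subgroup G) : Subgroup G :=
  (Q ⊓ centralizer (V : Set G)) ⊔ (Q' ⊓ centralizer (V : Set G)) ⊔ V

namespace OutL

variable (h : GIn T S V R Q Q' v p p') (o : Out T V R Q Q' v p φ χ hm w g f₀ ι)
include h o

theorem Yg_Q {y : G} (hy : y ∈ Q) (hc : y ∈ centralizer (V : Set G)) : y ∈ Yg V Q Q' :=
  mem_sup_left (mem_sup_left (mem_inf.2 ⟨hy, hc⟩))

theorem Yg_Q' {y : G} (hy : y ∈ Q') (hc : y ∈ centralizer (V : Set G)) : y ∈ Yg V Q Q' :=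
  mem_sup_left (mem_sup_right (mem_inf.2 ⟨hy, hc⟩))

theorem Yg_V {y : G} (hy : y ∈ V) : y ∈ Yg V Q Q' := mem_sup_right hy

theorem Yg_le : Yg V Q Q' ≤ centralizer (V : Set G) :=
  sup_le (sup_le inf_le_right inf_le_right) h.V_le_CV

/-- an element `m ∉ F e₀` of `e₀^⊥` is not orthogonal to an element of `e₀^⊥` -/
theorem exists_m {m : W} (hm0 : g m (w (v 0 1 0)) = 0) (hne : ∀ s : F, m ≠ s • w (v 0 1 0)) (t : F) :
    ∃ u, g u (w (v 0 1 0)) = 0 ∧ g u m = t := by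
  obtain ⟨a, x, b, rfl⟩ := o.span m
  have hb : b = 0 := by
    have h1 := hm0
    rw [o.g_add, o.g_add, o.g_smul, o.g_smul, o.g_ee, o.g_sym (w (v 0 1 0)) (ι x), o.g_eι, map_zero, mul_zero,
      zero_add, zero_add, o.g_sym (w (v 0 1 0)) f₀, o.g_ef, map_one, mul_one] at h1
    exact h1
  subst hb
  have hx : x ≠ 0 := by
    rintro rfl
    apply hne a
    rw [map_zero, add_zero, zero_smul, add_zero]
  obtain ⟨u, hu⟩ : ∃ u, hm x u ≠ 0 := by
    by_contra hcon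
    push Not at hcon
    exact hx (o.hm_nondeg x hcon)
  have h2 : g (ι u) (a • w (v 0 1 0) + ι x + (0 : F) • f₀) ≠ 0 := by
    rw [zero_smul, add_zero, g_add' h o, g_smul' h o, o.g_sym (w (v 0 1 0)) (ι u), o.g_eι, map_zero, mul_zero,
      zero_add, o.g_sym (ι x) (ι u), o.g_ιι]
    exact T.sg_ne' hu
  refine ⟨(t * (g (ι u) (a • w (v 0 1 0) + ι x + (0 : F) • f₀))⁻¹) • ι u, ?_, ?_⟩
  · rw [o.g_smul, o.g_sym (w (v 0 1 0)) (ι u), o.g_eι, map_zero, mul_zero]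
  · rw [o.g_smul, inv_mul_cancel_right₀ h2]

section iso

variable {L : Submodule F W} (hL : w (v 0 1 0) ∈ L) (hiso : ∀ x ∈ L, ∀ y ∈ L, g x y = 0)
include hL hiso

/-- the point `h e₀` of `L` -/
theorem pointL {c : G} (hc : c ∈ Lam R v w L) (hN : c ∉ normalizer (V : Set G)) :
    ∃ m ∈ L, (∀ s : F, m ≠ s • w (v 0 1 0)) ∧ (∀ b, ∃ s : F, w (c * v 0 b 0 * c⁻¹) = s • m) ∧
      ∀ s : F, ∃ b, w (c * v 0 b 0 * c⁻¹) = s • m := by
  obtain ⟨m, hm0, h1, h2⟩ := point h o hc.1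
  obtain ⟨b, hb⟩ := h2 1
  rw [one_smul] at hb
  refine ⟨m, by rw [← hb]; exact hc.2 b, fun s hs => hN ?_, h1, h2⟩
  apply mem_N h o hc.1 (b := b) (s := s)
  · rintro rfl
    rw [h.v_zero] at hb
    have e : c * 1 * c⁻¹ = 1 := by group
    rw [e, w_one h o] at hb
    exact hm0 hb.symm
  · rw [hb, hs]

/-- `Q = C_Q(V) C_Q(h V h⁻¹)` -/
theorem cov {c u : G} (hc : c ∈ Lam R v w L) (hN : c ∉ normalizer (V : Set G)) (hu : u ∈ Q) :
    ∃ y ∈ Yg V Q Q', c⁻¹ * (y⁻¹ * u) * c ∈ centralizer (V : Set G) := by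
  obtain ⟨m, hmL, hne, h1, h2⟩ := pointL h o hL hiso hc hN
  obtain ⟨m', hm', hmm⟩ := exists_m h o (hiso m hmL _ hL) hne (g (w u) m)
  obtain ⟨y, hy, rfl⟩ := o.w_surj m'
  refine ⟨y, Yg_Q h o hy ((mem_CV_iff h o hy).2 hm'), ?_⟩
  have hyu : y⁻¹ * u ∈ Q := mul_mem (inv_mem hy) hu
  apply mem_CV_of_commute h o (h.nor_inv hc.1 hyu)
  intro b
  have h3 : y⁻¹ * u * (c * v 0 b 0 * c⁻¹) = c * v 0 b 0 * c⁻¹ * (y⁻¹ * u) := by
    apply commute_of h o hyu (h.nor c hc.1 _ (h.E_le 0 b))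
    obtain ⟨s, hs⟩ := h1 b
    rw [hs, g_smul' h o, o.w_mul _ (inv_mem hy) _ hu, w_inv h o hy, o.g_add, g_neg h o, hmm, neg_add_cancel,
      mul_zero]
  calc c⁻¹ * (y⁻¹ * u) * c * v 0 b 0 = c⁻¹ * (y⁻¹ * u * (c * v 0 b 0 * c⁻¹)) * c := by group
    _ = c⁻¹ * (c * v 0 b 0 * c⁻¹ * (y⁻¹ * u)) * c := by rw [h3]
    _ = v 0 b 0 * (c⁻¹ * (y⁻¹ * u) * c) := by group

/-- `Y` acts trivially on `e₀^⊥ / e₀` -/
theorem Y_triv {u : G} (hu : u ∈ Yg V Q Q') : ∀ y ∈ Q, y ∈ centralizer (V : Set G) →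
    ∃ s : F, w (u * y * u⁻¹) = w y + s • w (v 0 1 0) := by
  let H : Subgroup G :=
    { carrier := {u | u ∈ centralizer (V : Set G) ∧ ∀ y ∈ Q, y ∈ centralizer (V : Set G) →
        ∃ s : F, w (u * y * u⁻¹) = w y + s • w (v 0 1 0)}
      one_mem' := ⟨one_mem _, fun y _ _ => ⟨0, by
        have e : 1 * y * 1⁻¹ = y := by group
        rw [e, zero_smul, add_zero]⟩⟩
      mul_mem' := by
        rintro a b ⟨ha, ha'⟩ ⟨hb, hb'⟩
        refine ⟨mul_mem ha hb, fun y hy hyV => ?_⟩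
        obtain ⟨s, hs⟩ := hb' y hy hyV
        have hQ : b * y * b⁻¹ ∈ Q := h.nor b (h.CR_le_NR (h.CV_le_CR hb)) y hy
        have hC : b * y * b⁻¹ ∈ centralizer (V : Set G) := mul_mem (mul_mem hb hyV) (inv_mem hb)
        obtain ⟨s', hs'⟩ := ha' _ hQ hC
        refine ⟨s + s', ?_⟩
        have e : a * b * y * (a * b)⁻¹ = a * (b * y * b⁻¹) * a⁻¹ := by group
        rw [e, hs', hs, add_smul, add_assoc]
      inv_mem' := by
        rintro a ⟨ha, ha'⟩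
        refine ⟨inv_mem ha, fun y hy hyV => ?_⟩
        have hQ : a⁻¹ * y * a⁻¹⁻¹ ∈ Q := h.nor a⁻¹ (inv_mem (h.CR_le_NR (h.CV_le_CR ha))) y hy
        have hC : a⁻¹ * y * a⁻¹⁻¹ ∈ centralizer (V : Set G) := mul_mem (mul_mem (inv_mem ha) hyV) (inv_mem (inv_mem ha))
        obtain ⟨s, hs⟩ := ha' _ hQ hC
        have e : a * (a⁻¹ * y * a⁻¹⁻¹) * a⁻¹ = y := by group
        rw [e] at hs
        refine ⟨-s, ?_⟩
        rw [hs, neg_smul, add_neg_cancel_right] }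
  have hle : Yg V Q Q' ≤ H := by
    refine sup_le (sup_le ?_ ?_) ?_
    · rintro a ⟨ha, ha'⟩
      refine ⟨ha', fun y hy hyV => ⟨0, ?_⟩⟩
      have h1 : a * y * a⁻¹ = a * y * a⁻¹ * y⁻¹ * y := by group
      rw [h1, o.w_mul _ (mul_mem (mul_mem (mul_mem ha hy) (inv_mem ha)) (inv_mem hy)) _ hy,
        w_R h o (h.sp.comm a ha y hy), zero_add, zero_smul, add_zero]
    · rintro a ⟨ha, ha'⟩
      refine ⟨ha', fun y hy hyV => ?_⟩
      obtain ⟨r, -, h1⟩ := o.χ_act a ha ha'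
      have h2 := (mem_CV_iff h o hy).1 hyV
      have h3 := h1 y hy
      rw [h2, zero_smul, add_zero, mul_zero, add_zero] at h3
      exact ⟨_, h3⟩
    · intro a ha
      refine ⟨h.V_le_CV ha, fun y hy hyV => ⟨0, ?_⟩⟩
      have h1 := (mem_centralizer_iff.1 hyV) a ha
      have h2 : a * y * a⁻¹ = y := by rw [h1]; group
      rw [h2, zero_smul, add_zero]
  exact (hle hu).2

/-- a point `≠ R` of `h V h⁻¹` meets `Y` trivially -/
theorem disj {c : G} (hc : c ∈ Lam R v w L) (hN : c ∉ normalizer (V : Set G)) {d : k}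
    (hd : c * v 0 0 d * c⁻¹ ∈ Yg V Q Q') : d = 0 := by
  obtain ⟨m, hmL, hne, h1, h2⟩ := pointL h o hL hiso hc hN
  obtain ⟨m', hm', hmm⟩ := exists_m h o (hiso m hmL _ hL) hne 1
  obtain ⟨y, hy, rfl⟩ := o.w_surj m'
  obtain ⟨s, hs⟩ := Y_triv h o hL hiso hd y hy ((mem_CV_iff h o hy).2 hm')
  -- `z = c⁻¹ y c`
  have hz : c⁻¹ * y * c ∈ Q := h.nor_inv hc.1 hy
  obtain ⟨a', h3⟩ := h.comm_V 0 0 d hz
  have hpz : p (c⁻¹ * y * c) ≠ 0 := by
    intro h0
    obtain ⟨b, hb⟩ := h2 1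
    have h4 := (h.p_eq_zero hz).1 h0
    have h5 : ∀ b, y * (c * v 0 b 0 * c⁻¹) = c * v 0 b 0 * c⁻¹ * y := by
      intro b
      have h6 := (mem_centralizer_iff.1 h4) (v 0 b 0) (h.v_mem _ _ _)
      calc y * (c * v 0 b 0 * c⁻¹) = c * ((c⁻¹ * y * c) * v 0 b 0) * c⁻¹ := by group
        _ = c * (v 0 b 0 * (c⁻¹ * y * c)) * c⁻¹ := by rw [h6]
        _ = c * v 0 b 0 * c⁻¹ * y := by group
    have h7 : ∀ s : F, T.tr (s * 1) = 0 := by
      intro s
      obtain ⟨b, hb⟩ := h2 (T.sg s)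
      have h8 := tr_of_commute h o hy (h.nor c hc.1 _ (h.E_le 0 b)) (h5 b)
      rw [hb, g_smul' h o, T.sg_sg, hmm] at h8
      exact h8
    exact one_ne_zero (T.eq_zero_of_tr h.h2 (fun b => by rw [mul_comm]; exact h7 b))
  have h4 : c * v 0 0 d * c⁻¹ * y * (c * v 0 0 d * c⁻¹)⁻¹ =
      (c * v a' (p (c⁻¹ * y * c) * algebraMap k F d) 0 * c⁻¹) * y := by
    rw [← h3]; group
  rw [h4, o.w_mul _ (h.nor c hc.1 _ (h.E_le _ _)) _ hy, w_conj_E h o hc.1, add_comm, add_left_cancel_iff] at hs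
  obtain ⟨t, ht⟩ := h1 (p (c⁻¹ * y * c) * algebraMap k F d)
  by_contra hd0
  have hb0 : p (c⁻¹ * y * c) * algebraMap k F d ≠ 0 := mul_ne_zero hpz ((map_ne_zero _).2 hd0)
  exact hN (mem_N h o hc.1 hb0 hs)

end iso

/-- `Y` is transitive on the points `≠ F e₀` of a totally isotropic line `⟨e₀, m⟩` -/
theorem Ytr (f : Fld T V R Q Q' v p φ χ) {m : W} (hme : g m (w (v 0 1 0)) = 0) (hmm : g m m = 0)
    {c c' : G} (hc : c ∈ Lam R v w (Submodule.span F {w (v 0 1 0), m})) (hN : c ∉ normalizer (V : Set G))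
    (hc' : c' ∈ Lam R v w (Submodule.span F {w (v 0 1 0), m})) (hN' : c' ∉ normalizer (V : Set G)) :
    ∃ y ∈ Yg V Q Q', c⁻¹ * (y * c') ∈ normalizer (V : Set G) := by
  have hL : w (v 0 1 0) ∈ Submodule.span F {w (v 0 1 0), m} := Submodule.subset_span (by simp)
  have hem : g (w (v 0 1 0)) m = 0 := g_swap h o hme
  have hiso : ∀ x ∈ Submodule.span F {w (v 0 1 0), m}, ∀ y ∈ Submodule.span F {w (v 0 1 0), m}, g x y = 0 := by
    intro x hx y hy
    obtain ⟨a, b, rfl⟩ := Submodule.mem_span_pair.1 hx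
    obtain ⟨a', b', rfl⟩ := Submodule.mem_span_pair.1 hy
    rw [o.g_add, g_add' h o, g_add' h o, g_smul' h o, g_smul' h o, g_smul' h o, g_smul' h o, o.g_smul, o.g_smul,
      o.g_smul, o.g_smul, o.g_ee, hme, hmm, hem]
    ring
  obtain ⟨n, hnL, hne, h1, h2⟩ := pointL h o hL hiso hc hN
  obtain ⟨n', hnL', hne', h1', h2'⟩ := pointL h o hL hiso hc' hN'
  obtain ⟨a, b, rfl⟩ := Submodule.mem_span_pair.1 hnL
  obtain ⟨a', b', rfl⟩ := Submodule.mem_span_pair.1 hnL'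
  have hb : b ≠ 0 := by
    rintro rfl
    exact hne a (by rw [zero_smul, add_zero])
  have hb' : b' ≠ 0 := by
    rintro rfl
    exact hne' a' (by rw [zero_smul, add_zero])
  -- the element of `C_{Q'}(V)`
  obtain ⟨a₁, x, b₁, hmx⟩ := o.span (a' • w (v 0 1 0) + b' • m)
  have hge : g (a' • w (v 0 1 0) + b' • m) (w (v 0 1 0)) = 0 := by
    rw [o.g_add, o.g_smul, o.g_smul, o.g_ee, hme]; ring
  have hb₁ : b₁ = 0 := by
    have h3 := hge
    rw [hmx, o.g_add, o.g_add, o.g_smul, o.g_smul, o.g_ee, o.g_sym (w (v 0 1 0)) (ι x), o.g_eι, map_zero,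
      mul_zero, zero_add, zero_add, o.g_sym (w (v 0 1 0)) f₀, o.g_ef, map_one, mul_one] at h3
    exact h3
  subst hb₁
  rw [zero_smul, add_zero] at hmx
  have hx : x ≠ 0 := by
    rintro rfl
    apply hne' a₁
    rw [hmx, map_zero, add_zero]
  obtain ⟨u, hu⟩ : ∃ u, hm x u ≠ 0 := by
    by_contra hcon
    push Not at hcon
    exact hx (o.hm_nondeg x hcon)
  have hgι : ∀ s : F, g (a' • w (v 0 1 0) + b' • m) (ι (s • u)) = T.sg s * hm x u := by
    intro s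
    rw [hmx, o.g_add, o.g_smul, o.g_eι, mul_zero, zero_add, map_smul, g_smul' h o, o.g_ιι]
  set t : F := b' * b⁻¹ * a - a' with ht
  obtain ⟨y, hy, hyV, hyχ⟩ := f.χ_surj ((T.sg (t * (hm x u)⁻¹)) • u)
  refine ⟨y, Yg_Q' h o hy hyV, ?_⟩
  have hyR : y ∈ normalizer (R : Set G) := h.CR_le_NR (h.CV_le_CR hyV)
  have hcR : c⁻¹ * (y * c') ∈ normalizer (R : Set G) := mul_mem (inv_mem hc.1) (mul_mem hyR hc'.1)
  obtain ⟨b₂, hb₂⟩ := h2' 1
  rw [one_smul] at hb₂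
  have hb₂0 : b₂ ≠ 0 := by
    rintro rfl
    rw [h.v_zero] at hb₂
    have e : c' * 1 * c'⁻¹ = 1 := by group
    rw [e, w_one h o] at hb₂
    exact hne' 0 (by rw [zero_smul, hb₂])
  -- `y c' v(0,b₂,0) (y c')⁻¹`
  obtain ⟨r, -, hact⟩ := o.χ_act y hy hyV
  have h3 : w (y * (c' * v 0 b₂ 0 * c'⁻¹) * y⁻¹) = (b' * b⁻¹) • (a • w (v 0 1 0) + b • m) := by
    rw [hact _ (h.nor c' hc'.1 _ (h.E_le 0 b₂)), hb₂, hge, zero_smul, add_zero, mul_zero, add_zero, hyχ, hgι,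
      T.sg_sg, inv_mul_cancel_right₀ hu, ht]
    rw [smul_add, smul_smul, smul_smul, inv_mul_cancel_right₀ hb, sub_smul]
    abel
  obtain ⟨b₃, hb₃⟩ := h2 (b' * b⁻¹)
  rw [← hb₃] at h3
  have h4 := w_conj_congr h o (inv_mem hc.1) (h.nor y hyR _ (h.nor c' hc'.1 _ (h.E_le 0 b₂)))
    (h.nor c hc.1 _ (h.E_le 0 b₃)) h3
  apply mem_N h o hcR (b := b₂) (s := b₃) hb₂0
  have e1 : c⁻¹ * (y * c') * v 0 b₂ 0 * (c⁻¹ * (y * c'))⁻¹ = c⁻¹ * (y * (c' * v 0 b₂ 0 * c'⁻¹) * y⁻¹) * c⁻¹⁻¹ := by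
    group
  have e2 : c⁻¹ * (c * v 0 b₃ 0 * c⁻¹) * c⁻¹⁻¹ = v 0 b₃ 0 := by group
  rw [e1, h4, e2, o.w_e]

end OutL

end Cfsg.Agent.Omega.NO1U

end

-- merged: Cfsg.Agent.Mrg.Omega.NO1U.PlaneBase
section

section


/-!
# NO-1' (β), closing, residue `{0, 1}`: the instance of `Base`

`CX_le_Y` : `C_X(V) ≤ Y`.  `exists_base` : the torus `T` (cyclic of odd order, `C_Y(T) = 1`) and `n` (swaps `R`, `R'`
and normalises `T`).
-/

set_option autoImplicit false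
set_option linter.unusedVariables false
set_option linter.unusedSectionVars false

open Subgroup
open scoped Pointwise
open Cfsg.Agent.Omega.NO1.Beta.Meet Cfsg.Agent.Omega.NOne.SU

namespace Cfsg.Agent.Omega.NO1U

universe u

variable {G : Type u} [Group G] {k F : Type*} [Field k] [Field F] [Algebra k F] {T : Quad k F} {S : Sylow 2 G}
  {I : Type*} {V : Subgroup G} {Rf Qf : I → Subgroup G} {i j : I} {v : k → F → k → G} {p p' : G → F}
  {Φ : Type*} [AddCommGroup Φ] [Module F Φ] {φ χ : G → Φ}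

theorem Yg_eq (M : Mt V Rf Qf) (hne : i ≠ j) : Yg V (Qf i) (Qf j) = YY V Qf i j := by
  apply le_antisymm
  · refine sup_le (sup_le le_sup_left le_sup_right) ?_
    refine (M.VE i j hne).trans (sup_le ?_ ?_)
    · exact (le_inf inf_le_right (inf_le_left.trans M.V_le_C)).trans le_sup_left
    · exact (le_inf (M.R_Q j) ((M.R_le j).trans M.V_le_C)).trans le_sup_right
  · exact le_sup_left

namespace XD

variable (D : XD T S V Rf Qf i j v p p' φ χ)
include D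

/-- **`C_X(V) ≤ Y`** -/
theorem CX_le_Y {hm : Φ → Φ → F} {W : Type*} [AddCommGroup W] [Module F W]
    {w : G → W} {g : W → W → F} {f₀ : W} {ι : Φ →ₗ[F] W} (o : Out T V (Rf i) (Qf i) (Qf j) v p φ χ hm w g f₀ ι)
    {x : G} (hx : x ∈ Qf i ⊔ Qf j) (hxV : x ∈ centralizer (V : Set G)) : x ∈ YY V Qf i j := by
  have hxCR := D.g.CV_le_CR hxV
  have hxR := D.g.CR_le_NR hxCR
  obtain ⟨n, hn, hnV, d, y, hy, rfl⟩ := o.rad x hxCR (by
      intro b
      have h1 := (mem_centralizer_iff.1 hxV) (v 0 b 0) (D.g.v_mem _ _ _)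
      congr 1
      rw [← h1]; group) (by
      intro y hy h0
      have hyV : y ∈ centralizer (V : Set G) := by
        rw [← D.g.p_eq_zero hy, o.p_eq y hy, h0]
      have h2 : x * y * x⁻¹ ∈ Qf i := D.g.nor x hxR y hy
      have h3 : x * y * x⁻¹ ∈ centralizer (V : Set G) := mul_mem (mul_mem hxV hyV) (inv_mem hxV)
      have h1 : φ (x * y * x⁻¹) = φ y :=
        (D.rep_uniq (D.rep_left (mem_inf.2 ⟨h2, h3⟩)) (D.triv hx hxV (D.rep_left (mem_inf.2 ⟨hy, hyV⟩)))).1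
      obtain ⟨a, ha⟩ := o.φ_eq y hy hyV
      obtain ⟨a', ha'⟩ := o.φ_eq _ h2 h3
      refine ⟨a' - a, ?_⟩
      rw [ha', ha, h1, o.w_e (a' - a), sub_smul]
      abel) (by
      intro y hy
      have h2 : x * y * x⁻¹ ∈ Qf i := D.g.nor x hxR y hy
      rw [← o.p_eq _ h2, ← o.p_eq y hy]
      -- same action on `V`
      have e1 := D.g.act _ h2 0 0 1
      have e2 := D.g.act y hy 0 0 1
      have e3 : x * y * x⁻¹ * v 0 0 1 * (x * y * x⁻¹)⁻¹ = y * v 0 0 1 * y⁻¹ := by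
        have h6 : x⁻¹ * v 0 0 1 * x = v 0 0 1 := by
          have := (mem_centralizer_iff.1 hxV) (v 0 0 1) (D.g.v_mem _ _ _)
          rw [mul_assoc, this]; group
        have h7 : y * v 0 0 1 * y⁻¹ ∈ V := (mem_normalizer_iff.1 (D.M.Q_V i hy) _).1 (D.g.v_mem _ _ _)
        have h8 := (mem_centralizer_iff.1 hxV) _ h7
        calc x * y * x⁻¹ * v 0 0 1 * (x * y * x⁻¹)⁻¹ = x * (y * (x⁻¹ * v 0 0 1 * x) * y⁻¹) * x⁻¹ := by group
          _ = x * (y * v 0 0 1 * y⁻¹) * x⁻¹ := by rw [h6]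
          _ = (y * v 0 0 1 * y⁻¹) * x * x⁻¹ := by rw [← h8]
          _ = y * v 0 0 1 * y⁻¹ := by group
      rw [e1, e2] at e3
      have := (GEnd.v_eq D.g e3).2.1
      simpa using this)
  -- `y ∈ C(V)`
  have hd : v 0 0 d ∈ centralizer (V : Set G) := D.VC (D.g.v_mem _ _ _)
  have hyV : y ∈ centralizer (V : Set G) := by
    have e : y = (v 0 0 d)⁻¹ * (n⁻¹ * (n * v 0 0 d * y)) := by group
    rw [e]
    exact mul_mem (inv_mem hd) (mul_mem (inv_mem hnV) hxV)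
  refine mul_mem (mul_mem (mem_sup_right (mem_inf.2 ⟨hn, hnV⟩)) ?_) (mem_sup_left (mem_inf.2 ⟨hy, hyV⟩))
  exact D.V_le_Y (D.g.v_mem _ _ _)

/-- `Y` is a 2-group -/
theorem Y_two : IsPGroup 2 (YY V Qf i j) := by
  rintro ⟨y, hy⟩
  refine ⟨2, Subtype.ext ?_⟩
  obtain ⟨u, w, h⟩ := D.rep_Y.1 hy
  have h1 := D.rep_mul h h
  rw [D.addΦ, D.addΦ] at h1
  have h2 := D.two_inv (D.rep_zero h1)
  change y ^ (2 ^ 2) = 1
  have e : y ^ (2 ^ 2) = y * y * (y * y) := by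
    rw [show (2 : ℕ) ^ 2 = 2 + 2 by norm_num, pow_add, pow_two]
  rw [e, h2]

end XD

/-- `t` acts on `Y / V` and on `V` with the weights of `z` -/
structure Tw (T : Quad k F) (V : Subgroup G) (Qf : I → Subgroup G) (i j : I) (v : k → F → k → G) (φ χ : G → Φ)
    (t : G) (z : F) : Prop where
  X : t ∈ Qf i ⊔ Qf j
  rep : ∀ m u w, Rep V Qf i j φ χ m u w → Rep V Qf i j φ χ (t * m * t⁻¹) (z • u) (z⁻¹ • w)
  act : ∀ a b d, t * v a b d * t⁻¹ = v (T.nm z * a) (z * (T.sg z)⁻¹ * b) ((T.nm z)⁻¹ * d)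

namespace Tw

theorem nm_mul (T : Quad k F) (z z' : F) : T.nm (z * z') = T.nm z * T.nm z' := by
  apply (algebraMap k F).injective
  rw [map_mul, T.nm_eq, T.nm_eq, T.nm_eq, map_mul]
  ring

theorem mul {t t' : G} {z z' : F} (h : Tw T V Qf i j v φ χ t z) (h' : Tw T V Qf i j v φ χ t' z') :
    Tw T V Qf i j v φ χ (t * t') (z * z') := by
  refine ⟨mul_mem h.X h'.X, ?_, ?_⟩
  · intro m u w hr
    have h1 := h.rep _ _ _ (h'.rep _ _ _ hr)
    have e : t * t' * m * (t * t')⁻¹ = t * (t' * m * t'⁻¹) * t⁻¹ := by group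
    rw [e, mul_smul, mul_inv, mul_smul]
    exact h1
  · intro a b d
    have e : t * t' * v a b d * (t * t')⁻¹ = t * (t' * v a b d * t'⁻¹) * t⁻¹ := by group
    rw [e, h'.act, h.act, nm_mul, map_mul, mul_inv, mul_inv]
    congr 1 <;> ring

theorem pow {t : G} {z : F} (h : Tw T V Qf i j v φ χ t z) (N : ℕ) :
    Tw T V Qf i j v φ χ (t ^ (2 ^ N)) (z ^ (2 ^ N)) := by
  induction N with
  | zero => simpa using h
  | succ N ih =>
    have h1 := ih.mul ih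
    rwa [← pow_add, ← pow_add, ← two_mul, ← pow_succ'] at h1

end Tw

/-- a field element with `z ≠ 0`, `σ z ≠ z`, `N z ≠ 1` -/
theorem exists_z (T : Quad k F) (h2 : (2 : F) = 0) : ∃ z : F, z ≠ 0 ∧ T.sg z ≠ z ∧ T.nm z ≠ 1 := by
  have hF := GEnd.finF T
  have hk : Finite k := Finite.of_injective _ (algebraMap k F).injective
  have h1 : ∃ u : F, T.sg u ≠ u := by
    by_contra hcon
    push Not at hcon
    have hs : Function.Surjective (algebraMap k F) := fun x => T.fix x (hcon x)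
    have hb : Function.Bijective (algebraMap k F) := ⟨(algebraMap k F).injective, hs⟩
    have h3 := Nat.card_congr (Equiv.ofBijective _ hb)
    have h4 := T.card
    have h5 := T.four
    rw [← h3] at h4
    nlinarith
  obtain ⟨u, hu⟩ := h1
  have hu0 : u ≠ 0 := by
    rintro rfl; exact hu (map_zero _)
  obtain ⟨a, ha0, ha1⟩ : ∃ a : k, a ≠ 0 ∧ a ≠ 1 := by
    classical
    by_contra hcon
    push Not at hcon
    have h3 : ∀ a : k, a ∈ ({0, 1} : Finset k) := by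
      intro a
      by_cases h0 : a = 0
      · simp [h0]
      · simp [hcon a h0]
    have hft := Fintype.ofFinite k
    have h4 : Nat.card k ≤ 2 := by
      rw [Nat.card_eq_fintype_card, ← Finset.card_univ]
      exact (Finset.card_le_card (fun a _ => h3 a)).trans Finset.card_le_two
    have := T.four
    omega
  by_cases hn : T.nm u = 1
  · refine ⟨algebraMap k F a * u, mul_ne_zero (by simpa using ha0) hu0, ?_, ?_⟩
    · rw [map_mul, AlgEquiv.commutes]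
      intro h
      exact hu (mul_left_cancel₀ (by simpa using ha0) h)
    · rw [Tw.nm_mul, hn, mul_one]
      intro h
      have h3 := congrArg (algebraMap k F) h
      rw [T.nm_eq, AlgEquiv.commutes, map_one, ← map_mul, ← map_one (algebraMap k F)] at h3
      have h4 : a * a = 1 := (algebraMap k F).injective h3
      have hk2 : (2 : k) = 0 := by
        apply (algebraMap k F).injective
        rw [map_ofNat, h2, map_zero]
      have h5 : (a - 1) * (a - 1) = 0 := by linear_combination h4 - (a - 1) * hk2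
      exact ha1 (sub_eq_zero.1 (mul_self_eq_zero.1 h5))
  · exact ⟨u, hu0, hu, hn⟩

theorem sg_pow (T : Quad k F) (z : F) (N : ℕ) : T.sg (z ^ N) = T.sg z ^ N := map_pow _ _ _

theorem nm_pow (T : Quad k F) (z : F) (N : ℕ) : T.nm (z ^ N) = T.nm z ^ N := by
  apply (algebraMap k F).injective
  rw [map_pow, T.nm_eq, T.nm_eq, sg_pow, mul_pow]

/-- the Frobenius is injective -/
theorem pow_two_pow_inj {K : Type*} [Field K] (h2 : (2 : K) = 0) (N : ℕ) {a b : K} (h : a ^ (2 ^ N) = b ^ (2 ^ N)) :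
    a = b := by
  induction N with
  | zero => simpa using h
  | succ N ih =>
    apply ih
    rw [pow_succ, pow_mul, pow_mul] at h
    have h5 : (a ^ (2 ^ N) - b ^ (2 ^ N)) * (a ^ (2 ^ N) - b ^ (2 ^ N)) = 0 := by
      linear_combination h - (a ^ (2 ^ N) * b ^ (2 ^ N) - b ^ (2 ^ N) * b ^ (2 ^ N)) * h2
    exact sub_eq_zero.1 (mul_self_eq_zero.1 h5)

namespace XD

variable (D : XD T S V Rf Qf i j v p p' φ χ)
include D

theorem exists_tw {z : F} (hz : z ≠ 0) : ∃ t, Tw T V Qf i j v φ χ t z := by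
  obtain ⟨t, ht, h1, h2, h3, h4⟩ := D.f.tor z hz
  refine ⟨t, ht, ?_, h1⟩
  rintro m u w ⟨a, ha, b, hb, rfl, rfl, rfl⟩
  have htN : t ∈ normalizer (V : Set G) := X_le_N D.M ht
  refine ⟨t * a * t⁻¹, mem_inf.2 ⟨(h2 a ha.1).1, cent_conj htN ha.2⟩, t * b * t⁻¹,
    mem_inf.2 ⟨(h4 b hb.1 hb.2).1, cent_conj htN hb.2⟩, by group, h3 a ha.1 ha.2, (h4 b hb.1 hb.2).2⟩

/-- the fixed points of `t` in `Y` -/
theorem tw_fix {t : G} {z : F} (h : Tw T V Qf i j v φ χ t z) (hz0 : z ≠ 0) (hz : T.sg z ≠ z) (hn : T.nm z ≠ 1) {y : G}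
    (hy : y ∈ YY V Qf i j) (hc : t * y = y * t) : y = 1 := by
  have hz1 : z ≠ 1 := by
    rintro rfl; exact hz (map_one _)
  have e : t * y * t⁻¹ = y := by rw [hc]; group
  obtain ⟨u, w, hr⟩ := D.rep_Y.1 hy
  have h1 := h.rep _ _ _ hr
  rw [e] at h1
  obtain ⟨h3, h4⟩ := D.rep_uniq h1 hr
  have hu : u = 0 := by
    have : (z - 1) • u = 0 := by rw [sub_smul, h3, one_smul, sub_self]
    exact (smul_eq_zero.1 this).resolve_left (sub_ne_zero.2 hz1)
  have hw : w = 0 := by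
    have : (z⁻¹ - 1) • w = 0 := by rw [sub_smul, h4, one_smul, sub_self]
    refine (smul_eq_zero.1 this).resolve_left (sub_ne_zero.2 ?_)
    intro h5
    exact hz1 (by rw [← inv_inv z, h5, inv_one])
  subst hu hw
  obtain ⟨a, b, d, rfl⟩ := D.g.v_surj _ (D.rep_zero hr)
  rw [h.act] at e
  obtain ⟨e1, e2, e3⟩ := GEnd.v_eq D.g e
  have ha : a = 0 := by
    have : (T.nm z - 1) * a = 0 := by rw [sub_mul, e1, one_mul, sub_self]
    exact (mul_eq_zero.1 this).resolve_left (sub_ne_zero.2 hn)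
  have hd : d = 0 := by
    have : ((T.nm z)⁻¹ - 1) * d = 0 := by rw [sub_mul, e3, one_mul, sub_self]
    refine (mul_eq_zero.1 this).resolve_left (sub_ne_zero.2 ?_)
    intro h5
    exact hn (by rw [← inv_inv (T.nm z), h5, inv_one])
  have hs0 : T.sg z ≠ 0 := QuadF.sg_ne T hz0
  have hb : b = 0 := by
    have : (z * (T.sg z)⁻¹ - 1) * b = 0 := by rw [sub_mul, e2, one_mul, sub_self]
    refine (mul_eq_zero.1 this).resolve_left (sub_ne_zero.2 ?_)
    intro h5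
    apply hz
    field_simp at h5
    exact h5.symm
  rw [ha, hb, hd]
  exact GEnd.v_zero D.g

end XD

namespace XD

variable (D : XD T S V Rf Qf i j v p p' φ χ)
include D

open GEnd in
/-- an element of `X` which swaps `R`, `R'` and acts on `V` as the swap of the coordinates -/
theorem exists_swap : ∃ n ∈ Qf i ⊔ Qf j, cj n (Rf i) = Rf j ∧ cj n (Rf j) = Rf i ∧
    ∀ a b d, n * v a b d * n⁻¹ = v d (T.sg b) a := by
  obtain ⟨x, y, hpx, hpy, Fr⟩ := D.frame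
  have h := D.M.swap D.ne (Fr.hx 1) (Fr.hy 1⁻¹) (Fr.mat 1 one_ne_zero)
  refine ⟨nn x y 1, mul_mem (mul_mem (mem_sup_left (Fr.hx 1)) (mem_sup_right (Fr.hy _))) (mem_sup_left (Fr.hx 1)),
    h.2.2.1, h.2.2.2, ?_⟩
  intro a b d
  rw [nn_act D.g Fr.hx hpx Fr.hy hpy one_ne_zero]
  simp only [QuadF.nm_one T, map_one, inv_one, one_mul]

/-- **the instance of `Base`** -/
theorem exists_base [Finite G] {hm : Φ → Φ → F} {W : Type*} [AddCommGroup W] [Module F W]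
    {w : G → W} {g : W → W → F} {f₀ : W} {ι : Φ →ₗ[F] W} (o : Out T V (Rf i) (Qf i) (Qf j) v p φ χ hm w g f₀ ι) :
    ∃ (T₀ : Subgroup G) (n : G), Base (Rf i) V (Qf i ⊔ Qf j) (Qf i) (YY V Qf i j) T₀ n ∧ cj n (Rf i) = Rf j ∧
      cj n (Rf j) = Rf i := by
  obtain ⟨z₀, hz0, hzs, hzn⟩ := exists_z T (GEnd.h2 D.g)
  obtain ⟨t₀, ht₀⟩ := D.exists_tw hz0
  -- the odd part
  obtain ⟨N, m, hm2, hord⟩ := Nat.exists_eq_two_pow_mul_odd (orderOf_pos t₀).ne'
  have hk2 : (2 : k) = 0 := D.g.sp.two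
  have htw := ht₀.pow N
  set t := t₀ ^ (2 ^ N) with ht
  set z := z₀ ^ (2 ^ N) with hz
  have hzz0 : z ≠ 0 := pow_ne_zero _ hz0
  have hzzs : T.sg z ≠ z := by
    rw [hz, sg_pow]
    intro h
    exact hzs (pow_two_pow_inj (GEnd.h2 D.g) N h)
  have hzzn : T.nm z ≠ 1 := by
    rw [hz, nm_pow]
    intro h
    exact hzn (pow_two_pow_inj hk2 N (by rw [h, one_pow]))
  have hordt : Odd (orderOf t) := by
    have h1 : orderOf t = m := by
      rw [ht, orderOf_pow, hord, Nat.gcd_eq_right (Dvd.intro _ rfl), Nat.mul_div_cancel_left _ (by positivity)]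
    rw [h1]; exact hm2
  -- `t` and `n₀`
  obtain ⟨n₀, hn₀, hnR, hnR', hact⟩ := D.exists_swap
  have hc1 : n₀ * t * n₀⁻¹ * t ∈ YY V Qf i j := by
    apply D.CX_le_Y o (mul_mem (mul_mem (mul_mem hn₀ htw.X) (inv_mem hn₀)) htw.X)
    rw [GEnd.cent_iff D.g]
    intro a b d
    have hn' : ∀ a b d, n₀⁻¹ * v a b d * n₀ = v d (T.sg b) a := by
      intro a b d
      have h1 := hact d (T.sg b) a
      rw [T.sg_sg] at h1
      rw [← h1]; group
    have e : n₀ * t * n₀⁻¹ * t * v a b d * (n₀ * t * n₀⁻¹ * t)⁻¹ =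
        n₀ * (t * (n₀⁻¹ * (t * v a b d * t⁻¹) * n₀) * t⁻¹) * n₀⁻¹ := by group
    have hs0 : T.sg z ≠ 0 := QuadF.sg_ne T hzz0
    have hn0 : T.nm z ≠ 0 := QuadF.nm_ne T hzz0
    rw [e, htw.act, hn', htw.act, hact]
    congr 1
    · rw [inv_mul_cancel_left₀ hn0]
    · simp only [map_mul, map_inv₀, T.sg_sg]
      field_simp
    · rw [mul_inv_cancel_left₀ hn0]
  have htY : zpowers t ≤ normalizer ((YY V Qf i j : Subgroup G) : Set G) := by
    rw [zpowers_le]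
    exact D.N_le_norY (X_le_N D.M htw.X)
  have hYp := D.Y_two
  have hYs : Group.IsSolvable (YY V Qf i j) := by
    have := hYp.isNilpotent
    infer_instance
  have hodd : (Nat.card (zpowers t)).Coprime 2 := by
    rw [Nat.card_zpowers]
    exact hordt.coprime_two_right
  have hcop : (Nat.card (zpowers t)).Coprime (Nat.card (YY V Qf i j)) := by
    obtain ⟨l, hl⟩ := (IsPGroup.iff_card (p := 2)).1 hYp
    rw [hl]
    exact Nat.Coprime.pow_right l hodd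
  have hmem : n₀ * t * n₀⁻¹ ∈ zpowers t ⊔ YY V Qf i j := by
    have e : n₀ * t * n₀⁻¹ = (n₀ * t * n₀⁻¹ * t) * t⁻¹ := by group
    rw [e]
    exact mul_mem (mem_sup_right hc1) (mem_sup_left (inv_mem (mem_zpowers t)))
  have hB : zpowers (n₀ * t * n₀⁻¹) ≤ zpowers t ⊔ YY V Qf i j := by
    rw [zpowers_le]; exact hmem
  obtain ⟨y, hy, hyB⟩ := Solvable.Glauberman.exists_conj_of_le_sup (zpowers t) (YY V Qf i j) htY hcop
    (Or.inr hYs) (zpowers (n₀ * t * n₀⁻¹)) hB (by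
      rw [Nat.card_zpowers, Nat.card_zpowers]
      exact (MulAut.conj n₀).orderOf_eq t)
  have hyX : y ∈ Qf i ⊔ Qf j := D.Y_le_X hy
  have hyC : y ∈ centralizer (V : Set G) := D.Y_le_C hy
  have hcjy : ∀ l, cj y⁻¹ (Rf l) = Rf l := fun l =>
    cj_eq_of_comm fun r hr => ((mem_centralizer_iff.mp (inv_mem hyC)) r (D.M.R_le l hr)).symm
  have hnR1 : cj (y⁻¹ * n₀) (Rf i) = Rf j := by rw [cj_mul, hnR, hcjy]
  have hnR2 : cj (y⁻¹ * n₀) (Rf j) = Rf i := by rw [cj_mul, hnR', hcjy]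
  have hnT : ∀ s ∈ zpowers t, y⁻¹ * n₀ * s * (y⁻¹ * n₀)⁻¹ ∈ zpowers t := by
    have h1 : y⁻¹ * n₀ * t * (y⁻¹ * n₀)⁻¹ ∈ zpowers t := by
      have h2 : n₀ * t * n₀⁻¹ ∈ zpowers (n₀ * t * n₀⁻¹) := mem_zpowers _
      rw [← hyB, Subgroup.mem_pointwise_smul_iff_inv_smul_mem] at h2
      have e : (MulAut.conj y)⁻¹ • (n₀ * t * n₀⁻¹) = y⁻¹ * n₀ * t * (y⁻¹ * n₀)⁻¹ := by
        rw [← map_inv, MulAut.smul_def, MulAut.conj_apply]; group
      rwa [e] at h2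
    rintro s ⟨l, rfl⟩
    have e : y⁻¹ * n₀ * (fun x : ℤ => t ^ x) l * (y⁻¹ * n₀)⁻¹ = (y⁻¹ * n₀ * t * (y⁻¹ * n₀)⁻¹) ^ l := by
      rw [conj_zpow]
    rw [e]
    exact zpow_mem h1 l
  have hnX : y⁻¹ * n₀ ∈ Qf i ⊔ Qf j := mul_mem (inv_mem hyX) hn₀
  refine ⟨zpowers t, y⁻¹ * n₀, ?_, hnR1, hnR2⟩
  exact
    { RV := D.M.R_le i
      XN := X_le_N D.M
      nX := hnX
      nC := fun h => D.ne (D.M.inj _ _ (by rw [← hnR1, cj_of_mem_normalizer h]))
      NX := fun m hm => by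
        obtain ⟨x, hx, c, -, hc, e⟩ := D.NX hm
        exact ⟨x, hx, c, hc, e⟩
      QX := le_sup_left
      QC := fun q hq => mem_normalizer_of_cj (cj_eq_of_comm fun r hr => (D.M.RQ i r hr q hq).symm)
      CQ := fun c hc u hu => D.g.nor c hc u hu
      Qtr := fun x hx hxC => D.Qtr hx hxC hnR1
      YX := D.Y_le_X
      YV := D.Y_le_C
      nY := fun y hy => D.N_Y (X_le_N D.M hnX) hy
      Yp := hYp
      TX := by rw [zpowers_le]; exact htw.X
      TC := by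
        rw [zpowers_le, mem_normalizer_iff]
        have hn0 : T.nm z ≠ 0 := QuadF.nm_ne T hzz0
        have ht0 : ∀ a, t * v a 0 0 * t⁻¹ = v (T.nm z * a) 0 0 := by
          intro a
          rw [htw.act, mul_zero, mul_zero]
        intro x
        rw [GEnd.mem_R D.g, GEnd.mem_R D.g]
        constructor
        · rintro ⟨a, rfl⟩
          exact ⟨_, ht0 a⟩
        · rintro ⟨a, ha⟩
          refine ⟨(T.nm z)⁻¹ * a, ?_⟩
          have h1 := ht0 ((T.nm z)⁻¹ * a)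
          rw [mul_inv_cancel_left₀ hn0, ← ha] at h1
          exact (mul_left_cancel (mul_right_cancel h1)).symm
      TY := htY
      Todd := hodd
      nT := hnT
      YT := fun y hy hc => D.tw_fix htw hzz0 hzzs hzzn hy (hc t (mem_zpowers t))
      comm := fun x hx g hg => D.comm hx hg }

end XD

end Cfsg.Agent.Omega.NO1U

end

section


/-!
# The residue `{0, 1}` of the closing of NO-1' (β), q ≥ 4

`Plane.gpp` : `GPp B P i j 3 ∧ GPp B P j i 3`.  The points are the cosets of `C = N(R)`, the lines the cosets of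
`N = N(V)`, in `Γ = ⟨P i, P j⟩`; `B` is the full stabiliser of the flag.
-/

set_option autoImplicit false

namespace Cfsg.Agent.Omega.NO1U

open Subgroup Cfsg.Agent.ParSys Cfsg.Agent.ParSys.RankTwo Cfsg.Agent.ParSys.FlagGP

variable {G : Type*} [Group G]

/-- `P₀ = X B`, `P₁ ≤ C`; `Λ k` (`k : K`) the sets of the `h ∈ C` with `h e ≤ F_k` (`F_k` : the subspaces of the flag,
of dimension at least two), `Λ k₀` : the one of dimension two. -/
structure Plane {K : Type*} (C N X B P₀ P₁ : Subgroup G) (n : G) (Λ : K → Set G) (k₀ : K) : Prop where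
  BC : B ≤ C
  BN : B ≤ N
  XN : X ≤ N
  P₀_eq : P₀ = X ⊔ B
  BP₁ : B ≤ P₁
  P₁C : P₁ ≤ C
  nX : n ∈ X
  nC : n ∉ C
  NX : ∀ m ∈ N, ∃ x ∈ X, ∃ c ∈ C, m = x * c
  /-- `X` is 2-transitive on the points of `V` -/
  Xtr : ∀ x ∈ X, x ∉ C → ∃ a ∈ X ⊓ C, ∃ c ∈ C, x = a * n * c
  /-- two points are on at most one line -/
  two : ∀ g ∈ C, n⁻¹ * g * n ∈ C → g ∈ N
  ΛC : ∀ k, Λ k ⊆ C
  Λmul : ∀ k, ∀ h ∈ Λ k, ∀ m ∈ C, m ∈ N → h * m ∈ Λ k
  /-- the points of `F_k` are invariant under `X` -/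
  inv : ∀ k, ∀ x ∈ X, ∀ h ∈ Λ k, ∀ x' ∈ X, ∃ h' ∈ Λ k, ∃ x'' ∈ X, ∃ c ∈ C, x * (h * x') = h' * x'' * c
  ΛP₁ : ∀ k, ∀ p ∈ P₁, ∀ h ∈ Λ k, p * h ∈ Λ k
  one : (1 : G) ∈ Λ k₀
  /-- `P₁` is transitive on the points of `F₂` -/
  Λtr : ∀ h ∈ Λ k₀, ∃ p ∈ P₁, p⁻¹ * h ∈ N
  /-- `B` is the full stabiliser of the flag -/
  stab : ∀ g ∈ C, g ∈ N → (∀ k, ∀ h ∈ Λ k, g * h ∈ Λ k) → g ∈ B
  card : B.relIndex P₀ = B.relIndex P₁

namespace Plane

variable {K : Type*} {C N X B P₀ P₁ : Subgroup G} {n : G} {Λ : K → Set G} {k₀ : K}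
  (D : Plane C N X B P₀ P₁ n Λ k₀)

/-- the elements which move the base point to a point of `F_k` -/
def Pt (C X : Subgroup G) (L : Set G) : Set G := {g | ∃ h ∈ L, ∃ x ∈ X, ∃ c ∈ C, g = h * x * c}

theorem pt_mul {C X : Subgroup G} {L : Set G} {g c : G} (hg : g ∈ Pt C X L) (hc : c ∈ C) : g * c ∈ Pt C X L := by
  obtain ⟨h, hh, x, hx, c', hc', rfl⟩ := hg
  exact ⟨h, hh, x, hx, c' * c, mul_mem hc' hc, by group⟩

include D

theorem P₀N : P₀ ≤ N := by rw [D.P₀_eq]; exact sup_le D.XN D.BN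

theorem BP₀ : B ≤ P₀ := by rw [D.P₀_eq]; exact le_sup_right

theorem XP₀ : X ≤ P₀ := by rw [D.P₀_eq]; exact le_sup_left

theorem smul_pt (k : K) {g : G} (hg : g ∈ P₀ ⊔ P₁) : ∀ a ∈ Pt C X (Λ k), g * a ∈ Pt C X (Λ k) := by
  have hX : ∀ x ∈ X, ∀ a ∈ Pt C X (Λ k), x * a ∈ Pt C X (Λ k) := by
    rintro x hx _ ⟨h, hh, x', hx', c, hc, rfl⟩
    obtain ⟨h', hh', x'', hx'', c', hc', e⟩ := D.inv k x hx h hh x' hx'
    refine ⟨h', hh', x'', hx'', c' * c, mul_mem hc' hc, ?_⟩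
    calc x * (h * x' * c) = x * (h * x') * c := by group
      _ = h' * x'' * c' * c := by rw [e]
      _ = h' * x'' * (c' * c) := by group
  have hP : ∀ p ∈ P₁, ∀ a ∈ Pt C X (Λ k), p * a ∈ Pt C X (Λ k) := by
    rintro p hp _ ⟨h, hh, x', hx', c, hc, rfl⟩
    exact ⟨p * h, D.ΛP₁ k p hp h hh, x', hx', c, hc, by group⟩
  have hle : P₀ ⊔ P₁ = X ⊔ P₁ := by
    rw [D.P₀_eq, sup_assoc, sup_eq_right.2 D.BP₁]
  rw [hle, Subgroup.sup_eq_closure] at hg
  induction hg using Subgroup.closure_induction_left with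
  | one => intro a ha; rwa [one_mul]
  | mul_left a ha b hb ih =>
    intro z hz
    rw [mul_assoc]
    rcases ha with ha | ha
    · exact hX a ha _ (ih z hz)
    · exact hP a ha _ (ih z hz)
  | inv_mul_cancel a ha b hb ih =>
    intro z hz
    rw [mul_assoc]
    rcases ha with ha | ha
    · exact hX _ (inv_mem ha) _ (ih z hz)
    · exact hP _ (inv_mem ha) _ (ih z hz)

/-- an element of `C` which moves a point `≠ R` of `V` to a point of `V` lies in `N` -/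
theorem mem_N {g x : G} (hg : g ∈ C) (hx : x ∈ X) {c : G} (hc : c ∈ C) (e : g * n = x * c) : g ∈ N := by
  have hxC : x ∉ C := by
    intro hcon
    apply D.nC
    have e2 : n = g⁻¹ * (x * c) := by rw [← e]; group
    rw [e2]; exact mul_mem (inv_mem hg) (mul_mem hcon hc)
  obtain ⟨a, ha, c', hc', rfl⟩ := D.Xtr x hx hxC
  rw [mem_inf] at ha
  have h1 := D.two (a⁻¹ * g) (mul_mem (inv_mem ha.2) hg) (by
    have e2 : n⁻¹ * (a⁻¹ * g) * n = c' * c := by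
      calc n⁻¹ * (a⁻¹ * g) * n = n⁻¹ * a⁻¹ * (g * n) := by group
        _ = n⁻¹ * a⁻¹ * (a * n * c' * c) := by rw [e]
        _ = c' * c := by group
    rw [e2]; exact mul_mem hc' hc)
  have e3 : g = a * (a⁻¹ * g) := by group
  rw [e3]; exact mul_mem (D.XN ha.1) h1

/-- `(z, points of F_k)` determines `F_k` -/
theorem mem_of_pt (k : K) {g : G} (hg : g ∈ C) (hgn : g * n ∈ Pt C X (Λ k)) : g ∈ Λ k := by
  obtain ⟨h, hh, x, hx, c, hc, e⟩ := hgn
  have h1 : h⁻¹ * g ∈ N := by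
    apply D.mem_N (mul_mem (inv_mem (D.ΛC k hh)) hg) hx hc
    calc h⁻¹ * g * n = h⁻¹ * (g * n) := by group
      _ = h⁻¹ * (h * x * c) := by rw [e]
      _ = x * c := by group
  have := D.Λmul k h hh (h⁻¹ * g) (mul_mem (inv_mem (D.ΛC k hh)) hg) h1
  rwa [mul_inv_cancel_left] at this

theorem mem_B {g : G} (hg : g ∈ P₀ ⊔ P₁) (hC : g ∈ C) (hN : g ∈ N) : g ∈ B := by
  apply D.stab g hC hN
  intro k h hh
  apply D.mem_of_pt k (mul_mem hC (D.ΛC k hh))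
  have h1 : h * n ∈ Pt C X (Λ k) := ⟨h, hh, n, D.nX, 1, one_mem _, by group⟩
  rw [mul_assoc]
  exact D.smul_pt k hg _ h1

theorem mem_pt {g : G} (hg : g ∈ P₀ ⊔ P₁) : g ∈ Pt C X (Λ k₀) := by
  have h1 : (1 : G) ∈ Pt C X (Λ k₀) := ⟨1, D.one, 1, one_mem _, 1, one_mem _, by group⟩
  have := D.smul_pt k₀ hg _ h1
  rwa [mul_one] at this

/-- the lines through the base point -/
theorem line_base {g : G} (hg : g ∈ P₀ ⊔ P₁) (hC : g ∈ C) : ∃ p ∈ P₁, p⁻¹ * g ∈ N := by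
  have h1 := D.mem_pt (mul_mem hg (mem_sup_left (D.XP₀ D.nX)))
  exact D.Λtr g (D.mem_of_pt k₀ hC h1)

/-- join -/
theorem join {g : G} (hg : g ∈ P₀ ⊔ P₁) : ∃ p ∈ P₁, ∃ x ∈ X, ∃ c ∈ C, g = p * x * c := by
  obtain ⟨h, hh, x, hx, c, hc, rfl⟩ := D.mem_pt hg
  obtain ⟨p, hp, hm⟩ := D.Λtr h hh
  obtain ⟨x', hx', c', hc', e⟩ := D.NX _ (mul_mem hm (D.XN hx))
  refine ⟨p, hp, x', hx', c' * c, mul_mem hc' hc, ?_⟩
  calc h * x * c = p * (p⁻¹ * h * x) * c := by group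
    _ = p * (x' * c') * c := by rw [e]
    _ = _ := by group

omit D in
/-- the points -/
def pts (C Γ : Subgroup G) : Set (G ⧸ C) := {p | ∃ g ∈ Γ, p = (g : G ⧸ C)}

omit D in
/-- incidence -/
def inc (C N Γ : Subgroup G) (p : G ⧸ C) (l : G ⧸ N) : Prop := ∃ g ∈ Γ, p = (g : G ⧸ C) ∧ l = (g : G ⧸ N)

omit D in
theorem smul_mk {H : Subgroup G} (g x : G) : g • (x : G ⧸ H) = ((g * x : G) : G ⧸ H) := rfl

/-- a point `gC` on a line `hN`, brought into the form `g' x C`, `g' N`  -/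
theorem flags : Flags B P₀ P₁ (pts C (P₀ ⊔ P₁)) (pts N (P₀ ⊔ P₁)) (inc C N (P₀ ⊔ P₁)) ((1 : G) : G ⧸ C)
    ((1 : G) : G ⧸ N) where
  hp := ⟨1, one_mem _, rfl⟩
  hl := ⟨1, one_mem _, rfl⟩
  hpl := ⟨1, one_mem _, rfl, rfl⟩
  Bi := D.BP₀
  Bj := D.BP₁
  pts := by
    rintro g hg _ ⟨a, ha, rfl⟩
    refine ⟨g * a, mul_mem ?_ ha, rfl⟩
    exact hg.elim (fun h => mem_sup_left h) fun h => mem_sup_right h
  lns := by
    rintro g hg _ ⟨a, ha, rfl⟩
    refine ⟨g * a, mul_mem ?_ ha, rfl⟩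
    exact hg.elim (fun h => mem_sup_left h) fun h => mem_sup_right h
  inc' := by
    rintro g hg _ - _ - ⟨a, ha, rfl, rfl⟩
    refine ⟨g * a, mul_mem ?_ ha, rfl, rfl⟩
    exact hg.elim (fun h => mem_sup_left h) fun h => mem_sup_right h
  fixl g hg := by
    rw [smul_mk, mul_one, QuotientGroup.eq, mul_one]
    exact inv_mem (D.P₀N hg)
  fixp g hg := by
    rw [smul_mk, mul_one, QuotientGroup.eq, mul_one]
    exact inv_mem (D.P₁C hg)
  trp := by
    rintro _ - ⟨g, hg, rfl, h⟩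
    rw [QuotientGroup.eq, inv_one, one_mul] at h
    obtain ⟨x, hx, c, hc, rfl⟩ := D.NX g h
    refine ⟨x, D.XP₀ hx, ?_⟩
    rw [smul_mk, mul_one, QuotientGroup.eq, inv_mul_cancel_left]
    exact hc
  trl := by
    rintro _ - ⟨g, hg, h, rfl⟩
    rw [QuotientGroup.eq, inv_one, one_mul] at h
    obtain ⟨p, hp, hm⟩ := D.line_base hg h
    refine ⟨p, hp, ?_⟩
    rw [smul_mk, mul_one, QuotientGroup.eq]
    exact hm
  stab g hg h1 h2 := by
    rw [smul_mk, mul_one, QuotientGroup.eq, mul_one] at h1 h2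
    exact D.mem_B hg (by simpa using inv_mem h1) (by simpa using inv_mem h2)

/-- two points on a line -/
theorem pair {p p' : G ⧸ C} {l : G ⧸ N} (h : inc C N (P₀ ⊔ P₁) p l) (h' : inc C N (P₀ ⊔ P₁) p' l) (hne : p ≠ p') :
    ∃ g ∈ P₀ ⊔ P₁, p = (g : G ⧸ C) ∧ p' = ((g * n : G) : G ⧸ C) ∧ l = (g : G ⧸ N) := by
  obtain ⟨a, ha, rfl, rfl⟩ := h
  obtain ⟨b, hb, rfl, hl⟩ := h'
  rw [QuotientGroup.eq] at hl
  obtain ⟨x, hx, c, hc, e⟩ := D.NX _ hl
  have hxC : x ∉ C := by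
    intro hcon
    apply hne
    rw [QuotientGroup.eq, e]
    exact mul_mem hcon hc
  obtain ⟨u, hu, c', hc', rfl⟩ := D.Xtr x hx hxC
  rw [mem_inf] at hu
  refine ⟨a * u, mul_mem ha (mem_sup_left (D.XP₀ hu.1)), ?_, ?_, ?_⟩
  · rw [QuotientGroup.eq, inv_mul_cancel_left]; exact hu.2
  · rw [eq_comm, QuotientGroup.eq]
    have e2 : (a * u * n)⁻¹ * b = c' * c := by
      calc (a * u * n)⁻¹ * b = (u * n)⁻¹ * (a⁻¹ * b) := by group
        _ = (u * n)⁻¹ * (u * n * c' * c) := by rw [e]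
        _ = c' * c := by group
    rw [e2]; exact mul_mem hc' hc
  · rw [QuotientGroup.eq, inv_mul_cancel_left]; exact D.XN hu.1

theorem unique {p p' : G ⧸ C} (hne : p ≠ p') {l l' : G ⧸ N} (h1 : inc C N (P₀ ⊔ P₁) p l)
    (h2 : inc C N (P₀ ⊔ P₁) p' l) (h3 : inc C N (P₀ ⊔ P₁) p l') (h4 : inc C N (P₀ ⊔ P₁) p' l') : l = l' := by
  obtain ⟨a, ha, rfl, rfl, rfl⟩ := D.pair h1 h2 hne
  obtain ⟨b, hb, h5, h6, rfl⟩ := D.pair h3 h4 hne
  rw [QuotientGroup.eq] at h5 h6 ⊢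
  apply D.two _ h5
  have e : n⁻¹ * (a⁻¹ * b) * n = (a * n)⁻¹ * (b * n) := by group
  rw [e]; exact h6

theorem exists_line {p p' : G ⧸ C} (hp : p ∈ pts C (P₀ ⊔ P₁)) (hp' : p' ∈ pts C (P₀ ⊔ P₁)) :
    ∃ l ∈ pts N (P₀ ⊔ P₁), inc C N (P₀ ⊔ P₁) p l ∧ inc C N (P₀ ⊔ P₁) p' l := by
  obtain ⟨a, ha, rfl⟩ := hp
  obtain ⟨b, hb, rfl⟩ := hp'
  obtain ⟨q, hq, x, hx, c, hc, e⟩ := D.join (mul_mem (inv_mem ha) hb)
  have haq : a * q ∈ P₀ ⊔ P₁ := mul_mem ha (mem_sup_right hq)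
  refine ⟨((a * q : G) : G ⧸ N), ⟨_, haq, rfl⟩, ⟨a * q, haq, ?_, rfl⟩,
    ⟨a * q * x, mul_mem haq (mem_sup_left (D.XP₀ hx)), ?_, ?_⟩⟩
  · rw [QuotientGroup.eq, inv_mul_cancel_left]; exact D.P₁C hq
  · rw [eq_comm, QuotientGroup.eq]
    have e2 : (a * q * x)⁻¹ * b = c := by
      calc (a * q * x)⁻¹ * b = (q * x)⁻¹ * (a⁻¹ * b) := by group
        _ = (q * x)⁻¹ * (q * x * c) := by rw [e]
        _ = c := by group
    rw [e2]; exact hc
  · rw [QuotientGroup.eq, inv_mul_cancel_left]; exact D.XN hx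

/-- the number of the points on the base line -/
theorem card_points [Finite G] : {p | inc C N (P₀ ⊔ P₁) p ((1 : G) : G ⧸ N)}.ncard = B.relIndex P₀ := by
  classical
  let f : P₀ → G ⧸ C := fun g => ((g : G) : G ⧸ C)
  have hr : {p | inc C N (P₀ ⊔ P₁) p ((1 : G) : G ⧸ N)} = Set.range f := by
    ext p
    constructor
    · rintro ⟨g, hg, rfl, h⟩
      obtain ⟨x, hx, h⟩ := D.flags.trp (g : G ⧸ C) ⟨g, hg, rfl⟩ ⟨g, hg, rfl, h⟩
      exact ⟨⟨x, hx⟩, by rw [← h, smul_mk, mul_one]⟩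
    · rintro ⟨g, rfl⟩
      refine ⟨g, mem_sup_left g.2, rfl, ?_⟩
      rw [QuotientGroup.eq, inv_one, one_mul]; exact D.P₀N g.2
  rw [hr, Subgroup.relIndex, Subgroup.index, ← Nat.card_coe_set_eq]
  refine (Nat.card_congr (Equiv.ofBijective (Quotient.lift (fun g : P₀ => (⟨f g, g, rfl⟩ : Set.range f)) ?_)
    ⟨?_, ?_⟩)).symm
  · intro a b hab
    have hab : a⁻¹ * b ∈ B.subgroupOf P₀ := QuotientGroup.leftRel_apply.1 hab
    rw [Subgroup.mem_subgroupOf] at hab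
    exact Subtype.ext (QuotientGroup.eq.2 (D.BC hab))
  · intro a b
    induction a using QuotientGroup.induction_on with
    | H a =>
    induction b using QuotientGroup.induction_on with
    | H b =>
    intro h
    have h1 : f a = f b := congrArg Subtype.val h
    have h1 : (a : G)⁻¹ * b ∈ C := QuotientGroup.eq.1 h1
    rw [QuotientGroup.eq, Subgroup.mem_subgroupOf]
    exact D.mem_B (mem_sup_left (a⁻¹ * b : P₀).2) h1 (D.P₀N (a⁻¹ * b : P₀).2)
  · rintro ⟨_, g, rfl⟩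
    exact ⟨(g : P₀ ⧸ B.subgroupOf P₀), rfl⟩

/-- the number of the lines through the base point -/
theorem card_lines [Finite G] : {l | inc C N (P₀ ⊔ P₁) ((1 : G) : G ⧸ C) l}.ncard = B.relIndex P₁ := by
  classical
  let f : P₁ → G ⧸ N := fun g => ((g : G) : G ⧸ N)
  have hr : {l | inc C N (P₀ ⊔ P₁) ((1 : G) : G ⧸ C) l} = Set.range f := by
    ext p
    constructor
    · rintro ⟨g, hg, h, rfl⟩
      obtain ⟨x, hx, h⟩ := D.flags.trl (g : G ⧸ N) ⟨g, hg, rfl⟩ ⟨g, hg, h, rfl⟩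
      exact ⟨⟨x, hx⟩, by rw [← h, smul_mk, mul_one]⟩
    · rintro ⟨g, rfl⟩
      refine ⟨g, mem_sup_right g.2, ?_, rfl⟩
      rw [QuotientGroup.eq, inv_one, one_mul]; exact D.P₁C g.2
  rw [hr, Subgroup.relIndex, Subgroup.index, ← Nat.card_coe_set_eq]
  refine (Nat.card_congr (Equiv.ofBijective (Quotient.lift (fun g : P₁ => (⟨f g, g, rfl⟩ : Set.range f)) ?_)
    ⟨?_, ?_⟩)).symm
  · intro a b hab
    have hab : a⁻¹ * b ∈ B.subgroupOf P₁ := QuotientGroup.leftRel_apply.1 hab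
    rw [Subgroup.mem_subgroupOf] at hab
    exact Subtype.ext (QuotientGroup.eq.2 (D.BN hab))
  · intro a b
    induction a using QuotientGroup.induction_on with
    | H a =>
    induction b using QuotientGroup.induction_on with
    | H b =>
    intro h
    have h1 : f a = f b := congrArg Subtype.val h
    have h1 : (a : G)⁻¹ * b ∈ N := QuotientGroup.eq.1 h1
    rw [QuotientGroup.eq, Subgroup.mem_subgroupOf]
    exact D.mem_B (mem_sup_right (a⁻¹ * b : P₁).2) (D.P₁C (a⁻¹ * b : P₁).2) h1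
  · rintro ⟨_, g, rfl⟩
    exact ⟨(g : P₁ ⧸ B.subgroupOf P₁), rfl⟩

omit D in
theorem inc_smul {Γ : Subgroup G} {g : G} (hg : g ∈ Γ) {p : G ⧸ C} {l : G ⧸ N} :
    inc C N Γ (g • p) (g • l) ↔ inc C N Γ p l := by
  constructor
  · rintro ⟨a, ha, h1, h2⟩
    refine ⟨g⁻¹ * a, mul_mem (inv_mem hg) ha, ?_, ?_⟩
    · rw [← smul_mk, ← h1, inv_smul_smul]
    · rw [← smul_mk, ← h2, inv_smul_smul]
  · rintro ⟨a, ha, rfl, rfl⟩
    exact ⟨g * a, mul_mem hg ha, rfl, rfl⟩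

/-- the number of the lines through a point -/
theorem card_lines' [Finite G] {p : G ⧸ C} (hp : p ∈ pts C (P₀ ⊔ P₁)) :
    {l | inc C N (P₀ ⊔ P₁) p l}.ncard = B.relIndex P₁ := by
  obtain ⟨g, hg, rfl⟩ := hp
  rw [← D.card_lines]
  have e : {l : G ⧸ N | inc C N (P₀ ⊔ P₁) ((g : G) : G ⧸ C) l} =
      (fun l => g • l) '' {l | inc C N (P₀ ⊔ P₁) ((1 : G) : G ⧸ C) l} := by
    ext l
    constructor
    · intro h
      have h : inc C N (P₀ ⊔ P₁) ((g : G) : G ⧸ C) l := h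
      refine ⟨g⁻¹ • l, ?_, smul_inv_smul _ _⟩
      have h1 := (inc_smul (C := C) (N := N) (inv_mem hg)).2 h
      rw [smul_mk, inv_mul_cancel] at h1
      exact h1
    · rintro ⟨l, h, rfl⟩
      have h1 := (inc_smul (C := C) (N := N) hg).2 h
      rw [smul_mk, mul_one] at h1
      exact h1
  rw [e, Set.ncard_image_of_injective _ (MulAction.injective g)]

/-- two lines meet -/
theorem exists_point [Finite G] {l l' : G ⧸ N} (hl : l ∈ pts N (P₀ ⊔ P₁)) (hl' : l' ∈ pts N (P₀ ⊔ P₁)) :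
    ∃ p ∈ pts C (P₀ ⊔ P₁), inc C N (P₀ ⊔ P₁) p l ∧ inc C N (P₀ ⊔ P₁) p l' := by
  classical
  -- it is enough to consider the base line
  suffices hmain : ∀ l' ∈ pts N (P₀ ⊔ P₁), ∃ p ∈ pts C (P₀ ⊔ P₁),
      inc C N (P₀ ⊔ P₁) p ((1 : G) : G ⧸ N) ∧ inc C N (P₀ ⊔ P₁) p l' by
    obtain ⟨g, hg, rfl⟩ := hl
    obtain ⟨g', hg', rfl⟩ := hl'
    obtain ⟨p, ⟨a, ha, rfl⟩, h1, h2⟩ := hmain ((g⁻¹ * g' : G) : G ⧸ N) ⟨_, mul_mem (inv_mem hg) hg', rfl⟩
    refine ⟨g • (a : G ⧸ C), ⟨g * a, mul_mem hg ha, rfl⟩, ?_, ?_⟩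
    · have := (inc_smul (C := C) (N := N) hg).2 h1
      rwa [smul_mk (H := N), mul_one] at this
    · have := (inc_smul (C := C) (N := N) hg).2 h2
      rwa [smul_mk (H := N), mul_inv_cancel_left] at this
  rintro _ ⟨g, hg, rfl⟩
  set Γ := P₀ ⊔ P₁ with hΓ
  by_cases hon : inc C N Γ ((g : G) : G ⧸ C) ((1 : G) : G ⧸ N)
  · exact ⟨_, ⟨g, hg, rfl⟩, hon, ⟨g, hg, rfl, rfl⟩⟩
  -- the lines joining the point `g C` to the points of the base line
  have hch : ∀ z : {z | inc C N Γ z ((1 : G) : G ⧸ N)}, ∃ l ∈ pts N Γ, inc C N Γ (z : G ⧸ C) l ∧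
      inc C N Γ ((g : G) : G ⧸ C) l := by
    rintro ⟨z, a, ha, rfl, h⟩
    exact D.exists_line ⟨a, ha, rfl⟩ ⟨g, hg, rfl⟩
  choose F hF1 hF2 hF3 using hch
  have hinj : Function.Injective F := by
    rintro ⟨z, hz⟩ ⟨z', hz'⟩ h
    by_contra hne
    have hne : z ≠ z' := fun h => hne (Subtype.ext h)
    have h1 := hF2 ⟨z, hz⟩
    have h2 := hF2 ⟨z', hz'⟩
    rw [← h] at h2
    have h3 := D.unique hne h1 h2 hz hz'
    have h4 := hF3 ⟨z, hz⟩
    rw [h3] at h4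
    exact hon h4
  have hsub : Set.range F ⊆ {l | inc C N Γ ((g : G) : G ⧸ C) l} := by
    rintro _ ⟨z, rfl⟩
    exact hF3 z
  have hcard : (Set.range F).ncard = {l | inc C N Γ ((g : G) : G ⧸ C) l}.ncard := by
    rw [D.card_lines' ⟨g, hg, rfl⟩, ← D.card, ← D.card_points, ← Nat.card_coe_set_eq, ← Nat.card_coe_set_eq]
    exact (Nat.card_congr (Equiv.ofInjective F hinj)).symm
  have heq := Set.eq_of_subset_of_ncard_le hsub hcard.ge (Set.toFinite _)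
  have h1 : ((g : G) : G ⧸ N) ∈ {l | inc C N Γ ((g : G) : G ⧸ C) l} := ⟨g, hg, rfl, rfl⟩
  rw [← heq] at h1
  obtain ⟨⟨z, hz⟩, h2⟩ := h1
  have h3 := hF2 ⟨z, hz⟩
  rw [h2] at h3
  obtain ⟨a, ha, rfl, h4⟩ := hz
  exact ⟨_, ⟨a, ha, rfl⟩, ⟨a, ha, rfl, h4⟩, h3⟩

/-- **the residue `{0, 1}` is a projective plane** -/
theorem gpp [Finite G] {I : Type*} {P : I → Subgroup G} (hBP : ∀ i, B ≤ P i) {i j : I} (hij : i ≠ j) (hi : P i = P₀)
    (hj : P j = P₁) : GPp B P i j 3 ∧ GPp B P j i 3 := by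
  subst hi hj
  refine D.flags.gpp_three hBP hij ?_ ?_ ?_
  · intro p hp p' hp' _
    exact D.exists_line hp hp'
  · intro p _ p' _ hne l _ l' _ h1 h2 h3 h4
    exact D.unique hne h1 h2 h3 h4
  · intro l hl l' hl' _
    exact D.exists_point hl hl'

end Plane

end Cfsg.Agent.Omega.NO1U

end

section


/-!
# NO-1' (β), closing, residue `{0, 1}`: the instances of `Line` and `Plane`

`XD.line` : `Lam (span {e₀, m})` is a `Line`; `XD.invL` : the points of every totally isotropic `L ∋ e₀` are invariant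
under `X`; `XD.two` : two points are on at most one line; `XD.plane` : the structure `Plane`.
-/

set_option autoImplicit false
set_option linter.unusedVariables false
set_option linter.unusedSectionVars false

open Subgroup
open scoped Pointwise
open Cfsg.Agent.Omega.NO1.Beta.Meet Cfsg.Agent.Omega.NOne.SU

namespace Cfsg.Agent.Omega.NO1U

universe u

variable {G : Type u} [Group G] {k F : Type*} [Field k] [Field F] [Algebra k F] {T : Quad k F} {S : Sylow 2 G}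
  {I : Type*} {V : Subgroup G} {Rf Qf : I → Subgroup G} {i j : I} {v : k → F → k → G} {p p' : G → F}
  {Φ : Type*} [AddCommGroup Φ] [Module F Φ] {φ χ : G → Φ} {hm : Φ → Φ → F}
  {W : Type*} [AddCommGroup W] [Module F W] {w : G → W} {g : W → W → F} {f₀ : W} {ι : Φ →ₗ[F] W}

namespace XD

variable (D : XD T S V Rf Qf i j v p p' φ χ) (o : Out T V (Rf i) (Qf i) (Qf j) v p φ χ hm w g f₀ ι)
include D

theorem hpts : ∀ m ∈ normalizer (V : Set G), (∀ d, ∃ a, m * v 0 0 d * m⁻¹ = v a 0 0) ∨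
      ∃ y ∈ Qf i, ∀ d, ∃ d', m * v 0 0 d * m⁻¹ = y * v 0 0 d' * y⁻¹ := by
  intro m hm
  obtain ⟨l, h1, -⟩ := D.permN hm j
  by_cases hl : l = i
  · left
    intro d
    have h2 : m * v 0 0 d * m⁻¹ ∈ Rf l := by
      rw [← h1]
      exact conj_mem_cj ((D.Rj _).2 ⟨d, rfl⟩)
    rw [hl] at h2
    exact (GEnd.mem_R D.g _).1 h2
  · right
    obtain ⟨y, hy, h2⟩ := D.M.tran i j l D.ne.symm hl
    refine ⟨y, hy, fun d => ?_⟩
    have h3 : m * v 0 0 d * m⁻¹ ∈ Rf l := by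
      rw [← h1]
      exact conj_mem_cj ((D.Rj _).2 ⟨d, rfl⟩)
    rw [← h2, mem_cj] at h3
    obtain ⟨d', hd'⟩ := (D.Rj _).1 h3
    refine ⟨d', ?_⟩
    rw [← hd']; group

include o

/-- `X ∩ N(R)` preserves every subspace `L`, `e₀ ∈ L ≤ e₀^⊥` -/
theorem lam_X {L : Submodule F W} (hL : w (v 0 1 0) ∈ L) (hiso : ∀ x ∈ L, ∀ y ∈ L, g x y = 0) {x h : G}
    (hx : x ∈ Qf i ⊔ Qf j) (hxR : x ∈ normalizer (Rf i : Set G)) (hh : h ∈ Lam (Rf i) v w L) :
    x * h ∈ Lam (Rf i) v w L := by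
  refine ⟨mul_mem hxR hh.1, fun b => ?_⟩
  obtain ⟨s, -, hs⟩ := D.scal hx hxR
  set y := h * v 0 b 0 * h⁻¹ with hy
  have hyQ : y ∈ Qf i := D.g.nor h hh.1 _ (D.g.E_le 0 b)
  have hyL : w y ∈ L := hh.2 b
  have hyV : y ∈ centralizer (V : Set G) := (OutL.mem_CV_iff D.g o hyQ).2 (hiso _ hyL _ hL)
  obtain ⟨a, ha⟩ := o.φ_eq y hyQ hyV
  obtain ⟨h1, h2⟩ := hs y (mem_inf.2 ⟨hyQ, hyV⟩)
  obtain ⟨a', ha'⟩ := o.φ_eq _ h1.1 h1.2
  have e : x * h * v 0 b 0 * (x * h)⁻¹ = x * y * x⁻¹ := by rw [hy]; group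
  rw [e, ha', h2]
  have e2 : ι (φ y) = w y - a • w (v 0 1 0) := by rw [ha]; abel
  rw [map_smul, e2]
  exact add_mem (L.smul_mem _ (sub_mem hyL (L.smul_mem _ hL))) (L.smul_mem _ hL)

/-- **the instance of `Line`** -/
theorem line {n : G} (hn : cj n (Rf i) = Rf j) {m : W} (hme : g m (w (v 0 1 0)) = 0) (hmm : g m m = 0) :
    Line (Rf i) V (Qf i ⊔ Qf j) (Qf i) (YY V Qf i j) n (Lam (Rf i) v w (Submodule.span F {w (v 0 1 0), m})) := by
  have hL : w (v 0 1 0) ∈ Submodule.span F {w (v 0 1 0), m} := Submodule.subset_span (by simp)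
  have hem : g (w (v 0 1 0)) m = 0 := OutL.g_swap D.g o hme
  have hiso : ∀ x ∈ Submodule.span F {w (v 0 1 0), m}, ∀ y ∈ Submodule.span F {w (v 0 1 0), m}, g x y = 0 := by
    intro x hx y hy
    obtain ⟨a, b, rfl⟩ := Submodule.mem_span_pair.1 hx
    obtain ⟨a', b', rfl⟩ := Submodule.mem_span_pair.1 hy
    rw [o.g_add, OutL.g_add' D.g o, OutL.g_add' D.g o, OutL.g_smul' D.g o, OutL.g_smul' D.g o, OutL.g_smul' D.g o,
      OutL.g_smul' D.g o, o.g_smul, o.g_smul, o.g_smul, o.g_smul, o.g_ee, hme, hmm, hem]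
    ring
  have hYg := Yg_eq (i := i) (j := j) D.M D.ne
  refine ⟨OutL.lam_one D.g o hL, fun c hc => hc.1, fun h hh m hm hmN => OutL.lam_mul D.g o hh hm hmN,
    fun x hx hxR h hh => D.lam_X o hL hiso hx hxR hh, ?_, ?_, ?_, ?_⟩
  · intro h hh hN h' hh' hN'
    rw [← hYg]
    exact OutL.Ytr D.g o D.f hme hmm hh hN hh' hN'
  · intro h hh hN x hx
    exact OutL.cen D.g o hL hiso D.hpts hh hx
  · intro h hh hN u hu
    rw [← hYg]
    exact OutL.cov D.g o hL hiso hh hN hu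
  · intro h hh hN r hr hY
    have h1 : n * r * n⁻¹ ∈ Rf j := by
      rw [← hn]; exact conj_mem_cj hr
    obtain ⟨d, hd⟩ := (D.Rj _).1 h1
    rw [hd, ← hYg] at hY
    have h2 := OutL.disj D.g o hL hiso hh hN hY
    rw [h2, GEnd.v_zero D.g] at hd
    calc r = n⁻¹ * (n * r * n⁻¹) * n := by group
      _ = 1 := by rw [hd]; group

/-- **the points of `L` are invariant under `X`** -/
theorem invL [Finite G] {T₀ : Subgroup G} {n : G}
    (B : Base (Rf i) V (Qf i ⊔ Qf j) (Qf i) (YY V Qf i j) T₀ n) (hn : cj n (Rf i) = Rf j)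
    {L : Submodule F W} (hL : w (v 0 1 0) ∈ L) (hiso : ∀ x ∈ L, ∀ y ∈ L, g x y = 0) :
    ∀ x ∈ Qf i ⊔ Qf j, ∀ h ∈ Lam (Rf i) v w L, ∀ x' ∈ Qf i ⊔ Qf j, ∃ h' ∈ Lam (Rf i) v w L,
      ∃ x'' ∈ Qf i ⊔ Qf j, ∃ c ∈ normalizer (Rf i : Set G), x * (h * x') = h' * x'' * c := by
  intro x hx h hh x' hx'
  by_cases hN : h ∈ normalizer (V : Set G)
  · obtain ⟨x'', hx'', c, hc, e⟩ := B.NX _ (mul_mem (B.XN hx) (mul_mem hN (B.XN hx')))
    exact ⟨1, OutL.lam_one D.g o hL, x'', hx'', c, hc, by rw [e, one_mul]⟩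
  · obtain ⟨m, hmL, hne, h1, h2⟩ := OutL.pointL D.g o hL hiso hh hN
    have hle : Submodule.span F {w (v 0 1 0), m} ≤ L := by
      rw [Submodule.span_le]
      rintro z (rfl | rfl)
      · exact hL
      · exact hmL
    have hh' : h ∈ Lam (Rf i) v w (Submodule.span F {w (v 0 1 0), m}) := by
      refine ⟨hh.1, fun b => ?_⟩
      obtain ⟨s, hs⟩ := h1 b
      rw [hs]
      exact Submodule.smul_mem _ _ (Submodule.subset_span (by simp))
    have hl := D.line o hn (hiso m hmL _ hL) (hiso m hmL _ hmL)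
    obtain ⟨h', hh'', x'', hx'', c, hc, e⟩ := B.inv hl hx (g := h * x') ⟨h, hh', x', hx', 1, one_mem _, by group⟩
    exact ⟨h', ⟨hh''.1, fun b => hle (hh''.2 b)⟩, x'', hx'', c, hc, e⟩

/-- **two points are on at most one line** -/
theorem two {n : G} (hn : cj n (Rf i) = Rf j) {c : G} (hc : c ∈ normalizer (Rf i : Set G))
    (hc' : n⁻¹ * c * n ∈ normalizer (Rf i : Set G)) : c ∈ normalizer (V : Set G) := by
  have hcj : cj c (Rf j) = Rf j := by
    have h1 := cj_of_mem_normalizer hc'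
    calc cj c (Rf j) = cj (n * (n⁻¹ * c * n)) (Rf i) := by
          rw [← hn, ← cj_mul]; congr 1; group
      _ = Rf j := by rw [cj_mul, h1, hn]
  apply o.stab c hc
  obtain ⟨y, hy, hy1⟩ := D.g.p_surj 1
  have h1 := D.g.act y hy 0 0 1
  have h2 : c * v 0 0 1 * c⁻¹ ∈ Rf j := by
    rw [← hcj]; exact conj_mem_cj ((D.Rj _).2 ⟨1, rfl⟩)
  obtain ⟨d, hd⟩ := (D.Rj _).1 h2
  have hcy : c * y * c⁻¹ ∈ Qf i := D.g.nor c hc y hy
  have h3 := D.g.act _ hcy 0 0 d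
  -- `[y, v 0 0 1] = v a₀ 1 0`
  have e1 : y * v 0 0 1 * y⁻¹ * (v 0 0 1)⁻¹ = v (T.nm 1) 1 0 := by
    rw [h1, hy1, mul_inv_eq_iff_eq_mul, ← D.g.v_add]
    simp
  have e2 : c * y * c⁻¹ * v 0 0 d * (c * y * c⁻¹)⁻¹ * (v 0 0 d)⁻¹ =
      v (T.nm (p (c * y * c⁻¹)) * d) (p (c * y * c⁻¹) * algebraMap k F d) 0 := by
    rw [h3, mul_inv_eq_iff_eq_mul, ← D.g.v_add]
    simp
  have e3 : c * v (T.nm 1) 1 0 * c⁻¹ = v (T.nm (p (c * y * c⁻¹)) * d) (p (c * y * c⁻¹) * algebraMap k F d) 0 := by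
    rw [← e1, ← e2, ← hd]; group
  refine ⟨p (c * y * c⁻¹) * algebraMap k F d, ?_⟩
  rw [← OutL.w_conj_E D.g o hc (T.nm 1) 1, e3, OutL.w_E D.g o]

/-- every singular vector of `L` lies in some `h e₀`, `h ∈ Lam L` -/
theorem lam_vec {L : Submodule F W} {m : W} (hm0 : m ≠ 0) (hmL : m ∈ L) (hmm : g m m = 0) :
    ∃ h ∈ Lam (Rf i) v w L, ∃ b, w (h * v 0 b 0 * h⁻¹) = m := by
  obtain ⟨c, hc, h1, -, s, hs⟩ := o.tran m hm0 hmm
  have hcR := D.g.CR_le_NR hc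
  have h2 : ∀ b, w (c * v 0 b 0 * c⁻¹) = b • s • m := by
    intro b
    rw [← hs]
    exact h1 b _ (D.g.E_le 0 1) _ (D.g.E_le 0 b) (o.w_e b)
  have hs0 : s ≠ 0 := by
    rintro rfl
    obtain ⟨m', hm', h3, h4⟩ := OutL.point D.g o hcR
    obtain ⟨b, hb⟩ := h4 1
    rw [h2, one_smul, zero_smul, smul_zero] at hb
    exact hm' hb.symm
  refine ⟨c, ⟨hcR, fun b => ?_⟩, s⁻¹, ?_⟩
  · rw [h2]
    exact L.smul_mem _ (L.smul_mem _ hmL)
  · rw [h2, smul_smul, inv_mul_cancel₀ hs0, one_smul]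

/-- `c (Lam L) ≤ Lam L` means `c L ≤ L` -/
theorem lam_stab {L : Submodule F W} (hiso : ∀ x ∈ L, ∀ y ∈ L, g x y = 0) {c : G}
    (hc : c ∈ normalizer (Rf i : Set G)) : (∀ h ∈ Lam (Rf i) v w L, c * h ∈ Lam (Rf i) v w L) ↔
      ∀ y ∈ Qf i, w y ∈ L → w (c * y * c⁻¹) ∈ L := by
  constructor
  · intro h1 y hy hyL
    by_cases h0 : w y = 0
    · have h2 : w (c * y * c⁻¹) = w (c * 1 * c⁻¹) := by
        apply OutL.w_conj_congr D.g o hc hy (one_mem _)
        rw [h0, OutL.w_one D.g o]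
      have e : c * 1 * c⁻¹ = 1 := by group
      rw [h2, e, OutL.w_one D.g o]
      exact L.zero_mem
    · obtain ⟨h, hh, b, hb⟩ := D.lam_vec o h0 hyL (hiso _ hyL _ hyL)
      have h2 := (h1 h hh).2 b
      have e : c * h * v 0 b 0 * (c * h)⁻¹ = c * (h * v 0 b 0 * h⁻¹) * c⁻¹ := by group
      rw [e] at h2
      rwa [OutL.w_conj_congr D.g o hc hy (D.g.nor h hh.1 _ (D.g.E_le 0 b)) hb.symm]
  · intro h1 h hh
    refine ⟨mul_mem hc hh.1, fun b => ?_⟩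
    have e : c * h * v 0 b 0 * (c * h)⁻¹ = c * (h * v 0 b 0 * h⁻¹) * c⁻¹ := by group
    rw [e]
    exact h1 _ (D.g.nor h hh.1 _ (D.g.E_le 0 b)) (hh.2 b)

/-- **the instance of `Plane`**: `Lk k` (`k : K`) = the subspaces `F_2, ..., F_m` of the flag, `Lk k₀ = F_2` -/
theorem plane [Finite G] {K : Type*} {Lk : K → Submodule F W} {k₀ : K} {B P₀ P₁ : Subgroup G}
    (hL : ∀ k, w (v 0 1 0) ∈ Lk k) (hiso : ∀ k, ∀ x ∈ Lk k, ∀ y ∈ Lk k, g x y = 0)
    (hBC : B ≤ normalizer (Rf i : Set G)) (hBV : B ≤ normalizer (V : Set G))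
    (hP₀ : P₀ = (Qf i ⊔ Qf j) ⊔ B) (hBP₁ : B ≤ P₁) (hP₁C : P₁ ≤ normalizer (Rf i : Set G))
    (hP₁L : ∀ k, ∀ c ∈ P₁, ∀ y ∈ Qf i, w y ∈ Lk k → w (c * y * c⁻¹) ∈ Lk k)
    (htr : ∀ h ∈ Lam (Rf i) v w (Lk k₀), ∃ c ∈ P₁, c⁻¹ * h ∈ normalizer (V : Set G))
    (hst : ∀ c ∈ normalizer (Rf i : Set G), c ∈ normalizer (V : Set G) →
      (∀ k, ∀ y ∈ Qf i, w y ∈ Lk k → w (c * y * c⁻¹) ∈ Lk k) → c ∈ B)
    (hcard : B.relIndex P₀ = B.relIndex P₁) :
    ∃ n, Plane (normalizer (Rf i : Set G)) (normalizer (V : Set G)) (Qf i ⊔ Qf j) B P₀ P₁ n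
      (fun k => Lam (Rf i) v w (Lk k)) k₀ := by
  obtain ⟨T₀, n, Bs, hn, -⟩ := D.exists_base o
  refine ⟨n, ?_⟩
  exact
    { BC := hBC
      BN := hBV
      XN := Bs.XN
      P₀_eq := hP₀
      BP₁ := hBP₁
      P₁C := hP₁C
      nX := Bs.nX
      nC := Bs.nC
      NX := Bs.NX
      Xtr := fun x hx hxC => by
        obtain ⟨u, hu, h⟩ := Bs.Qtr x hx hxC
        exact ⟨u, mem_inf.2 ⟨Bs.QX hu, Bs.QC hu⟩, _, h, by group⟩
      two := fun c hc hc' => D.two o hn hc hc'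
      ΛC := fun k h hh => hh.1
      Λmul := fun k h hh m hm hmN => OutL.lam_mul D.g o hh hm hmN
      inv := fun k => D.invL o Bs hn (hL k) (hiso k)
      ΛP₁ := fun k c hc h hh => (D.lam_stab o (hiso k) (hP₁C hc)).2 (hP₁L k c hc) h hh
      one := OutL.lam_one D.g o (hL k₀)
      Λtr := htr
      stab := fun c hc hcV h => hst c hc hcV fun k => (D.lam_stab o (hiso k) hc).1 (h k)
      card := hcard }

end XD

end Cfsg.Agent.Omega.NO1U

end

section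


/-!
# The C-side of NO-1' (β) and node 0

For `P : Pol (N(R)) |k| sg g rho sigma m fl` with `fl 1 = F e₀`, `B = fst ∅`, `P j = fst {j}`, `U = Un`:

* `nd : Nd V Rf Qf i j B U`; `fst_le_N` : `fst J ≤ N(V)` if `1 ∉ J`;
* `gpp01`, `gpp10` : the residue `(0, 1)` is a projective plane;
* `finrank_W : dim W = dim Φ + 2`.
-/

set_option autoImplicit false
set_option linter.unusedVariables false
set_option linter.unusedSectionVars false

open Subgroup Module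
open Cfsg.Agent.Omega.NO1.Beta.Meet Cfsg.Agent.Omega.NOne.SU Cfsg.Agent.ParSys.Polar.Flags
open Cfsg.Agent.ParSys.Polar.Hermit Cfsg.Agent.ParSys.Polar.Unip Cfsg.Agent.ParSys.RankTwo

namespace Cfsg.Agent.Omega.NO1U.CSide

universe u

variable {G : Type u} [Group G] {k F : Type*} [Field k] [Field F] [Algebra k F] {T : Quad k F}
  {S : Sylow 2 G} {I : Type*} {V : Subgroup G} {Rf Qf : I → Subgroup G} {i j : I}
  {v : k → F → k → G} {p p' : G → F}
  {Φ : Type*} [AddCommGroup Φ] [Module F Φ] {φ χ : G → Φ} {hm : Φ → Φ → F}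
  {W : Type*} [AddCommGroup W] [Module F W] {w : G → W} {g : W → W → F} {f₀ : W} {ι : Φ →ₗ[F] W}

variable (D : XD T S V Rf Qf i j v p p' φ χ) (o : Out T V (Rf i) (Qf i) (Qf j) v p φ χ hm w g f₀ ι)

/-- `dim W = dim Φ + 2` -/
theorem finrank_W (D : XD T S V Rf Qf i j v p p' φ χ)
    (o : Out T V (Rf i) (Qf i) (Qf j) v p φ χ hm w g f₀ ι) [Module.Finite F Φ] :
    finrank F W = finrank F Φ + 2 := by
  have H := herm D.g o
  let L : (F × Φ × F) →ₗ[F] W :=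
    { toFun := fun z => z.1 • w (v 0 1 0) + ι z.2.1 + z.2.2 • f₀
      map_add' := fun a b => by
        show (a.1 + b.1) • w (v 0 1 0) + ι (a.2.1 + b.2.1) + (a.2.2 + b.2.2) • f₀ = _
        rw [add_smul, map_add, add_smul]; abel
      map_smul' := fun s a => by
        show (s * a.1) • w (v 0 1 0) + ι (s • a.2.1) + (s * a.2.2) • f₀ = _
        rw [mul_smul, map_smul, mul_smul, ← smul_add, ← smul_add]; rfl }
  have hL : ∀ z, L z = z.1 • w (v 0 1 0) + ι z.2.1 + z.2.2 • f₀ := fun z => rfl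
  have fe : g f₀ (w (v 0 1 0)) = 1 := by rw [o.g_sym, o.g_ef, map_one]
  have ιe : ∀ u, g (ι u) (w (v 0 1 0)) = 0 := fun u => by rw [o.g_sym, o.g_eι, map_zero]
  have ιf : ∀ u, g (ι u) f₀ = 0 := fun u => by rw [o.g_sym, o.g_fι, map_zero]
  have hinj : Function.Injective L := by
    rw [← LinearMap.ker_eq_bot, LinearMap.ker_eq_bot']
    rintro ⟨a, u, b⟩ hz
    rw [hL] at hz
    change a • w (v 0 1 0) + ι u + b • f₀ = 0 at hz
    have h1 : g (a • w (v 0 1 0) + ι u + b • f₀) (w (v 0 1 0)) = b := by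
      rw [o.g_add, o.g_add, o.g_smul, o.g_smul, o.g_ee, ιe, fe]; ring
    have h3 : g (a • w (v 0 1 0) + ι u + b • f₀) f₀ = a := by
      rw [o.g_add, o.g_add, o.g_smul, o.g_smul, o.g_ef, ιf, o.g_ff]; ring
    rw [hz, H.zero_l] at h1 h3
    have hu : u = 0 := o.hm_nondeg u fun u' => by
      rw [← h1, ← h3, zero_smul, zero_smul, zero_add, add_zero] at hz
      rw [← o.g_ιι, hz, H.zero_l]
    rw [hu, ← h1, ← h3]; rfl
  have hsur : Function.Surjective L := by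
    intro z
    obtain ⟨a, x, b, rfl⟩ := o.span z
    exact ⟨(a, x, b), rfl⟩
  have h1 := (LinearEquiv.ofBijective L ⟨hinj, hsur⟩).finrank_eq
  rw [← h1, finrank_prod, finrank_prod, finrank_self]
  ring

section pol

variable {sigma : ↥(normalizer (Rf i : Set G)) →* Equiv.Perm (Submodule F W)} {m : ℕ}
  {fl : ℕ → Submodule F W}
  (P : Pol (normalizer (Rf i : Set G)) (Nat.card k) (sgR T) g (rho D.g o) sigma m fl)
  (hf1 : fl 1 = F ∙ w (v 0 1 0)) (hm1 : 1 ≤ m)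

include D o P hf1

theorem mem_N_of_fix {c : ↥(normalizer (Rf i : Set G))} (hc : sigma c (fl 1) = fl 1) :
    (c : G) ∈ normalizer (V : Set G) := by
  have h1 : rho D.g o c (w (v 0 1 0)) ∈ sigma c (fl 1) :=
    P.A.mem (by rw [hf1]; exact Submodule.mem_span_singleton_self _)
  rw [hc, hf1] at h1
  obtain ⟨s, hs⟩ := Submodule.mem_span_singleton.1 h1
  rw [rho_w D.g o c (D.g.E_le 0 1)] at hs
  exact o.stab c c.2 ⟨s, hs.symm⟩

omit hf1 in
theorem rho_pt {c : ↥(normalizer (Rf i : Set G))} (hN : (c : G) ∈ normalizer (V : Set G)) (b : F) :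
    ∃ b' : F, rho D.g o c (b • w (v 0 1 0)) = b' • w (v 0 1 0) := by
  obtain ⟨a, b', he⟩ := OutL.N_e₀ D.g o c.2 hN b
  refine ⟨b', ?_⟩
  rw [← o.w_e b, rho_w D.g o c (D.g.E_le 0 b), he, OutL.w_E D.g o]

variable [FiniteDimensional F W]

theorem fix_of_mem_N {c : ↥(normalizer (Rf i : Set G))} (hN : (c : G) ∈ normalizer (V : Set G)) :
    sigma c (fl 1) = fl 1 := by
  have := P.finF
  apply eq_of_rk
  · intro z hz
    obtain ⟨x, hx, rfl⟩ := (P.A.sig _ _ _).1 hz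
    rw [hf1] at hx ⊢
    obtain ⟨b, rfl⟩ := Submodule.mem_span_singleton.1 hx
    obtain ⟨b', hb⟩ := rho_pt D o P hN b
    rw [hb]
    exact Submodule.smul_mem _ _ (Submodule.mem_span_singleton_self _)
  · exact P.A.card_eq _ _

include hm1

/-- `fst J ≤ N(V)` if `1 ∉ J` -/
theorem fst_le_N {J : Set ℕ} (hJ : 1 ∉ J) :
    fst (normalizer (Rf i : Set G)) sigma m fl J ≤ normalizer (V : Set G) :=
  fun x hx => mem_N_of_fix D o P hf1 (c := ⟨x, hx.1⟩) (hx.2 1 hm1 hJ)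

omit hf1 hm1 in
theorem fix_of_le {c : ↥(normalizer (Rf i : Set G))} {X : Submodule F W}
    (h : ∀ x ∈ X, rho D.g o c x ∈ X) : sigma c X = X := by
  have := P.finF
  apply eq_of_rk
  · intro z hz
    obtain ⟨x, hx, rfl⟩ := (P.A.sig _ _ _).1 hz
    exact h x hx
  · exact P.A.card_eq _ _

theorem mem_B {c : G} (hc : c ∈ normalizer (Rf i : Set G)) (hN : c ∈ normalizer (V : Set G))
    (h : ∀ d, 2 ≤ d → d ≤ m → ∀ y ∈ Qf i, w y ∈ fl d → w (c * y * c⁻¹) ∈ fl d) :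
    c ∈ fst (normalizer (Rf i : Set G)) sigma m fl ∅ := by
  refine ⟨hc, fun d hd _ => ?_⟩
  rcases Nat.lt_or_ge d 2 with h2 | h2
  · rcases Nat.lt_or_ge d 1 with h3 | h3
    · obtain rfl : d = 0 := by omega
      refine fix_of_le D o P fun x hx => ?_
      rw [P.hf.zero, Submodule.mem_bot] at hx ⊢
      rw [hx, map_zero]
    · obtain rfl : d = 1 := by omega
      exact fix_of_mem_N D o P hf1 hN
  · refine fix_of_le D o P fun x hx => ?_
    obtain ⟨y, hy, rfl⟩ := o.w_surj x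
    rw [rho_w D.g o _ hy]
    exact h d h2 hd y hy hx

/-- `X ∩ N(R) ≤ B` -/
theorem XB : (Qf i ⊔ Qf j) ⊓ normalizer (Rf i : Set G) ≤ fst (normalizer (Rf i : Set G)) sigma m fl ∅ := by
  intro x hx'
  obtain ⟨hx, hxR⟩ := mem_inf.1 hx'
  have hxV : x ∈ normalizer (V : Set G) := XD.X_le_N D.M hx
  obtain ⟨s, hs, hsc⟩ := D.scal hx hxR
  refine mem_B D o P hf1 hm1 hxR hxV fun d hd2 hd y hy hyd => ?_
  have heL : w (v 0 1 0) ∈ fl d := P.hf.le (a := 1) (by omega) hd (by rw [hf1]; exact Submodule.mem_span_singleton_self _)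
  have h0 : g (w y) (w (v 0 1 0)) = 0 :=
    P.hf.sing _ (P.hf.le hd le_rfl hyd) _ (P.hf.le hd le_rfl heL)
  have hyV : y ∈ centralizer (V : Set G) := (OutL.mem_CV_iff D.g o hy).2 h0
  obtain ⟨h1, h2⟩ := hsc y (mem_inf.2 ⟨hy, hyV⟩)
  obtain ⟨a, ha⟩ := o.φ_eq y hy hyV
  obtain ⟨a', ha'⟩ := o.φ_eq _ (mem_inf.1 h1).1 (mem_inf.1 h1).2
  have h3 : ι (φ y) ∈ fl d := by
    have h4 : ι (φ y) = w y - a • w (v 0 1 0) := by rw [ha]; abel
    rw [h4]
    exact Submodule.sub_mem _ hyd (Submodule.smul_mem _ _ heL)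
  rw [ha', h2, map_smul]
  exact Submodule.add_mem _ (Submodule.smul_mem _ _ h3) (Submodule.smul_mem _ _ heL)

/-- **the data at node 0** -/
theorem nd : Nd V Rf Qf i j (fst (normalizer (Rf i : Set G)) sigma m fl ∅) (Un P.A m fl) where
  BR := fst_le
  BV := fst_le_N D o P hf1 hm1 (Set.notMem_empty 1)
  XB := XB D o P hf1 hm1
  UB := un_le P.A
  nor := fun b hb u hu => P.clo le_rfl hm1 u hu b (fst_mono (Set.empty_subset _) hb)
    (mul_mem (mul_mem (inv_mem hb) (un_le P.A hu)) hb)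
  YU := by
    refine sup_le ?_ ?_
    · intro x hx
      have hxQ := (mem_inf.1 hx).1
      exact ⟨Q_le D.g hxQ, P.isUn_triv fun m => rho_Q D.g o hxQ _ m⟩
    · intro x hx
      obtain ⟨hxQ, hxV⟩ := mem_inf.1 hx
      have hxR : x ∈ normalizer (Rf i : Set G) := D.g.CR_le_NR (D.g.CV_le_CR hxV)
      obtain ⟨r, hr, hact⟩ := o.χ_act x hxQ hxV
      refine ⟨hxR, P.isUn_siegel (i := 1) (y := w (v 0 1 0)) (w := ι (χ x)) (a := r) hm1
        (by rw [hf1]; exact Submodule.mem_span_singleton_self _) ?_ (by rw [sgR_apply, hr, o.g_ιι]) ?_⟩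
      · rw [hf1, P.H.mem_perp_span, o.g_sym, o.g_eι, map_zero]
      · intro m
        obtain ⟨y, hy, rfl⟩ := o.w_surj m
        rw [rho_w D.g o _ hy]
        exact hact y hy
  UQ := by
    rintro u ⟨huR, hu⟩
    have huV : u ∈ normalizer (V : Set G) := mem_N_of_fix D o P hf1 (hu.fix 1 hm1)
    have H := P.H
    have he : rho D.g o ⟨u, huR⟩ (w (v 0 1 0)) = w (v 0 1 0) := by
      have h1 := hu.step 0 (by omega) (w (v 0 1 0)) (by
        show _ ∈ fl 1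
        rw [hf1]; exact Submodule.mem_span_singleton_self _)
      rw [P.hf.zero, Submodule.mem_bot, sub_eq_zero] at h1
      exact h1
    refine D.mem_QC huV ?_ ?_ ?_
    · rw [mem_centralizer_iff]
      intro r hr
      obtain ⟨a, rfl⟩ := D.g.mem_R.1 hr
      obtain ⟨x₀, hx₀⟩ := T.exists_tr_ne D.g.h2
      obtain ⟨y, hy, hyf⟩ := o.w_surj f₀
      have h1 : T.tr ((a / T.tr x₀) • x₀) = a := by
        rw [map_smul, smul_eq_mul, div_mul_cancel₀ _ hx₀]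
      set b := (a / T.tr x₀) • x₀
      have h2 := o.comm _ (D.g.E_le 0 b) y hy
      rw [o.w_e, hyf, o.g_smul, o.g_ef, mul_one, h1] at h2
      have h3 := o.comm _ (D.g.nor u huR _ (D.g.E_le 0 b)) _ (D.g.nor u huR _ hy)
      have e1 : w (u * v 0 b 0 * u⁻¹) = rho D.g o ⟨u, huR⟩ (w (v 0 b 0)) :=
        (rho_w D.g o ⟨u, huR⟩ (D.g.E_le 0 b)).symm
      have e2 : w (u * y * u⁻¹) = rho D.g o ⟨u, huR⟩ (w y) := (rho_w D.g o ⟨u, huR⟩ hy).symm
      rw [e1, e2, hu.iso, o.w_e, hyf, o.g_smul, o.g_ef, mul_one, h1] at h3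
      have h4 : u * v a 0 0 * u⁻¹ = v a 0 0 := by
        calc u * v a 0 0 * u⁻¹ = u * (v 0 b 0 * y * (v 0 b 0)⁻¹ * y⁻¹) * u⁻¹ := by rw [h2]
          _ = (u * v 0 b 0 * u⁻¹) * (u * y * u⁻¹) * (u * v 0 b 0 * u⁻¹)⁻¹ * (u * y * u⁻¹)⁻¹ := by group
          _ = v a 0 0 := h3
      calc v a 0 0 * u = (u * v a 0 0 * u⁻¹) * u := by rw [h4]
        _ = u * v a 0 0 := by group
    · intro b
      obtain ⟨a, b', hb⟩ := OutL.N_e₀ D.g o huR huV b
      refine ⟨a, ?_⟩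
      have h1 := rho_w D.g o ⟨u, huR⟩ (D.g.E_le 0 b)
      rw [o.w_e b, hu.lin, he] at h1
      change b • w (v 0 1 0) = w (u * v 0 b 0 * u⁻¹) at h1
      rw [hb, OutL.w_E D.g o a b'] at h1
      have h2 : (b - b') • w (v 0 1 0) = 0 := by rw [sub_smul, h1, sub_self]
      rcases smul_eq_zero.1 h2 with h3 | h3
      · rw [hb, sub_eq_zero.1 h3]
      · exact absurd h3 (OutL.e₀_ne D.g o)
    · intro y hy
      rw [o.p_eq _ (D.g.nor u huR _ hy), o.p_eq y hy]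
      have e2 : w (u * y * u⁻¹) = rho D.g o ⟨u, huR⟩ (w y) := (rho_w D.g o ⟨u, huR⟩ hy).symm
      have e3 : g (rho D.g o ⟨u, huR⟩ (w y)) (rho D.g o ⟨u, huR⟩ (w (v 0 1 0))) = g (w y) (w (v 0 1 0)) :=
        hu.iso _ _
      rw [he] at e3
      rw [e2, e3]

/-- `P_1` is transitive on the points of `fl 2` -/
theorem htr {h : G} (hh : h ∈ Lam (Rf i) v w (fl 2)) :
    ∃ c ∈ fst (normalizer (Rf i : Set G)) sigma m fl {1}, c⁻¹ * h ∈ normalizer (V : Set G) := by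
  obtain ⟨hR, hb⟩ := hh
  have hX : sigma ⟨h, hR⟩ (fl 1) ∈ Cfsg.Agent.ParSys.Polar.Flags.Pan (TI g) m fl 1 := by
    refine ⟨P.act.sing _ (P.hf.si P.polSp hm1), by rw [P.act.rk, P.hf.rk 1 hm1], fun d hd => ?_, fun _ => ?_⟩
    · obtain rfl : d = 0 := by omega
      rw [P.hf.zero]; exact bot_le
    · intro z hz
      obtain ⟨x, hx, rfl⟩ := (P.A.sig _ _ _).1 hz
      rw [hf1] at hx
      obtain ⟨b, rfl⟩ := Submodule.mem_span_singleton.1 hx
      rw [← o.w_e b, rho_w D.g o _ (D.g.E_le 0 b)]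
      exact hb b
  obtain ⟨c, hc, hc1⟩ := exists_pan P.polSp P.act P.hf hm1 hX
  refine ⟨c, hc, ?_⟩
  have h1 : sigma (c⁻¹ * ⟨h, hR⟩) (fl 1) = fl 1 := by
    rw [map_mul, Equiv.Perm.mul_apply, ← hc1, map_inv]
    exact (sigma c).symm_apply_apply _
  exact mem_N_of_fix D o P hf1 h1

/-- **the residue `(0, 1)`** -/
theorem gpp01 [Finite G] (hm2 : 2 ≤ m) {J : Type*} {PP : J → Subgroup G} {a b : J} (hab : a ≠ b)
    (hBP : ∀ c, fst (normalizer (Rf i : Set G)) sigma m fl ∅ ≤ PP c)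
    (ha : PP a = (Qf i ⊔ Qf j) ⊔ fst (normalizer (Rf i : Set G)) sigma m fl ∅)
    (hb : PP b = fst (normalizer (Rf i : Set G)) sigma m fl {1}) :
    GPp (fst (normalizer (Rf i : Set G)) sigma m fl ∅) PP a b 3 ∧
      GPp (fst (normalizer (Rf i : Set G)) sigma m fl ∅) PP b a 3 := by
  have E := nd D o P hf1 hm1
  obtain ⟨n, hn⟩ := D.plane o (K := {d : ℕ // 2 ≤ d ∧ d ≤ m}) (Lk := fun d => fl d) (k₀ := ⟨2, le_rfl, hm2⟩)
    (B := fst (normalizer (Rf i : Set G)) sigma m fl ∅)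
    (P₀ := (Qf i ⊔ Qf j) ⊔ fst (normalizer (Rf i : Set G)) sigma m fl ∅)
    (P₁ := fst (normalizer (Rf i : Set G)) sigma m fl {1})
    (fun d => P.hf.le (a := 1) (by have := d.2.1; omega) d.2.2 (by
      rw [hf1]; exact Submodule.mem_span_singleton_self _))
    (fun d x hx y hy => P.hf.sing x (P.hf.le d.2.2 le_rfl hx) y (P.hf.le d.2.2 le_rfl hy))
    E.BR E.BV rfl (fst_mono (Set.empty_subset _)) fst_le
    (fun d c hc y hy hyd => by
      have h1 : sigma ⟨c, hc.1⟩ (fl d) = fl d := hc.2 d d.2.2 (by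
        rw [Set.mem_singleton_iff]; have := d.2.1; omega)
      have h2 := P.A.mem (c := ⟨c, hc.1⟩) hyd
      rw [h1, rho_w D.g o _ hy] at h2
      exact h2)
    (fun h hh => htr D o P hf1 hm1 hh)
    (fun c hc hcV h => mem_B D o P hf1 hm1 hc hcV fun d h2 hd y hy hyd => h ⟨d, h2, hd⟩ y hy hyd)
    (by rw [Nd.card D E, P.relIndex_lt le_rfl (by omega)])
  exact hn.gpp hBP hab ha hb

end pol

end Cfsg.Agent.Omega.NO1U.CSide

end

end
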